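import Mathlib

/-!
# The integral contribution matrices

The combinatorial core: integral matrices with the properties of the contributions of the principal
block at the sections of a Sylow subgroup of order 27.
-/

set_option autoImplicit false
set_option linter.unusedSectionVars false
set_option linter.unusedVariables false

noncomputable section

namespace CfsgLib.ExtraTwentySeven

open scoped Classical

variable {ι : Type*} [Fintype ι] {X : Type*} [Fintype X]

/-- The contribution of the noncentral sections. -/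
def colA (a : X → ι → ℤ) (i k : ι) : ℤ := ∑ x, a x i * a x k

/-- The contribution of the regular section. -/
def matN (T : ι → ι → ℤ) (a : X → ι → ℤ) (i k : ι) : ℤ :=
  3 * T i k + (if i = k then 9 else 0) - colA a i k

/-- Twice the contribution of the central section. -/
def matB (T : ι → ι → ℤ) (a : X → ι → ℤ) (i k : ι) : ℤ :=
  (if i = k then 18 else 0) - 3 * T i k - 2 * colA a i k

/-- The properties of the contributions. -/
structure Data (o : ι) (deg : ι → ℤ) (T : ι → ι → ℤ) (a : X → ι → ℤ) (l lb : ℕ) : Prop where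
  deg_pos : ∀ i, 0 < deg i
  deg_o : deg o = 1
  a_o : ∀ x, a x o = 1
  symm : ∀ i k, T i k = T k i
  diag_even : ∀ i, ∃ d, T i i = 2 * d
  orth : ∀ x y, ∑ k, a x k * a y k = if x = y then 9 else 0
  sum_deg : ∀ x, ∑ k, a x k * deg k = 0
  congr_deg : ∀ x i, (3 : ℤ) ∣ deg i - a x i
  annih : ∀ x i, ∑ k, a x k * matN T a i k = 0
  idem : ∀ i, ∑ k, matN T a i k * matN T a i k = 27 * matN T a i i
  ne_zero : ∀ i, matN T a i o ≠ 0
  congr : ∀ v : ι → ℤ, (∀ x, ∑ k, v k * a x k = 0) → (3 : ℤ) ∣ ∑ i, ∑ k, v i * v k * T i k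
  nonneg : ∀ i, 0 ≤ matN T a i i ∧ 0 ≤ matB T a i i
  csN : ∀ i, matN T a i o ^ 2 ≤ matN T a o o * matN T a i i ∧
    (matN T a i o ^ 2 = matN T a o o * matN T a i i → matN T a o o ∣ matN T a i o)
  csB : ∀ i, matB T a i o ^ 2 ≤ matB T a o o * matB T a i i ∧
    (matB T a i o ^ 2 = matB T a o o * matB T a i i → matB T a o o ∣ matB T a i o)
  galois : ∀ i, Odd (T i o) → matN T a i i + 3 * colA a i i - matB T a i i ≤ 0
  traceN : ∑ i, matN T a i i = 27 * (l : ℤ)
  traceB : ∑ i, matB T a i i = 54 * (lb : ℤ)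

/-- The extra properties in a group where the central element is central. -/
structure Central (o : ι) (T : ι → ι → ℤ) (a : X → ι → ℤ) (s : ι → ℕ) : Prop where
  s_o : s o = 0
  s_lt : ∀ i, s i < 3
  s_a : ∀ i, s i ≠ 0 → ∀ x, a x i = 0
  same : ∀ i k, s i = s k → matB T a i k = 2 * matN T a i k
  trace_sector : ∀ r < 3, ∑ i ∈ Finset.univ.filter (s · = r), matN T a i i =
    ∑ i ∈ Finset.univ.filter (s · = 0), matN T a i i
  norm_sector : ∀ k, ∀ r < 3, ∑ i ∈ Finset.univ.filter (s · = r), matN T a k i ^ 2 =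
    ∑ i ∈ Finset.univ.filter (s · = 0), matN T a k i ^ 2
  adjacent : ∀ i k, s i = 0 → s k = 1 → (3 : ℤ) ∣ matN T a k i

variable {o : ι} {deg : ι → ℤ} {T : ι → ι → ℤ} {a : X → ι → ℤ} {l lb : ℕ}

namespace Data

variable (D : Data o deg T a l lb)
include D

theorem congr_col (x y : X) (i : ι) : (3 : ℤ) ∣ a x i - a y i := by
  have h := dvd_sub (D.congr_deg y i) (D.congr_deg x i)
  rwa [show deg i - a y i - (deg i - a x i) = a x i - a y i by ring] at h

theorem abs_le_two (x : X) (i : ι) : -2 ≤ a x i ∧ a x i ≤ 2 := by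
  rcases eq_or_ne i o with rfl | hne
  · rw [D.a_o]; norm_num
  have h := D.orth x x
  rw [if_pos rfl] at h
  have h2 : a x o * a x o + a x i * a x i ≤ 9 := by
    rw [← h]
    have := Finset.sum_le_sum_of_subset_of_nonneg (f := fun k => a x k * a x k)
      (Finset.subset_univ {o, i}) (fun k _ _ => mul_self_nonneg _)
    rwa [Finset.sum_pair (Ne.symm hne)] at this
  rw [D.a_o] at h2
  constructor <;> nlinarith

theorem eq_zero_iff (x y : X) (i : ι) : a x i = 0 ↔ a y i = 0 := by
  obtain ⟨h1, h2⟩ := D.abs_le_two x i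
  obtain ⟨h3, h4⟩ := D.abs_le_two y i
  have := D.congr_col x y i
  omega

theorem ne_zero_iff (x : X) (i : ι) : a x i ≠ 0 ↔ ¬ (3 : ℤ) ∣ deg i := by
  obtain ⟨h1, h2⟩ := D.abs_le_two x i
  have := D.congr_deg x i
  omega

/-- The positions of the entries `±1` and `±2`. -/
theorem pattern (x : X) :
    ((Finset.univ.filter fun i => a x i ≠ 0).card = 9 ∧ ∀ i, a x i ^ 2 ≠ 4) ∨
      ((Finset.univ.filter fun i => a x i ≠ 0).card = 6 ∧
        (Finset.univ.filter fun i => a x i ^ 2 = 4).card = 1) := by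
  set S1 := Finset.univ.filter fun i => a x i ^ 2 = 1 with hS1
  set S2 := Finset.univ.filter fun i => a x i ^ 2 = 4 with hS2
  have hval : ∀ i, a x i = 0 ∨ a x i = 1 ∨ a x i = -1 ∨ a x i = 2 ∨ a x i = -2 := fun i => by
    have := D.abs_le_two x i; omega
  have hsum : (S1.card : ℤ) + 4 * S2.card = 9 := by
    have h := D.orth x x
    rw [if_pos rfl, Finset.sum_congr rfl (g := fun i =>
      (if a x i ^ 2 = 1 then (1 : ℤ) else 0) + 4 * (if a x i ^ 2 = 4 then (1 : ℤ) else 0))
      (fun i _ => by rcases hval i with h | h | h | h | h <;> rw [h] <;> norm_num),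
      Finset.sum_add_distrib, ← Finset.mul_sum, Finset.sum_boole, Finset.sum_boole] at h
    exact_mod_cast h
  have hsupp : (Finset.univ.filter fun i => a x i ≠ 0).card = S1.card + S2.card := by
    rw [← Finset.card_union_of_disjoint]
    · congr 1
      ext i
      simp only [hS1, hS2, Finset.mem_filter, Finset.mem_union, Finset.mem_univ, true_and]
      rcases hval i with h | h | h | h | h <;> rw [h] <;> norm_num
    · refine Finset.disjoint_filter.2 fun i _ h1 h2 => ?_
      omega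
  rcases Nat.lt_or_ge S2.card 2 with h2 | h2
  · interval_cases hc : S2.card
    · refine Or.inl ⟨by omega, fun i hi => ?_⟩
      have : i ∈ S2 := Finset.mem_filter.2 ⟨Finset.mem_univ i, hi⟩
      rw [Finset.card_eq_zero] at hc
      rw [hc] at this
      exact absurd this (Finset.notMem_empty i)
    · exact Or.inr ⟨by omega, rfl⟩
  · exfalso
    have h1 : S1.card = 1 := by omega
    have ho : o ∈ S1 := Finset.mem_filter.2 ⟨Finset.mem_univ o, by rw [D.a_o]; norm_num⟩
    have hdeg := D.sum_deg x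
    rw [← Finset.add_sum_erase Finset.univ _ (Finset.mem_univ o), D.a_o, D.deg_o] at hdeg
    have heven : (2 : ℤ) ∣ ∑ k ∈ Finset.univ.erase o, a x k * deg k := by
      refine Finset.dvd_sum fun k hk => Dvd.dvd.mul_right ?_ _
      have hk1 : k ∉ S1 := fun h => by
        obtain ⟨u, hu⟩ := Finset.card_eq_one.1 h1
        rw [hu, Finset.mem_singleton] at h ho
        exact (Finset.mem_erase.1 hk).1 (h.trans ho.symm)
      simp only [hS1, Finset.mem_filter, Finset.mem_univ, true_and] at hk1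
      rcases hval k with h | h | h | h | h <;> rw [h] at hk1 ⊢ <;> first | (norm_num at hk1; done) | norm_num
    omega

theorem card_two_le (x : X) : (Finset.univ.filter fun i => a x i ^ 2 = 4).card ≤ 1 := by
  rcases D.pattern x with ⟨-, h⟩ | ⟨-, h⟩
  · rw [Finset.filter_eq_empty_iff.2 fun i _ => h i]; simp
  · omega

theorem diff_support {x y : X} (hxy : x ≠ y) :
    (Finset.univ.filter fun i => a x i ≠ a y i).card = 2 ∧
      ∀ i, a x i ≠ a y i → a x i ^ 2 = 4 ∨ a y i ^ 2 = 4 := by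
  have hval : ∀ i, a x i ≠ a y i →
      (a x i - a y i) * (a x i - a y i) = 9 ∧ (a x i ^ 2 = 4 ∨ a y i ^ 2 = 4) := by
    intro i hi
    obtain ⟨h1, h2⟩ := D.abs_le_two x i
    obtain ⟨h3, h4⟩ := D.abs_le_two y i
    have := D.congr_col x y i
    interval_cases a x i <;> interval_cases a y i <;> first | omega | norm_num at *
  refine ⟨?_, fun i hi => (hval i hi).2⟩
  have h : ∑ k, (a x k - a y k) * (a x k - a y k) = 18 := by
    have hx := D.orth x x
    have hy := D.orth y y
    have hz := D.orth x y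
    rw [if_pos rfl] at hx hy
    rw [if_neg hxy] at hz
    have e : ∀ k, (a x k - a y k) * (a x k - a y k) =
        a x k * a x k + a y k * a y k - 2 * (a x k * a y k) := fun k => by ring
    rw [Finset.sum_congr rfl fun k _ => e k, Finset.sum_sub_distrib, Finset.sum_add_distrib,
      ← Finset.mul_sum, hx, hy, hz]
    norm_num
  rw [← Finset.sum_filter_add_sum_filter_not Finset.univ (fun i => a x i ≠ a y i),
    Finset.sum_congr rfl fun i hi => (hval i (Finset.mem_filter.1 hi).2).1, Finset.sum_const,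
    Finset.sum_eq_zero (s := Finset.univ.filter fun i => ¬ a x i ≠ a y i) fun i hi => by
      rw [not_not.1 (Finset.mem_filter.1 hi).2, sub_self, mul_zero]] at h
  simp only [nsmul_eq_mul, add_zero] at h
  omega

theorem six_of_ne {x y : X} (hxy : x ≠ y) :
    (Finset.univ.filter fun i => a x i ≠ 0).card = 6 := by
  rcases D.pattern x with ⟨-, h⟩ | ⟨h, -⟩
  · exfalso
    obtain ⟨h2, hd⟩ := D.diff_support hxy
    have := Finset.card_le_card (s := Finset.univ.filter fun i => a x i ≠ a y i)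
      (t := Finset.univ.filter fun i => a y i ^ 2 = 4) fun i hi => by
        have hi' := (Finset.mem_filter.1 hi).2
        exact Finset.mem_filter.2 ⟨Finset.mem_univ i, (hd i hi').resolve_left (h i)⟩
    have := D.card_two_le y
    omega
  · exact h

theorem supp_eq (x y : X) :
    (Finset.univ.filter fun i => a x i ≠ 0) = Finset.univ.filter fun i => a y i ≠ 0 :=
  Finset.filter_congr fun i _ => not_congr (D.eq_zero_iff x y i)

/-- The shape of a row in the support. -/
theorem row_type (x : X) {i : ι} (hi : a x i ≠ 0) :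
    ∃ ε : ℤ, (ε = 1 ∨ ε = -1) ∧ ((∀ y, a y i = ε) ∨
      ∃ x₀, a x₀ i = 2 * ε ∧ ∀ y, y ≠ x₀ → a y i = -ε) := by
  by_cases h : ∃ x₀, a x₀ i ^ 2 = 4
  · obtain ⟨x₀, hx₀⟩ := h
    have h2 : a x₀ i = 2 ∨ a x₀ i = -2 := by
      have := D.abs_le_two x₀ i
      obtain ⟨h1, h2⟩ := this
      interval_cases a x₀ i <;> first | omega | norm_num at hx₀
    have hoth : ∀ y, y ≠ x₀ → a y i ^ 2 ≠ 4 := by
      intro y hy h4
      obtain ⟨hc, hd⟩ := D.diff_support hy
      have heq : a y i = a x₀ i := by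
        have h1 := D.abs_le_two y i
        have h3 := D.congr_col y x₀ i
        have h5 : a y i = 2 ∨ a y i = -2 := by
          obtain ⟨h6, h7⟩ := h1
          interval_cases a y i <;> first | omega | norm_num at h4
        omega
      have hsub : ∀ j, a y j ≠ a x₀ j → False := by
        intro j hj
        have hji : j ≠ i := fun e => hj (e ▸ heq)
        rcases hd j hj with h | h
        · exact hji (Finset.card_le_one.1 (D.card_two_le y) j
            (Finset.mem_filter.2 ⟨Finset.mem_univ j, h⟩) i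
            (Finset.mem_filter.2 ⟨Finset.mem_univ i, h4⟩))
        · exact hji (Finset.card_le_one.1 (D.card_two_le x₀) j
            (Finset.mem_filter.2 ⟨Finset.mem_univ j, h⟩) i
            (Finset.mem_filter.2 ⟨Finset.mem_univ i, hx₀⟩))
      rw [Finset.filter_eq_empty_iff.2 fun j _ => hsub j] at hc
      simp at hc
    rcases h2 with h2 | h2
    · refine ⟨1, Or.inl rfl, Or.inr ⟨x₀, by rw [h2]; norm_num, fun y hy => ?_⟩⟩
      have h3 := D.congr_col y x₀ i
      have h4 := D.abs_le_two y i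
      have h5 : a y i ≠ 2 := fun e => hoth y hy (by rw [e]; norm_num)
      omega
    · refine ⟨-1, Or.inr rfl, Or.inr ⟨x₀, by rw [h2]; norm_num, fun y hy => ?_⟩⟩
      have h3 := D.congr_col y x₀ i
      have h4 := D.abs_le_two y i
      have h5 : a y i ≠ -2 := fun e => hoth y hy (by rw [e]; norm_num)
      omega
  · push Not at h
    have hval : ∀ y, a y i = 1 ∨ a y i = -1 := fun y => by
      have h1 := D.abs_le_two y i
      have h2 : a y i ≠ 0 := fun e => hi ((D.eq_zero_iff x y i).2 e)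
      have h3 : a y i ≠ 2 := fun e => h y (by rw [e]; norm_num)
      have h4 : a y i ≠ -2 := fun e => h y (by rw [e]; norm_num)
      omega
    refine ⟨a x i, hval x, Or.inl fun y => ?_⟩
    have := D.congr_col y x i
    rcases hval x with e | e <;> rcases hval y with e' | e' <;> omega

theorem sum_aA (x : X) (i : ι) : ∑ k, a x k * colA a i k = 9 * a x i := by
  simp only [colA, Finset.mul_sum]
  rw [Finset.sum_comm]
  have e : ∀ y, ∑ k, a x k * (a y i * a y k) = a y i * ∑ k, a x k * a y k := fun y => by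
    rw [Finset.mul_sum]; exact Finset.sum_congr rfl fun k _ => by ring
  simp only [e, D.orth, mul_ite, mul_zero, Finset.sum_ite_eq, Finset.mem_univ, if_true]
  ring

theorem sum_aT (x : X) (i : ι) : ∑ k, a x k * T i k = 0 := by
  have h := D.annih x i
  have hA := D.sum_aA x i
  have e : ∀ k, a x k * matN T a i k =
      3 * (a x k * T i k) + (if i = k then 9 * a x k else 0) - a x k * colA a i k := fun k => by
    simp only [matN]; split_ifs <;> ring
  simp only [e, Finset.sum_sub_distrib, Finset.sum_add_distrib, ← Finset.mul_sum, hA,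
    Finset.sum_ite_eq, Finset.mem_univ, if_true] at h
  linarith

theorem row_norm (i : ι) : ∑ k, T i k ^ 2 = 3 * T i i + 18 - 2 * colA a i i := by
  have hTA : ∑ k, T i k * colA a i k = 0 := by
    simp only [colA, Finset.mul_sum]
    rw [Finset.sum_comm]
    refine Finset.sum_eq_zero fun x _ => ?_
    have e : ∀ k, T i k * (a x i * a x k) = a x i * (a x k * T i k) := fun k => by ring
    rw [Finset.sum_congr rfl fun k _ => e k, ← Finset.mul_sum, D.sum_aT, mul_zero]
  have hAA : ∑ k, colA a i k * colA a i k = 9 * colA a i i := by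
    have e : ∀ k, colA a i k * colA a i k = ∑ x, a x i * (a x k * colA a i k) := fun k => by
      nth_rewrite 1 [colA]
      rw [Finset.sum_mul]
      exact Finset.sum_congr rfl fun x _ => mul_assoc _ _ _
    rw [Finset.sum_congr rfl fun k _ => e k, Finset.sum_comm]
    simp only [← Finset.mul_sum, D.sum_aA]
    rw [colA, Finset.mul_sum]
    exact Finset.sum_congr rfl fun x _ => by ring
  have h := D.idem i
  have e : ∀ k, matN T a i k * matN T a i k = 9 * T i k ^ 2 +
      (if i = k then 54 * T i k + 81 - 18 * colA a i k else 0) + colA a i k * colA a i k -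
      6 * (T i k * colA a i k) := fun k => by
    simp only [matN]; split_ifs <;> ring
  simp only [e, Finset.sum_sub_distrib, Finset.sum_add_distrib, ← Finset.mul_sum, hTA, hAA,
    Finset.sum_ite_eq, Finset.mem_univ, if_true] at h
  simp only [matN, if_true] at h
  linarith

theorem zero_row (x : X) {i : ι} (hi : a x i = 0) :
    T i i = 0 ∧ colA a i i = 0 ∧ i ≠ o := by
  have hA : ∀ k, colA a i k = 0 := fun k => Finset.sum_eq_zero fun y _ => by
    rw [(D.eq_zero_iff x y i).1 hi, zero_mul]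
  have hne : i ≠ o := fun e => by rw [e, D.a_o] at hi; norm_num at hi
  refine ⟨?_, hA i, hne⟩
  obtain ⟨d, hd⟩ := D.diag_even i
  have hcon := D.congr (fun k => if k = i then 1 else 0) fun y => by
    simp [(D.eq_zero_iff x y i).1 hi]
  simp [Finset.sum_ite_eq', hd] at hcon
  obtain ⟨hN, hB⟩ := D.nonneg i
  simp only [matN, matB, if_true, hA, hd] at hN hB
  have h3 : d = 0 ∨ d = 3 := by omega
  rcases h3 with rfl | rfl
  · simpa using hd
  exfalso
  have hn := D.row_norm i
  rw [hA, hd, ← Finset.add_sum_erase Finset.univ _ (Finset.mem_univ i), hd] at hn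
  have h0 : ∑ k ∈ Finset.univ.erase i, T i k ^ 2 = 0 := by linarith
  have hio : T i o = 0 := by
    have := (Finset.sum_eq_zero_iff_of_nonneg fun k _ => sq_nonneg (T i k)).1 h0 o
      (Finset.mem_erase.2 ⟨hne.symm, Finset.mem_univ o⟩)
    simpa using this
  exact D.ne_zero i (by simp [matN, hne, hA, hio])

/-- The pairing of the two rows with an entry of absolute value two, for two columns. -/
theorem pair_congr {x y : X} (hxy : x ≠ y) (hall : ∀ w, w = x ∨ w = y) (hoo : T o o = 0) {i : ι}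
    {ε : ℤ} (hε : ε = 1 ∨ ε = -1) (hx : a x i = 2 * ε) (hy : a y i = -ε) :
    (3 : ℤ) ∣ T i i - ε * T i o := by
  obtain ⟨hc, hd⟩ := D.diff_support hxy
  have hyx : y ≠ x := hxy.symm
  -- the row carrying the `±2` of the other column
  obtain ⟨j, hji, hj⟩ : ∃ j, j ≠ i ∧ a x j ≠ a y j := by
    by_contra! h
    have : (Finset.univ.filter fun k => a x k ≠ a y k).card ≤ 1 :=
      Finset.card_le_one.2 fun p hp q hq =>
        (by_contra fun hne => (Finset.mem_filter.1 hp).2 (h p hne)).trans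
          (by_contra fun hne => (Finset.mem_filter.1 hq).2 (h q (Ne.symm hne)))
    omega
  have hpair : (Finset.univ.filter fun k => a x k ≠ a y k) = {i, j} := by
    refine (Finset.eq_of_subset_of_card_le (fun k hk => ?_) ?_).symm
    · rw [Finset.mem_insert, Finset.mem_singleton] at hk
      refine Finset.mem_filter.2 ⟨Finset.mem_univ k, ?_⟩
      rcases hk with rfl | rfl
      · rw [hx, hy]; omega
      · exact hj
    · rw [hc, Finset.card_pair hji.symm]
  have hj4 : a y j ^ 2 = 4 := (hd j hj).resolve_left fun h =>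
    hji (Finset.card_le_one.1 (D.card_two_le x) j (Finset.mem_filter.2 ⟨Finset.mem_univ j, h⟩) i
      (Finset.mem_filter.2 ⟨Finset.mem_univ i, by rcases hε with e | e <;> rw [hx, e] <;> norm_num⟩))
  obtain ⟨δ, hδ, hyj, hxj⟩ : ∃ δ : ℤ, (δ = 1 ∨ δ = -1) ∧ a y j = 2 * δ ∧ a x j = -δ := by
    have h1 := D.abs_le_two y j
    have h2 := D.abs_le_two x j
    have h3 := D.congr_col x y j
    have h5 : a y j = 2 ∨ a y j = -2 := by
      obtain ⟨h6, h7⟩ := h1
      interval_cases a y j <;> first | omega | norm_num at hj4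
    rcases h5 with e | e
    · exact ⟨1, Or.inl rfl, by rw [e]; norm_num, by omega⟩
    · exact ⟨-1, Or.inr rfl, by rw [e]; norm_num, by omega⟩
  have hdiff : ∀ p, ε * T p i = δ * T p j := by
    intro p
    have h1 := D.sum_aT x p
    have h2 := D.sum_aT y p
    have h3 : ∑ k, (a x k - a y k) * T p k = 0 := by
      simp only [sub_mul, Finset.sum_sub_distrib, h1, h2, sub_zero]
    rw [← Finset.sum_filter_add_sum_filter_not Finset.univ (fun k => a x k ≠ a y k),
      Finset.sum_eq_zero (s := Finset.univ.filter fun k => ¬ a x k ≠ a y k) fun k hk => by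
        rw [not_not.1 (Finset.mem_filter.1 hk).2, sub_self, zero_mul],
      hpair, Finset.sum_pair hji.symm, add_zero, hx, hy, hxj, hyj] at h3
    linarith
  have h := D.congr (fun k => (if k = i then ε else 0) + (if k = j then δ else 0) -
    (if k = o then 1 else 0)) fun w => by
      simp only [sub_mul, add_mul, ite_mul, zero_mul, one_mul, Finset.sum_sub_distrib,
        Finset.sum_add_distrib, Finset.sum_ite_eq', Finset.mem_univ, if_true, D.a_o]
      rcases hall w with rfl | rfl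
      · rw [hx, hxj]; rcases hε with e | e <;> rcases hδ with e' | e' <;> subst e e' <;> norm_num
      · rw [hy, hyj]; rcases hε with e | e <;> rcases hδ with e' | e' <;> subst e e' <;> norm_num
  simp only [sub_mul, add_mul, mul_sub, mul_add, ite_mul, mul_ite, zero_mul, mul_zero, one_mul,
    mul_one, Finset.sum_sub_distrib, Finset.sum_add_distrib, Finset.sum_ite_eq', Finset.mem_univ,
    if_true, hoo] at h
  have e1 := hdiff i
  have e2 := hdiff j
  have e3 := hdiff o
  rw [D.symm j i] at h e2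
  rw [D.symm o i, D.symm o j] at h e3
  rcases hε with e | e <;> rcases hδ with e' | e' <;> subst e e' <;> omega

theorem colA_of_eq {i : ι} {ε : ℤ} (hε : ε = 1 ∨ ε = -1) (h : ∀ y, a y i = ε) :
    colA a i i = Fintype.card X ∧ colA a i o = ε * Fintype.card X := by
  constructor <;> simp only [colA, h, D.a_o, Finset.sum_const, Finset.card_univ, nsmul_eq_mul]
  · rcases hε with rfl | rfl <;> ring
  · ring

theorem colA_of_two {i : ι} {ε : ℤ} {x₀ : X} (hε : ε = 1 ∨ ε = -1) (h0 : a x₀ i = 2 * ε)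
    (h : ∀ y, y ≠ x₀ → a y i = -ε) :
    colA a i i = Fintype.card X + 3 ∧ colA a i o = ε * (3 - Fintype.card X) := by
  have hcard : ((Finset.univ.erase x₀).card : ℤ) = Fintype.card X - 1 := by
    rw [Finset.card_erase_of_mem (Finset.mem_univ x₀), Finset.card_univ,
      Nat.cast_sub (Fintype.card_pos_iff.2 ⟨x₀⟩)]
    rfl
  constructor <;>
    simp only [colA, ← Finset.add_sum_erase Finset.univ _ (Finset.mem_univ x₀), h0, D.a_o]
  · rw [Finset.sum_congr rfl (g := fun _ => (1 : ℤ)) fun y hy => by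
      rw [h y (Finset.mem_erase.1 hy).1]; rcases hε with rfl | rfl <;> ring, Finset.sum_const,
      nsmul_eq_mul, hcard]
    rcases hε with rfl | rfl <;> ring
  · rw [Finset.sum_congr rfl (g := fun _ => -ε) fun y hy => by
      rw [h y (Finset.mem_erase.1 hy).1, mul_one], Finset.sum_const, nsmul_eq_mul, hcard]
    ring

/-- The numerical shadow of a row of the support. -/
theorem row_facts (hoo : T o o = 0) {i : ι} (hne : i ≠ o) {ε A σ d : ℤ}
    (hε : ε = 1 ∨ ε = -1) (hA : colA a i i = A) (hσ : colA a i o = ε * σ) (hd : T i i = 2 * d)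
    {t : ℤ} (ht : T i o = ε * t) :
    (3 * t - σ) ^ 2 ≤ (9 - (Fintype.card X : ℤ)) * (6 * d + 9 - A) ∧
    ((3 * t - σ) ^ 2 = (9 - (Fintype.card X : ℤ)) * (6 * d + 9 - A) →
      9 - (Fintype.card X : ℤ) ∣ 3 * t - σ) ∧
    (3 * t + 2 * σ) ^ 2 ≤ 2 * (9 - (Fintype.card X : ℤ)) * (18 - 6 * d - 2 * A) ∧
    ((3 * t + 2 * σ) ^ 2 = 2 * (9 - (Fintype.card X : ℤ)) * (18 - 6 * d - 2 * A) →
      2 * (9 - (Fintype.card X : ℤ)) ∣ 3 * t + 2 * σ) ∧
    (Odd t → 12 * d + 4 * A - 9 ≤ 0) ∧ 0 ≤ 6 * d + 9 - A ∧ 0 ≤ 18 - 6 * d - 2 * A := by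
  have ho : colA a o o = Fintype.card X := by simp [colA, D.a_o]
  have hN : matN T a i o = ε * (3 * t - σ) := by simp [matN, hne, ht, hσ]; ring
  have hB : matB T a i o = -ε * (3 * t + 2 * σ) := by simp [matB, hne, ht, hσ]; ring
  have hNo : matN T a o o = 9 - (Fintype.card X : ℤ) := by simp [matN, hoo, ho]
  have hBo : matB T a o o = 2 * (9 - (Fintype.card X : ℤ)) := by simp [matB, hoo, ho]; ring
  have hNi : matN T a i i = 6 * d + 9 - A := by simp [matN, hd, hA]; ring
  have hBi : matB T a i i = 18 - 6 * d - 2 * A := by simp [matB, hd, hA]; ring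
  obtain ⟨h1, h2⟩ := D.csN i
  obtain ⟨h3, h4⟩ := D.csB i
  obtain ⟨h5, h6⟩ := D.nonneg i
  have h7 := D.galois i
  rw [hN, hNo, hNi] at h1 h2
  rw [hB, hBo, hBi] at h3 h4
  rw [hNi] at h5
  rw [hBi] at h6
  rw [hNi, hBi, hA, ht] at h7
  have e1 : ∀ w, (ε * w) ^ 2 = w ^ 2 := fun w => by rcases hε with rfl | rfl <;> ring
  have e2 : ∀ w, (-ε * w) ^ 2 = w ^ 2 := fun w => by rcases hε with rfl | rfl <;> ring
  rw [e1] at h1 h2
  rw [e2] at h3 h4
  refine ⟨h1, fun h => ?_, h3, fun h => ?_, fun h => ?_, h5, h6⟩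
  · have := h2 h
    rwa [(Int.isUnit_iff.2 hε).dvd_mul_left] at this
  · have := h4 h
    rwa [(Int.isUnit_iff.2 hε).neg.dvd_mul_left] at this
  · have : Odd (ε * t) := by rcases hε with rfl | rfl <;> simpa using h
    have := h7 this
    linarith

end Data

theorem window {w b : ℤ} (hb : 0 ≤ b) (h : w ^ 2 < (b + 1) ^ 2) : -b ≤ w ∧ w ≤ b := by
  constructor <;> nlinarith [sq_nonneg (w - b - 1), sq_nonneg (w + b + 1)]

/-- Rows with all entries equal and one column. -/
theorem eq_row_one {d t : ℤ} (hcg : (3 : ℤ) ∣ d - t)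
    (h1 : (3 * t - 1) ^ 2 ≤ 8 * (6 * d + 8))
    (h1' : (3 * t - 1) ^ 2 = 8 * (6 * d + 8) → 8 ∣ 3 * t - 1)
    (h2 : (3 * t + 2) ^ 2 ≤ 16 * (16 - 6 * d))
    (h2' : (3 * t + 2) ^ 2 = 16 * (16 - 6 * d) → 16 ∣ 3 * t + 2)
    (hp : Odd t → 12 * d - 5 ≤ 0) :
    (d = 0 ∧ (t = 0 ∨ t = 3)) ∨ (d = 1 ∧ t = -2) := by
  have hd : -1 ≤ d ∧ d ≤ 2 := by constructor <;> nlinarith [sq_nonneg (3 * t - 1), sq_nonneg (3 * t + 2)]
  obtain ⟨hd1, hd2⟩ := hd
  rw [Int.odd_iff] at hp
  interval_cases d
  · obtain ⟨ha, hb⟩ := window (b := 4) (by norm_num) (lt_of_le_of_lt h1 (by norm_num) : (3 * t - 1) ^ 2 < _)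
    have : t = -1 := by omega
    subst this
    norm_num at h1'
  · obtain ⟨ha, hb⟩ := window (b := 8) (by norm_num) (lt_of_le_of_lt h1 (by norm_num) : (3 * t - 1) ^ 2 < _)
    left
    exact ⟨rfl, by omega⟩
  · obtain ⟨ha, hb⟩ := window (b := 12) (by norm_num) (lt_of_le_of_lt h2 (by norm_num) : (3 * t + 2) ^ 2 < _)
    obtain ⟨hc, he⟩ := window (b := 10) (by norm_num) (lt_of_le_of_lt h1 (by norm_num) : (3 * t - 1) ^ 2 < _)
    right
    exact ⟨rfl, by omega⟩
  · obtain ⟨ha, hb⟩ := window (b := 8) (by norm_num) (lt_of_le_of_lt h2 (by norm_num) : (3 * t + 2) ^ 2 < _)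
    have : t = 2 := by omega
    subst this
    norm_num at h2'

/-- The row with entry two and one column. -/
theorem two_row_one {d t : ℤ} (hcg : (3 : ℤ) ∣ d - 2 * t)
    (h1 : (3 * t - 2) ^ 2 ≤ 8 * (6 * d + 5)) (h2 : (3 * t + 4) ^ 2 ≤ 16 * (10 - 6 * d))
    (hp : Odd t → 12 * d + 7 ≤ 0) : d = 0 ∧ t = 0 := by
  have hd : 0 ≤ d ∧ d ≤ 1 := by constructor <;> nlinarith [sq_nonneg (3 * t - 2), sq_nonneg (3 * t + 4)]
  obtain ⟨hd1, hd2⟩ := hd
  rw [Int.odd_iff] at hp
  interval_cases d
  · obtain ⟨ha, hb⟩ := window (b := 6) (by norm_num) (lt_of_le_of_lt h1 (by norm_num) : (3 * t - 2) ^ 2 < _)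
    exact ⟨rfl, by omega⟩
  · obtain ⟨ha, hb⟩ := window (b := 8) (by norm_num) (lt_of_le_of_lt h2 (by norm_num) : (3 * t + 4) ^ 2 < _)
    obtain ⟨hc, he⟩ := window (b := 9) (by norm_num) (lt_of_le_of_lt h1 (by norm_num) : (3 * t - 2) ^ 2 < _)
    omega

/-- Rows with all entries equal and two columns. -/
theorem eq_row_two {d t : ℤ} (hcg : (3 : ℤ) ∣ d - t)
    (h1 : (3 * t - 2) ^ 2 ≤ 7 * (6 * d + 7)) (h2 : (3 * t + 4) ^ 2 ≤ 14 * (14 - 6 * d))
    (hp : Odd t → 12 * d - 1 ≤ 0) :
    (d = 0 ∧ (t = 0 ∨ t = 3)) ∨ (d = 1 ∧ t = -2) := by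
  have hd : -1 ≤ d ∧ d ≤ 2 := by constructor <;> nlinarith [sq_nonneg (3 * t - 2), sq_nonneg (3 * t + 4)]
  obtain ⟨hd1, hd2⟩ := hd
  rw [Int.odd_iff] at hp
  interval_cases d
  · obtain ⟨ha, hb⟩ := window (b := 2) (by norm_num) (lt_of_le_of_lt h1 (by norm_num) : (3 * t - 2) ^ 2 < _)
    omega
  · obtain ⟨ha, hb⟩ := window (b := 7) (by norm_num) (lt_of_le_of_lt h1 (by norm_num) : (3 * t - 2) ^ 2 < _)
    left
    exact ⟨rfl, by omega⟩
  · obtain ⟨ha, hb⟩ := window (b := 10) (by norm_num) (lt_of_le_of_lt h2 (by norm_num) : (3 * t + 4) ^ 2 < _)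
    obtain ⟨hc, he⟩ := window (b := 9) (by norm_num) (lt_of_le_of_lt h1 (by norm_num) : (3 * t - 2) ^ 2 < _)
    right
    exact ⟨rfl, by omega⟩
  · obtain ⟨ha, hb⟩ := window (b := 5) (by norm_num) (lt_of_le_of_lt h2 (by norm_num) : (3 * t + 4) ^ 2 < _)
    omega

/-- The rows with entry two and two columns. -/
theorem two_row_two {d t : ℤ} (hcg : (3 : ℤ) ∣ d - 2 * t)
    (h1 : (3 * t - 1) ^ 2 ≤ 7 * (6 * d + 4)) (h2 : (3 * t + 2) ^ 2 ≤ 14 * (8 - 6 * d))
    (hp : Odd t → 12 * d + 11 ≤ 0) : d = 0 ∧ t = 0 := by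
  have hd : 0 ≤ d ∧ d ≤ 1 := by constructor <;> nlinarith [sq_nonneg (3 * t - 1), sq_nonneg (3 * t + 2)]
  obtain ⟨hd1, hd2⟩ := hd
  rw [Int.odd_iff] at hp
  interval_cases d
  · obtain ⟨ha, hb⟩ := window (b := 5) (by norm_num) (lt_of_le_of_lt h1 (by norm_num) : (3 * t - 1) ^ 2 < _)
    exact ⟨rfl, by omega⟩
  · obtain ⟨ha, hb⟩ := window (b := 5) (by norm_num) (lt_of_le_of_lt h2 (by norm_num) : (3 * t + 2) ^ 2 < _)
    obtain ⟨hc, he⟩ := window (b := 8) (by norm_num) (lt_of_le_of_lt h1 (by norm_num) : (3 * t - 1) ^ 2 < _)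
    omega

/-- Rows with all entries equal and four columns. -/
theorem eq_row_four {d t : ℤ}
    (h1 : (3 * t - 4) ^ 2 ≤ 5 * (6 * d + 5)) (h2 : (3 * t + 8) ^ 2 ≤ 10 * (10 - 6 * d))
    (hp : Odd t → 12 * d + 7 ≤ 0) : d = 0 := by
  have hd : 0 ≤ d ∧ d ≤ 1 := by constructor <;> nlinarith [sq_nonneg (3 * t - 4), sq_nonneg (3 * t + 8)]
  obtain ⟨hd1, hd2⟩ := hd
  rw [Int.odd_iff] at hp
  interval_cases d
  · rfl
  · obtain ⟨ha, hb⟩ := window (b := 6) (by norm_num) (lt_of_le_of_lt h2 (by norm_num) : (3 * t + 8) ^ 2 < _)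
    obtain ⟨hc, he⟩ := window (b := 7) (by norm_num) (lt_of_le_of_lt h1 (by norm_num) : (3 * t - 4) ^ 2 < _)
    omega

end CfsgLib.ExtraTwentySeven
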