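import Cfsg.Agent.Lib.ExtraTwentySeven.Arith

/-!
# The consequences of the contribution data
-/

set_option autoImplicit false
set_option linter.unusedSectionVars false
set_option linter.unusedVariables false

noncomputable section

namespace CfsgLib.ExtraTwentySeven

open scoped Classical

variable {ι : Type*} [Fintype ι] {X : Type*} [Fintype X]
variable {o : ι} {deg : ι → ℤ} {T : ι → ι → ℤ} {a : X → ι → ℤ} {l lb : ℕ} {s : ι → ℕ}

theorem all_zero_of_small {κ : Type*} (S : Finset κ) (f : κ → ℤ)
    (hf : ∀ i ∈ S, f i = 0 ∨ f i = -2 ∨ f i = 3) (hs : ∑ i ∈ S, f i = 0)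
    (hq : ∑ i ∈ S, f i ^ 2 ≤ 16) : ∀ i ∈ S, f i = 0 := by
  have h1 : ∑ i ∈ S, f i = -2 * ((S.filter fun i => f i = -2).card : ℤ) +
      3 * ((S.filter fun i => f i = 3).card : ℤ) := by
    rw [Finset.sum_congr rfl (g := fun i => -2 * (if f i = -2 then (1 : ℤ) else 0) +
      3 * (if f i = 3 then (1 : ℤ) else 0)) fun i hi => by
        rcases hf i hi with h | h | h <;> rw [h] <;> norm_num,
      Finset.sum_add_distrib, ← Finset.mul_sum, ← Finset.mul_sum, Finset.sum_boole, Finset.sum_boole]
  have h2 : ∑ i ∈ S, f i ^ 2 = 4 * ((S.filter fun i => f i = -2).card : ℤ) +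
      9 * ((S.filter fun i => f i = 3).card : ℤ) := by
    rw [Finset.sum_congr rfl (g := fun i => 4 * (if f i = -2 then (1 : ℤ) else 0) +
      9 * (if f i = 3 then (1 : ℤ) else 0)) fun i hi => by
        rcases hf i hi with h | h | h <;> rw [h] <;> norm_num,
      Finset.sum_add_distrib, ← Finset.mul_sum, ← Finset.mul_sum, Finset.sum_boole, Finset.sum_boole]
  rw [h1] at hs
  rw [h2] at hq
  have hA : (S.filter fun i => f i = -2).card = 0 := by omega
  have hB : (S.filter fun i => f i = 3).card = 0 := by omega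
  rw [Finset.card_eq_zero, Finset.filter_eq_empty_iff] at hA hB
  intro i hi
  rcases hf i hi with h | h | h
  exacts [h, absurd h (hA hi), absurd h (hB hi)]

namespace Data

variable (D : Data o deg T a l lb)
include D

theorem colA_oo : colA a o o = Fintype.card X := by simp [colA, D.a_o]

/-- Each row has a weight `σ` and an entry `t` against the first row, from a short list. -/
theorem row_cases (hc : Fintype.card X = 1 ∨ Fintype.card X = 2 ∨ Fintype.card X = 4) (x : X)
    (hoo : T o o = 0) {i : ι} (hne : i ≠ o) (hi : a x i ≠ 0) :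
    ∃ ε σ t : ℤ, (ε = 1 ∨ ε = -1) ∧ T i o = ε * t ∧ colA a i o = ε * σ ∧
      ((Fintype.card X = 4 ∧ T i i = 0) ∨
        (Fintype.card X ≠ 4 ∧ T i i = 0 ∧ t = 0) ∨
        (Fintype.card X ≠ 4 ∧ σ = Fintype.card X ∧
          ((T i i = 0 ∧ t = 3) ∨ (T i i = 2 ∧ t = -2)))) := by
  obtain ⟨ε, hε, hrow⟩ := D.row_type x hi
  obtain ⟨d, hd⟩ := D.diag_even i
  have hεε : ε * ε = 1 := by rcases hε with rfl | rfl <;> norm_num
  set t := ε * T i o with htdef
  have ht : T i o = ε * t := by rw [htdef, ← mul_assoc, hεε, one_mul]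
  rcases hrow with hall | ⟨x₀, h0, hoth⟩
  · obtain ⟨hA, hσ⟩ := colA_of_eq D hε hall
    refine ⟨ε, Fintype.card X, t, hε, ht, hσ, ?_⟩
    have hcg : (3 : ℤ) ∣ d - t := by
      have h := D.congr (fun k => (if k = i then 1 else 0) - (if k = o then ε else 0)) fun y => by
        simp [sub_mul, Finset.sum_sub_distrib, Finset.sum_ite_eq', hall, D.a_o]
      simp only [sub_mul, mul_sub, ite_mul, mul_ite, zero_mul, mul_zero, one_mul, mul_one,
        Finset.sum_sub_distrib, Finset.sum_ite_eq', Finset.mem_univ, if_true, hoo, hd,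
        D.symm o i, ht] at h
      rcases hε with rfl | rfl <;> omega
    obtain ⟨f1, f2, f3, f4, f5, f6, f7⟩ := D.row_facts hoo hne hε hA hσ hd ht
    rcases hc with hc | hc | hc <;> simp only [hc] at f1 f2 f3 f4 f5 f6 f7 ⊢ <;>
      norm_num at f1 f2 f3 f4 f5 f6 f7 ⊢
    · rcases eq_row_one (d := d) (t := t) hcg (by linarith) (fun e => f2 (by linarith)) (by linarith)
          (fun e => f4 (by linarith)) (fun h => by have := f5 h; linarith) with
        ⟨h, h' | h'⟩ | ⟨h, h'⟩ <;> subst h <;> rw [hd] <;> simp [h']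
    · rcases eq_row_two (d := d) (t := t) hcg (by linarith) (by linarith)
          (fun h => by have := f5 h; linarith) with
        ⟨h, h' | h'⟩ | ⟨h, h'⟩ <;> subst h <;> rw [hd] <;> simp [h']
    · rw [hd, eq_row_four (d := d) (t := t) (by linarith) (by linarith)
        (fun h => by have := f5 h; linarith)]
      norm_num
  · obtain ⟨hA, hσ⟩ := colA_of_two D hε h0 hoth
    refine ⟨ε, 3 - Fintype.card X, t, hε, ht, hσ, ?_⟩
    obtain ⟨f1, f2, f3, f4, f5, f6, f7⟩ := D.row_facts hoo hne hε hA hσ hd ht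
    rcases hc with hc | hc | hc
    · have hcg : (3 : ℤ) ∣ d - 2 * t := by
        have huniq : ∀ y : X, y = x₀ := fun y => Fintype.card_le_one_iff.1 hc.le y x₀
        have h := D.congr (fun k => (if k = i then 1 else 0) - (if k = o then 2 * ε else 0))
          fun y => by
            rw [huniq y]
            simp [sub_mul, Finset.sum_sub_distrib, Finset.sum_ite_eq', h0, D.a_o]
        simp only [sub_mul, mul_sub, ite_mul, mul_ite, zero_mul, mul_zero, one_mul, mul_one,
          Finset.sum_sub_distrib, Finset.sum_ite_eq', Finset.mem_univ, if_true, hoo, hd,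
          D.symm o i, ht] at h
        rcases hε with rfl | rfl <;> omega
      simp only [hc] at f1 f3 f5
      norm_num at f1 f3 f5
      obtain ⟨h, h'⟩ := two_row_one hcg (t := t) (d := d) (by linarith) (by linarith)
        (fun h => by have := f5 h; linarith)
      subst h
      simp [hc, hd, h']
    · have hcg : (3 : ℤ) ∣ d - 2 * t := by
        obtain ⟨y, hy⟩ : ∃ y, y ≠ x₀ := Fintype.exists_ne_of_one_lt_card (by omega) x₀
        have hpair : ∀ w, w = x₀ ∨ w = y := fun w => by
          by_contra hw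
          push Not at hw
          have := Finset.card_le_univ ({w, x₀, y} : Finset X)
          rw [Finset.card_insert_of_notMem (by simp [hw.1, hw.2]), Finset.card_pair hy.symm, hc] at this
          omega
        have h := D.pair_congr hy.symm hpair hoo hε h0 (hoth y hy)
        rw [hd, ht, ← mul_assoc, hεε, one_mul] at h
        omega
      simp only [hc] at f1 f3 f5
      norm_num at f1 f3 f5
      obtain ⟨h, h'⟩ := two_row_two hcg (t := t) (d := d) (by linarith) (by linarith)
        (fun h => by have := f5 h; linarith)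
      subst h
      simp [hc, hd, h']
    · simp only [hc] at f6 f7
      norm_num at f6 f7
      left
      exact ⟨hc, by rw [hd]; omega⟩

theorem support_rows (hc : Fintype.card X = 1 ∨ Fintype.card X = 2 ∨ Fintype.card X = 4) (x : X)
    (hoo : T o o = 0) : (∀ i, T i i = 0) ∧ (Fintype.card X ≠ 4 → ∀ i, a x i ≠ 0 → T i o = 0) := by
  have hrow := fun i (h : i ≠ o) (h' : a x i ≠ 0) => D.row_cases hc x hoo h h'
  by_cases h4 : Fintype.card X = 4
  · refine ⟨fun i => ?_, fun h => absurd h4 h⟩
    by_cases hi : a x i = 0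
    · exact (D.zero_row x hi).1
    rcases eq_or_ne i o with rfl | hne
    · exact hoo
    obtain ⟨ε, σ, t, -, -, -, ⟨-, h⟩ | ⟨h, -⟩ | ⟨h, -⟩⟩ := hrow i hne hi
    exacts [h, absurd h4 h, absurd h4 h]
  choose! ε σ t hε ht hσ hcase using hrow
  set S := (Finset.univ.filter fun i => a x i ≠ 0).erase o with hS
  have hmemS : ∀ i, i ∈ S ↔ i ≠ o ∧ a x i ≠ 0 := fun i => by simp [hS]
  have hval : ∀ i ∈ S, (t i = 0 ∨ t i = -2 ∨ t i = 3) ∧ (t i = 0 → T i i = 0) ∧
      colA a i o * T i o = Fintype.card X * t i := by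
    intro i hi
    obtain ⟨hne, hi'⟩ := (hmemS i).1 hi
    have hee : ε i * ε i = 1 := by rcases hε i hne hi' with h | h <;> rw [h] <;> norm_num
    rw [hσ i hne hi', ht i hne hi', show ε i * σ i * (ε i * t i) = ε i * ε i * (σ i * t i) by ring,
      hee, one_mul]
    rcases hcase i hne hi' with ⟨h, -⟩ | ⟨-, h1, h2⟩ | ⟨-, h1, ⟨h2, h3⟩ | ⟨h2, h3⟩⟩
    · exact absurd h h4
    · exact ⟨Or.inl h2, fun _ => h1, by rw [h2]; ring⟩
    · exact ⟨Or.inr (Or.inr h3), fun h => absurd (h3 ▸ h) (by norm_num), by rw [h1]⟩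
    · exact ⟨Or.inr (Or.inl h3), fun h => absurd (h3 ▸ h) (by norm_num), by rw [h1]⟩
  have hzero : ∀ i, a x i = 0 → colA a i o = 0 := fun i hi => Finset.sum_eq_zero fun y _ => by
    rw [(D.eq_zero_iff x y i).1 hi, zero_mul]
  have hsum : ∑ i, colA a i o * T i o = 0 := by
    simp only [colA, Finset.sum_mul]
    rw [Finset.sum_comm]
    refine Finset.sum_eq_zero fun y _ => ?_
    rw [← D.sum_aT y o]
    exact Finset.sum_congr rfl fun k _ => by rw [D.a_o, mul_one, D.symm k o]
  rw [← Finset.sum_subset (Finset.subset_univ S) fun i _ hi => by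
    rw [hmemS] at hi
    push Not at hi
    rcases eq_or_ne i o with rfl | hne
    · rw [hoo, mul_zero]
    · rw [hzero i (hi hne), zero_mul],
    Finset.sum_congr rfl fun i hi => (hval i hi).2.2, ← Finset.mul_sum] at hsum
  have hcne : (Fintype.card X : ℤ) ≠ 0 := by omega
  have hsum' := (mul_eq_zero.1 hsum).resolve_left hcne
  have hsq : ∑ i ∈ S, t i ^ 2 ≤ 16 := by
    have hn := D.row_norm o
    rw [hoo, D.colA_oo] at hn
    have : ∑ i ∈ S, t i ^ 2 ≤ ∑ i, T o i ^ 2 := by
      refine le_trans (le_of_eq (Finset.sum_congr rfl fun i hi => ?_))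
        (Finset.sum_le_sum_of_subset_of_nonneg (Finset.subset_univ S) fun i _ _ => sq_nonneg _)
      obtain ⟨hne, hi'⟩ := (hmemS i).1 hi
      rw [D.symm o i, ht i hne hi']
      rcases hε i hne hi' with h | h <;> rw [h] <;> ring
    omega
  have hall := all_zero_of_small S t (fun i hi => (hval i hi).1) hsum' hsq
  refine ⟨fun i => ?_, fun _ i hi => ?_⟩
  · by_cases hi : a x i = 0
    · exact (D.zero_row x hi).1
    rcases eq_or_ne i o with rfl | hne
    · exact hoo
    have hiS := (hmemS i).2 ⟨hne, hi⟩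
    exact (hval i hiS).2.1 (hall i hiS)
  · rcases eq_or_ne i o with rfl | hne
    · exact hoo
    rw [ht i hne hi, hall i ((hmemS i).2 ⟨hne, hi⟩), mul_zero]

theorem trace_diag (h0 : ∀ i, T i i = 0) :
    27 * (l : ℤ) = 9 * Fintype.card ι - 9 * Fintype.card X ∧ l = lb := by
  have hA : ∑ i, colA a i i = 9 * (Fintype.card X : ℤ) := by
    simp only [colA]
    rw [Finset.sum_comm]
    simp only [D.orth, if_true, Finset.sum_const, Finset.card_univ, nsmul_eq_mul]
    ring
  have h1 : ∑ i, matN T a i i = 9 * (Fintype.card ι : ℤ) - 9 * Fintype.card X := by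
    simp only [matN, h0, mul_zero, zero_add, if_true, Finset.sum_sub_distrib, hA, Finset.sum_const,
      Finset.card_univ, nsmul_eq_mul]
    ring
  have h2 : ∑ i, matB T a i i = 2 * (9 * (Fintype.card ι : ℤ) - 9 * Fintype.card X) := by
    simp only [matB, h0, mul_zero, sub_zero, if_true, Finset.sum_sub_distrib, ← Finset.mul_sum, hA,
      Finset.sum_const, Finset.card_univ, nsmul_eq_mul]
    ring
  rw [D.traceN] at h1
  rw [D.traceB] at h2
  exact ⟨h1, by omega⟩

/-- The number of characters of height zero, and the two ranks agree. -/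
theorem main (hc : Fintype.card X = 1 ∨ Fintype.card X = 2 ∨ Fintype.card X = 4) (x : X)
    (hoo : T o o = 0) (hlb : Fintype.card X = 1 → lb = 5) :
    l = lb ∧ (Finset.univ.filter fun i => a x i ≠ 0).card = 6 := by
  obtain ⟨hdiag, hto⟩ := D.support_rows hc x hoo
  obtain ⟨htr, hllb⟩ := D.trace_diag hdiag
  refine ⟨hllb, ?_⟩
  rcases D.pattern x with ⟨h9, h4⟩ | ⟨h6, -⟩
  swap
  · exact h6
  exfalso
  -- nine entries of absolute value one
  have hc1 : Fintype.card X = 1 := by
    by_contra hne
    obtain ⟨y, hy⟩ : ∃ y, y ≠ x := Fintype.exists_ne_of_one_lt_card (by omega) x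
    have := D.six_of_ne hy.symm
    omega
  have huniq : ∀ y : X, y = x := fun y => Fintype.card_le_one_iff.1 hc1.le y x
  have ht0 := hto (by omega)
  set S := Finset.univ.filter fun i => a x i ≠ 0 with hS
  have hsgn : ∀ i ∈ S, a x i = 1 ∨ a x i = -1 := fun i hi => by
    have h1 := D.abs_le_two x i
    have h2 := (Finset.mem_filter.1 hi).2
    have h3 : a x i ≠ 2 := fun e => h4 i (by rw [e]; norm_num)
    have h5 : a x i ≠ -2 := fun e => h4 i (by rw [e]; norm_num)
    omega
  have hA : ∀ i ∈ S, colA a i i = 1 := fun i hi => by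
    rw [colA, Finset.sum_eq_single x (fun y _ hy => absurd (huniq y) hy) (by simp)]
    rcases hsgn i hi with h | h <;> rw [h] <;> norm_num
  have hdvd : ∀ i ∈ S, ∀ k ∈ S, (3 : ℤ) ∣ T i k := by
    intro i hi k hk
    have h := D.congr (fun j => (if j = i then 1 else 0) + (if j = k then 1 else 0) -
      (if j = o then a x i + a x k else 0)) fun y => by
        rw [huniq y]
        simp only [sub_mul, add_mul, ite_mul, zero_mul, one_mul, Finset.sum_sub_distrib,
          Finset.sum_add_distrib, Finset.sum_ite_eq', Finset.mem_univ, if_true, D.a_o]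
        ring
    simp only [sub_mul, add_mul, mul_sub, mul_add, ite_mul, mul_ite, zero_mul, mul_zero, one_mul,
      mul_one, Finset.sum_sub_distrib, Finset.sum_add_distrib, Finset.sum_ite_eq', Finset.mem_univ,
      if_true, hoo, hdiag, ht0 i (Finset.mem_filter.1 hi).2, ht0 k (Finset.mem_filter.1 hk).2,
      D.symm o i, D.symm o k, D.symm k i] at h
    omega
  have hinner : ∀ i ∈ S, ∀ k ∈ S, T i k = 0 := by
    intro i hi k hk
    by_contra hne
    have hnorm := D.row_norm i
    rw [hdiag, hA i hi] at hnorm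
    have h9 : ∀ j ∈ S, T i j ≠ 0 → 9 ≤ T i j ^ 2 := fun j hj h => by
      obtain ⟨m, hm⟩ := hdvd i hi j hj
      have hm0 : m ≠ 0 := fun e => h (by rw [hm, e, mul_zero])
      have := mul_self_pos.2 hm0
      rw [hm]; nlinarith
    have honly : ∀ j ∈ S, j ≠ k → T i j = 0 := by
      intro j hj hjk
      by_contra hj0
      have h2 := Finset.sum_le_sum_of_subset_of_nonneg (f := fun q => T i q ^ 2)
        (Finset.subset_univ {j, k}) (fun q _ _ => sq_nonneg _)
      rw [Finset.sum_pair hjk] at h2
      have := h9 j hj hj0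
      have := h9 k hk hne
      linarith
    have hsum := D.sum_aT x i
    rw [Finset.sum_eq_single k (fun j _ hjk => by
      by_cases hj : j ∈ S
      · rw [honly j hj hjk, mul_zero]
      · rw [show a x j = 0 by simpa [hS] using hj, zero_mul]) (by simp)] at hsum
    exact hne ((mul_eq_zero.1 hsum).resolve_left (Finset.mem_filter.1 hk).2)
  set Z := Finset.univ.filter fun i => ¬ a x i ≠ 0 with hZ
  have hrowS : ∀ i ∈ S, (16 : ℤ) = ∑ k ∈ Z, T i k ^ 2 := fun i hi => by
    have hnorm := D.row_norm i
    rw [hdiag, hA i hi, ← Finset.sum_filter_add_sum_filter_not Finset.univ (fun k => a x k ≠ 0),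
      Finset.sum_eq_zero fun k hk => by rw [hinner i hi k hk]; norm_num, zero_add] at hnorm
    linarith
  have hrowZ : ∀ k ∈ Z, ∑ i ∈ S, T k i ^ 2 ≤ (18 : ℤ) := fun k hk => by
    have hk0 : a x k = 0 := not_not.1 (Finset.mem_filter.1 hk).2
    obtain ⟨-, hA0, -⟩ := D.zero_row x hk0
    have hnorm := D.row_norm k
    rw [hdiag, hA0] at hnorm
    have := Finset.sum_le_sum_of_subset_of_nonneg (f := fun q => T k q ^ 2)
      (Finset.subset_univ S) (fun q _ _ => sq_nonneg _)
    linarith
  have htot : ∑ i ∈ S, ∑ k ∈ Z, T i k ^ 2 ≤ 18 * (Z.card : ℤ) := by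
    rw [Finset.sum_comm]
    refine le_trans (Finset.sum_le_sum fun k hk => ?_) (le_of_eq (by
      rw [Finset.sum_const, nsmul_eq_mul, mul_comm]))
    rw [Finset.sum_congr rfl fun i _ => by rw [D.symm i k]]
    exact hrowZ k hk
  rw [Finset.sum_congr rfl fun i hi => (hrowS i hi).symm, Finset.sum_const, h9, nsmul_eq_mul] at htot
  have hcard : Z.card = Fintype.card ι - S.card := by
    rw [← Finset.card_compl]
    congr 1
    ext i
    simp [hS, hZ]
  have hl5 := hlb hc1
  omega

/-- The group in which the central element is central. -/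
theorem central (C : Central o T a s)
    (hc : Fintype.card X = 1 ∨ Fintype.card X = 2 ∨ Fintype.card X = 4) (x : X) :
    T o o = 0 ∧ (Finset.univ.filter fun i => a x i ≠ 0).card = 6 ∧
      l + Fintype.card X = 6 := by
  have hdiag : ∀ i, T i i = 0 := fun i => by
    have h := C.same i i rfl
    simp only [matB, matN, if_true] at h
    linarith
  have hsupp : ∀ i, s i = 0 ↔ a x i ≠ 0 := by
    refine fun i => ⟨fun hs hi => ?_, fun hi => by_contra fun h => hi (C.s_a i h x)⟩
    obtain ⟨-, -, hne⟩ := D.zero_row x hi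
    have hA : colA a i o = 0 := Finset.sum_eq_zero fun y _ => by
      rw [(D.eq_zero_iff x y i).1 hi, zero_mul]
    have h := C.same i o (by rw [hs, C.s_o])
    simp only [matB, matN, hne, if_false, hA] at h
    exact D.ne_zero i (by simp [matN, hne, hA, show T i o = 0 by linarith])
  have hA9 : ∑ i, colA a i i = 9 * (Fintype.card X : ℤ) := by
    simp only [colA]
    rw [Finset.sum_comm]
    simp only [D.orth, if_true, Finset.sum_const, Finset.card_univ, nsmul_eq_mul]
    ring
  set S := Finset.univ.filter fun i => a x i ≠ 0 with hS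
  have h0 : (Finset.univ.filter fun i => s i = 0) = S := Finset.filter_congr fun i _ => hsupp i
  have hN0 : ∑ i ∈ Finset.univ.filter (s · = 0), matN T a i i =
      9 * (S.card : ℤ) - 9 * Fintype.card X := by
    have hz : ∑ i ∈ Finset.univ.filter (fun i => ¬ s i = 0), colA a i i = 0 :=
      Finset.sum_eq_zero fun i hi => Finset.sum_eq_zero fun y _ => by
        rw [C.s_a i (Finset.mem_filter.1 hi).2 y, zero_mul]
    have hsplit := Finset.sum_filter_add_sum_filter_not Finset.univ (fun i => s i = 0)
      fun i => colA a i i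
    rw [hz, add_zero, hA9, h0] at hsplit
    simp only [matN, hdiag, mul_zero, zero_add, if_true, Finset.sum_sub_distrib, hsplit,
      Finset.sum_const, nsmul_eq_mul, h0]
    ring
  have hr : ∀ r, 0 < r → r < 3 → ((Finset.univ.filter fun i => s i = r).card : ℤ) * 9 =
      9 * (S.card : ℤ) - 9 * Fintype.card X := by
    intro r hr0 hr
    rw [← hN0, ← C.trace_sector r hr]
    simp only [matN, hdiag, mul_zero, zero_add, if_true]
    rw [Finset.sum_congr rfl fun i hi => by
      rw [show colA a i i = 0 from Finset.sum_eq_zero fun y _ => by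
        rw [C.s_a i (by rw [(Finset.mem_filter.1 hi).2]; omega) y, zero_mul], sub_zero],
      Finset.sum_const, nsmul_eq_mul]
  have hl : (l : ℤ) + Fintype.card X = S.card := by
    have htr := (D.trace_diag hdiag).1
    have hk : Fintype.card ι = S.card + (Finset.univ.filter fun i => s i = 1).card +
        (Finset.univ.filter fun i => s i = 2).card := by
      rw [← h0, ← Finset.card_univ, Finset.card_eq_sum_card_fiberwise (f := s) (t := Finset.range 3)
        fun i _ => Finset.mem_range.2 (C.s_lt i)]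
      simp [Finset.sum_range_succ]
    have h1 := hr 1 one_pos (by norm_num)
    have h2 := hr 2 two_pos (by norm_num)
    omega
  refine ⟨hdiag o, ?_⟩
  suffices h6 : S.card = 6 from ⟨h6, by omega⟩
  rcases D.pattern x with ⟨h9, h4⟩ | ⟨h6, -⟩
  swap
  · exact h6
  exfalso
  have hc1 : Fintype.card X = 1 := by
    by_contra hne
    obtain ⟨y, hy⟩ : ∃ y, y ≠ x := Fintype.exists_ne_of_one_lt_card (by omega) x
    have := D.six_of_ne hy.symm
    omega
  obtain ⟨k, hk⟩ : ∃ k, s k = 1 := by
    by_contra! h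
    have h1 := hr 1 one_pos (by norm_num)
    rw [Finset.filter_eq_empty_iff.2 fun i _ => h i, Finset.card_empty, h9, hc1] at h1
    norm_num at h1
  have hAk : ∀ i, colA a k i = 0 := fun i => Finset.sum_eq_zero fun y _ => by
    rw [C.s_a k (by omega) y, zero_mul]
  have hidem := D.idem k
  have hNk : matN T a k k = 9 := by simp [matN, hdiag, hAk]
  rw [hNk, ← Finset.sum_fiberwise_of_maps_to (t := Finset.range 3) (g := s)
    fun i _ => Finset.mem_range.2 (C.s_lt i)] at hidem
  simp only [Finset.sum_range_succ, Finset.sum_range_zero, zero_add, ← pow_two] at hidem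
  rw [C.norm_sector k 1 (by norm_num), C.norm_sector k 2 (by norm_num), h0] at hidem
  choose! m hm using fun i (hi : i ∈ S) =>
    C.adjacent i k ((hsupp i).2 (Finset.mem_filter.1 hi).2) hk
  have hm2 : ∑ i ∈ S, m i ^ 2 = 9 := by
    rw [Finset.sum_congr rfl fun i hi => by rw [hm i hi, mul_pow]] at hidem
    rw [← Finset.mul_sum] at hidem
    linarith
  have hann : ∑ i ∈ S, a x i * m i = 0 := by
    have h := D.annih x k
    rw [← Finset.sum_filter_add_sum_filter_not Finset.univ (fun i => a x i ≠ 0),
      Finset.sum_eq_zero (s := Finset.univ.filter fun i => ¬ a x i ≠ 0) fun i hi => by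
        rw [not_not.1 (Finset.mem_filter.1 hi).2, zero_mul], add_zero,
      Finset.sum_congr rfl fun i hi => by
        rw [hm i hi, show a x i * (3 * m i) = 3 * (a x i * m i) by ring], ← Finset.mul_sum] at h
    linarith
  have hpar : (2 : ℤ) ∣ ∑ i ∈ S, (m i ^ 2 - a x i * m i) := by
    refine Finset.dvd_sum fun i hi => ?_
    have h1 := D.abs_le_two x i
    have h2 := (Finset.mem_filter.1 hi).2
    have h3 : a x i ≠ 2 := fun e => h4 i (by rw [e]; norm_num)
    have h5 : a x i ≠ -2 := fun e => h4 i (by rw [e]; norm_num)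
    have h6 : a x i = 1 ∨ a x i = -1 := by omega
    rcases Int.even_or_odd (m i) with ⟨u, hu⟩ | ⟨u, hu⟩ <;> rcases h6 with e | e <;> rw [e, hu]
    · exact ⟨2 * u ^ 2 - u, by ring⟩
    · exact ⟨2 * u ^ 2 + u, by ring⟩
    · exact ⟨2 * u ^ 2 + u, by ring⟩
    · exact ⟨2 * u ^ 2 + 3 * u + 1, by ring⟩
  rw [Finset.sum_sub_distrib, hm2, hann] at hpar
  norm_num at hpar

end Data

end CfsgLib.ExtraTwentySeven
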