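import Cfsg.Agent.Lib.ExtraTwentySeven.Sections
import Cfsg.Agent.Lib.ExtraTwentySeven.Invariants
import Cfsg.Agent.Lib.MathieuBlocks.PElements
import Cfsg.Agent.Lib.Blk7.SubsectionSq

/-!
# The contribution data of the principal block
-/

set_option autoImplicit false
set_option linter.unusedSectionVars false
set_option linter.style.haveILetI false
set_option linter.unusedVariables false
set_option maxHeartbeats 800000

noncomputable section

namespace CfsgLib.ExtraTwentySeven

open Cfsg CfsgLib.Characters CfsgLib.Blocks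
open scoped ComplexConjugate Classical

universe u

variable {G : Type u} [Group G] [Fintype G] {P : Sylow 3 G} {z : G} {X : Finset G}
  {M : Ideal AlgInt}

/-- Sums over a section of the squared distance to a rational constant. -/
theorem exists_quad (u : G) (χ : IrrCharacter G) (p q : ℤ) :
    ∃ r : ℝ, 0 ≤ r ∧ (r : ℂ) = (q : ℂ) ^ 2 * sec u χ χ -
        (p : ℂ) * q * (sec u χ (principalIrr G) + sec u (principalIrr G) χ) +
        (p : ℂ) ^ 2 * sec u (principalIrr G) (principalIrr G) ∧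
      (r = 0 → ∀ g ∈ secSet u, (q : ℂ) * (χ : G → ℂ) g = p) := by
  set f : G → ℂ := fun g => (q : ℂ) * (χ : G → ℂ) g - p with hf
  refine ⟨27 * ((Nat.card G : ℝ)⁻¹ * ∑ g ∈ secSet u, ‖f g‖ ^ 2), by positivity, ?_, fun h g hg => ?_⟩
  · simp only [sec, principalIrr_apply, map_one, mul_one, one_mul]
    push_cast
    simp only [← Complex.mul_conj', hf, map_sub, map_mul, map_intCast, Finset.mul_sum,
      mul_add, ← Finset.sum_sub_distrib, ← Finset.sum_add_distrib]
    exact Finset.sum_congr rfl fun g _ => by ring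
  · rcases mul_eq_zero.1 h with h | h
    · norm_num at h
    rcases mul_eq_zero.1 h with h | h
    · exact absurd (Nat.cast_eq_zero.1 (inv_eq_zero.1 h)) Nat.card_pos.ne'
    have h1 := (Finset.sum_eq_zero_iff_of_nonneg fun g _ => sq_nonneg ‖f g‖).1 h g hg
    exact sub_eq_zero.1 (norm_eq_zero.1 (eq_zero_of_pow_eq_zero h1))

theorem sec_trivial_pos {u : G} (hu : ∃ k : ℕ, orderOf u = 3 ^ k) :
    ∃ r : ℝ, 0 < r ∧ (r : ℂ) = sec u (principalIrr G) (principalIrr G) := by
  obtain ⟨r, hr, he, h0⟩ := exists_quad u (principalIrr G) 1 0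
  refine ⟨r, lt_of_le_of_ne hr fun h => ?_, by rw [he]; push_cast; ring⟩
  have := h0 h.symm u (mem_secSet.2 (by rw [ppart_self hu]))
  simp at this

theorem exists_int_of_mul_eq {v : ℂ} (hv : IsIntegral ℤ v) {p q : ℤ} (hq : q ≠ 0)
    (h : (q : ℂ) * v = p) : q ∣ p := by
  have hqC : (q : ℂ) ≠ 0 := Int.cast_ne_zero.2 hq
  have hv' : v = (algebraMap ℚ ℂ) ((p : ℚ) / q) := by
    rw [map_div₀, map_intCast, map_intCast, eq_div_iff hqC, mul_comm, h]
  rw [hv', isIntegral_algebraMap_iff (algebraMap ℚ ℂ).injective,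
    IsIntegrallyClosed.isIntegral_iff] at hv
  obtain ⟨n, hn⟩ := hv
  refine ⟨n, ?_⟩
  have : (p : ℚ) = q * n := by
    rw [show (n : ℚ) = algebraMap ℤ ℚ n from (eq_intCast _ n).symm, hn]
    field_simp
  exact_mod_cast this

/-- The exponent inverting the 3-part and fixing the rest. -/
theorem exists_twist_exponent (F : Core P z) : ∃ m : ℕ, m.Coprime (Nat.card G) ∧
    (∀ g : G, ppart (g ^ m) = ppart g ^ 2 ∧ (g ^ m) ^ m = g) ∧
    ∀ g : G, ¬ 3 ∣ orderOf g → g ^ m = g := by
  haveI : Fact (Nat.Prime 3) := ⟨Nat.prime_three⟩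
  set n := Nat.card G / 3 ^ (Nat.card G).factorization 3 with hn
  have hn3 : ¬ 3 ∣ n := Nat.not_dvd_ordCompl Nat.prime_three Nat.card_pos.ne'
  have hcop : Nat.Coprime 3 n := Nat.prime_three.coprime_iff_not_dvd.2 hn3
  obtain ⟨m, hm3, hmn⟩ := Nat.chineseRemainder hcop 2 1
  have hmG : m.Coprime (Nat.card G) := by
    rw [← Nat.ordProj_mul_ordCompl_eq_self (Nat.card G) 3]
    refine Nat.Coprime.mul_right (Nat.Coprime.pow_right _ ?_) ?_
    · rw [Nat.coprime_comm, Nat.prime_three.coprime_iff_not_dvd]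
      intro h
      have := (Nat.modEq_zero_iff_dvd.2 h).symm.trans hm3
      exact absurd this (by decide)
    · rw [← hn]
      rw [Nat.coprime_iff_gcd_eq_one, Nat.ModEq.gcd_eq hmn, Nat.gcd_one_left]
  refine ⟨m, hmG, ?_, ?_⟩
  · intro g
    obtain ⟨y, hy, hc, ⟨k, hk⟩, hyp⟩ := isPPart_ppart g
    have hu3 : ppart g ^ 3 = 1 := by
      obtain ⟨a, ha⟩ := exists_conj_mem P (ppart_order g)
      have h := F.exp _ ha
      rwa [conj_pow, conj_eq_one_iff] at h
    have hu : ppart g ^ m = ppart g ^ 2 := by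
      rw [pow_eq_pow_iff_modEq]
      exact hm3.of_dvd (orderOf_dvd_of_pow_eq_one hu3)
    have hyn : orderOf y ∣ n := by
      have h1 : orderOf y ∣ Nat.card G := orderOf_dvd_natCard y
      rw [← Nat.ordProj_mul_ordCompl_eq_self (Nat.card G) 3, ← hn] at h1
      exact ((Nat.prime_three.coprime_iff_not_dvd.2 hyp).symm.pow_right _).dvd_of_dvd_mul_left h1
    have hym : y ^ m = y := by
      conv_rhs => rw [← pow_one y]
      rw [pow_eq_pow_iff_modEq]
      exact hmn.of_dvd hyn
    have he : g ^ m = ppart g ^ 2 * y := by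
      nth_rewrite 1 [← hy]
      rw [hc.mul_pow, hu, hym]
    refine ⟨ppart_eq ?_, ?_⟩
    · rw [he]
      refine isPPart_mul (hc.pow_left 2) ?_ hyp
      have hd := orderOf_pow_dvd (x := ppart g) 2
      rw [hk] at hd
      obtain ⟨j, -, hj⟩ := (Nat.dvd_prime_pow Nat.prime_three).1 hd
      exact ⟨j, hj⟩
    · rw [he, (hc.pow_left 2).mul_pow, hym]
      conv_rhs => rw [← hy]
      congr 1
      rw [← pow_mul, mul_comm, pow_mul, hu, ← pow_mul, show 2 * 2 = 3 + 1 from rfl, pow_add, hu3,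
        one_mul, pow_one]
  · intro g hg
    have hgn : orderOf g ∣ n := by
      have h1 : orderOf g ∣ Nat.card G := orderOf_dvd_natCard g
      rw [← Nat.ordProj_mul_ordCompl_eq_self (Nat.card G) 3, ← hn] at h1
      exact ((Nat.prime_three.coprime_iff_not_dvd.2 hg).symm.pow_right _).dvd_of_dvd_mul_left h1
    conv_rhs => rw [← pow_one g]
    rw [pow_eq_pow_iff_modEq]
    exact hmn.of_dvd hgn

/-- The members of the principal block. -/
abbrev Mem (M : Ideal AlgInt) (G : Type u) [Group G] : Type u :=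
  {χ : IrrCharacter G // χ ∈ principalBlock M G}

/-- The trivial member. -/
def triv (hM : IsPModular 3 M) : Mem M G :=
  ⟨principalIrr G, CfsgLib.Blocks.principalIrr_mem hM⟩

theorem sum_mem (f : IrrCharacter G → ℂ) :
    ∑ φ ∈ Finset.univ.filter (· ∈ principalBlock M G), f φ = ∑ φ : Mem M G, f φ.1 :=
  Finset.sum_subtype (Finset.univ.filter (· ∈ principalBlock M G)) (fun χ => by simp) f

/-- The contribution data of the principal block. -/
theorem exists_data (F : Frame P z X) (hM : IsPModular 3 M)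
    (hreal : ∀ x ∈ X, IsConj x x⁻¹) [Fintype ↥(Subgroup.centralizer ({z} : Set G))] :
    ∃ (deg : Mem M G → ℤ) (T : Mem M G → Mem M G → ℤ) (a : ↥X → Mem M G → ℤ),
      Data (triv hM) deg T a (blockRank 3 (principalBlock M G))
        (blockRank 3 (principalBlock M ↥(Subgroup.centralizer ({z} : Set G)))) ∧
      (∀ χ : Mem M G, (χ.1 : G → ℂ) 1 = (deg χ : ℂ)) ∧
      (∀ (x : ↥X) (χ : Mem M G), (χ.1 : G → ℂ) (x : G) = (a x χ : ℂ)) ∧
      (∀ χ ψ : Mem M G, sec 1 χ.1 ψ.1 = (matN T a χ ψ : ℂ)) ∧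
      (∀ χ ψ : Mem M G, sec z χ.1 ψ.1 + sec z ψ.1 χ.1 = (matB T a χ ψ : ℂ)) ∧
      (∀ χ ψ : Mem M G, ∃ S : ℤ, (9 : ℂ) * S =
        sec 1 χ.1 ψ.1 + omega3 * sec z χ.1 ψ.1 + omega3 ^ 2 * sec z ψ.1 χ.1) := by
  haveI : Fact (Nat.Prime 3) := ⟨Nat.prime_three⟩
  have hG0 : (Nat.card G : ℂ) ≠ 0 := Nat.cast_ne_zero.2 Nat.card_pos.ne'
  have hdeg : ∀ χ : Mem M G, ∃ d : ℕ, 0 < d ∧ (χ.1 : G → ℂ) 1 = d := fun χ =>
    irr_exists_degree χ.1.2
  choose dg hdg0 hdg using hdeg
  have hxo : ∀ x : ↥X, orderOf (x : G) = 3 := fun x =>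
    orderOf_eq_prime (F.core.exp _ (F.xmem _ x.2).1) fun h => (F.xmem _ x.2).2 (h ▸ one_mem _)
  have hval : ∀ (x : ↥X) (χ : Mem M G), ∃ a : ℤ, (χ.1 : G → ℂ) (x : G) = a ∧
      (3 : ℤ) ∣ (dg χ : ℤ) + 2 * a := fun x χ =>
    CfsgLib.MathieuBlocks.exists_int_value_three χ.1 (hxo x) (hreal _ x.2) (hdg χ)
  choose a ha hacong using hval
  -- the twisted products
  have hS : ∀ χ ψ : Mem M G, ∃ S : ℤ, classInner (fun g => 3 * tw z g * (χ.1 : G → ℂ) g)
      (ψ.1 : G → ℂ) = S := fun χ ψ =>
    classInner_generalized_int (isGeneralizedCharacter_mul (three_tw_generalized F.core)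
      (isGeneralizedCharacter_irr χ.1)) (isGeneralizedCharacter_irr ψ.1)
  choose S hS using hS
  have hz2 : ∀ χ ψ : IrrCharacter G, sec (z ^ 2) χ ψ = sec z ψ χ := fun χ ψ => by
    rw [← F.core.inv_z, sec_inv]
  have h9S : ∀ χ ψ : Mem M G, (9 : ℂ) * S χ ψ =
      sec 1 χ.1 ψ.1 + omega3 * sec z χ.1 ψ.1 + omega3 ^ 2 * sec z ψ.1 χ.1 := by
    intro χ ψ
    rw [← hz2 χ.1 ψ.1, ← hS, classInner]
    simp only [sec, secSet, Finset.sum_filter, Finset.mul_sum, ← Finset.sum_add_distrib]
    refine Finset.sum_congr rfl fun g _ => ?_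
    rw [tw_eq_indicator F]
    split_ifs <;> ring
  have hsym1 : ∀ χ ψ : IrrCharacter G, sec 1 χ ψ = sec 1 ψ χ := fun χ ψ => by
    rw [← sec_conj, sec_one_real]
  let T : Mem M G → Mem M G → ℤ := fun χ ψ => S χ ψ + S ψ χ
  have hA : ∀ χ ψ : Mem M G, ∑ x ∈ X, sec x χ.1 ψ.1 = 3 * (colA a χ ψ : ℂ) := by
    intro χ ψ
    rw [← Finset.sum_coe_sort X, colA, Int.cast_sum, Finset.mul_sum]
    refine Finset.sum_congr rfl fun x _ => ?_
    rw [sec_noncentral F.core hM (F.xmem _ x.2).1 (F.xmem _ x.2).2 χ.2 ψ.2, ha, ha,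
      map_intCast]
    push_cast
    ring
  have hsum : ∀ χ ψ : Mem M G, sec 1 χ.1 ψ.1 + (sec z χ.1 ψ.1 + sec z ψ.1 χ.1) +
      3 * (colA a χ ψ : ℂ) = if χ = ψ then 27 else 0 := by
    intro χ ψ
    have h := sum_sec F χ.1 ψ.1
    rw [hz2, hA] at h
    rw [show (if χ = ψ then (27 : ℂ) else 0) = if χ.1 = ψ.1 then 27 else 0 by
      simp [Subtype.ext_iff], ← h]
    ring
  have hT : ∀ χ ψ : Mem M G, (9 : ℂ) * T χ ψ =
      2 * sec 1 χ.1 ψ.1 - (sec z χ.1 ψ.1 + sec z ψ.1 χ.1) := by
    intro χ ψ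
    simp only [T, Int.cast_add, mul_add, h9S, hsym1 ψ.1 χ.1]
    linear_combination (sec z χ.1 ψ.1 + sec z ψ.1 χ.1) * omega3_sum
  have hN : ∀ χ ψ : Mem M G, sec 1 χ.1 ψ.1 = (matN T a χ ψ : ℂ) := by
    intro χ ψ
    have h1 := hsum χ ψ
    have h2 := hT χ ψ
    simp only [matN]
    push_cast
    split_ifs with he
    · rw [if_pos he] at h1
      linear_combination (h1 - h2) / 3
    · rw [if_neg he] at h1
      linear_combination (h1 - h2) / 3
  have hB : ∀ χ ψ : Mem M G, sec z χ.1 ψ.1 + sec z ψ.1 χ.1 = (matB T a χ ψ : ℂ) := by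
    intro χ ψ
    have h1 := hsum χ ψ
    have h2 := hT χ ψ
    simp only [matB]
    push_cast
    split_ifs with he
    · rw [if_pos he] at h1
      linear_combination (2 * h1 + h2) / 3
    · rw [if_neg he] at h1
      linear_combination (2 * h1 + h2) / 3
  have hNsym : ∀ χ ψ, matN T a χ ψ = matN T a ψ χ := fun χ ψ => by
    have h := hN χ ψ
    rw [hsym1, hN] at h
    exact_mod_cast h.symm
  -- vanishing of the pairing of a noncentral column with other sections
  have horth : ∀ (x : ↥X) (g : G), ¬ IsConj (x : G) (ppart g) →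
      ∑ χ : Mem M G, (a x χ : ℂ) * conj ((χ.1 : G → ℂ) g) = 0 := by
    intro x g hne
    have h := sum_block_orth hM (g := (x : G)) (h := g)
      (by rwa [ppart_self (order_mem P (F.xmem _ x.2).1)])
    rw [sum_mem] at h
    simpa only [ha] using h
  have hxz : ∀ x : ↥X, ¬ IsConj (x : G) 1 := fun x h => (F.xmem _ x.2).2 (by
    rw [isConj_one_left.1 h]; exact one_mem _)
  refine ⟨fun χ => (dg χ : ℤ), T, a, ?_, fun χ => by rw [hdg]; norm_cast, ha, hN, hB,
    fun χ ψ => ⟨S χ ψ, h9S χ ψ⟩⟩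
  have hpos1 := sec_trivial_pos (G := G) (u := 1) ⟨0, by simp⟩
  have hposz := sec_trivial_pos (G := G) (u := z) (order_mem P F.core.zmem)
  have hNoo : 0 < matN T a (triv hM) (triv hM) := by
    obtain ⟨r, hr, he⟩ := hpos1
    have h := hN (triv hM) (triv hM)
    change sec 1 (principalIrr G) (principalIrr G) = _ at h
    rw [← he] at h
    have h' : r = (matN T a (triv hM) (triv hM) : ℝ) := by exact_mod_cast h
    rw [h'] at hr
    exact_mod_cast hr
  have hBoo : 0 < matB T a (triv hM) (triv hM) := by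
    obtain ⟨r, hr, he⟩ := hposz
    have h := hB (triv hM) (triv hM)
    change sec z (principalIrr G) (principalIrr G) + sec z (principalIrr G) (principalIrr G) = _ at h
    rw [← he] at h
    have h' : r + r = (matB T a (triv hM) (triv hM) : ℝ) := by exact_mod_cast h
    have : (0 : ℝ) < (matB T a (triv hM) (triv hM) : ℝ) := by rw [← h']; linarith
    exact_mod_cast this
  have hcsN : ∀ χ : Mem M G, 0 ≤ matN T a χ χ ∧
      (matN T a χ (triv hM) ^ 2 ≤ matN T a (triv hM) (triv hM) * matN T a χ χ ∧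
        (matN T a χ (triv hM) ^ 2 = matN T a (triv hM) (triv hM) * matN T a χ χ →
          matN T a (triv hM) (triv hM) ∣ matN T a χ (triv hM))) := by
    intro χ
    set Noo := matN T a (triv hM) (triv hM) with hNoo'
    set Nio := matN T a χ (triv hM) with hNio
    set Nii := matN T a χ χ with hNii
    obtain ⟨r0, hr0, he0, -⟩ := exists_quad 1 χ.1 0 1
    obtain ⟨r, hr, he, hz0⟩ := exists_quad 1 χ.1 Nio Noo
    have e1 := hN χ (triv hM)
    have e2 := hN (triv hM) χ
    have e3 := hN (triv hM) (triv hM)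
    have e4 := hN χ χ
    rw [hNsym (triv hM) χ] at e2
    change sec 1 χ.1 (principalIrr G) = _ at e1
    change sec 1 (principalIrr G) χ.1 = _ at e2
    change sec 1 (principalIrr G) (principalIrr G) = _ at e3
    rw [e1, e2, e3, e4, ← hNii, ← hNio, ← hNoo'] at he he0
    have hr' : r = ((Noo * (Noo * Nii - Nio ^ 2) : ℤ) : ℝ) := by
      have : (r : ℂ) = (((Noo * (Noo * Nii - Nio ^ 2) : ℤ) : ℝ) : ℂ) := by
        rw [he]; push_cast; ring
      exact_mod_cast this
    have hr0' : r0 = (Nii : ℝ) := by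
      have : (r0 : ℂ) = ((Nii : ℝ) : ℂ) := by rw [he0]; push_cast; ring
      exact_mod_cast this
    rw [hr0'] at hr0
    rw [hr'] at hr hz0
    have hrz : 0 ≤ Noo * (Noo * Nii - Nio ^ 2) := by exact_mod_cast hr
    refine ⟨by exact_mod_cast hr0, by nlinarith, fun heq => ⟨(dg χ : ℤ), ?_⟩⟩
    have h := hz0 (by rw [heq, sub_self, mul_zero, Int.cast_zero]) 1
      (mem_secSet.2 (by rw [ppart_self ⟨0, by simp⟩]))
    rw [hdg] at h
    exact_mod_cast h.symm
  have hcsB : ∀ χ : Mem M G, 0 ≤ matB T a χ χ ∧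
      (matB T a χ (triv hM) ^ 2 ≤ matB T a (triv hM) (triv hM) * matB T a χ χ ∧
        (matB T a χ (triv hM) ^ 2 = matB T a (triv hM) (triv hM) * matB T a χ χ →
          matB T a (triv hM) (triv hM) ∣ matB T a χ (triv hM))) := by
    intro χ
    set Boo := matB T a (triv hM) (triv hM) with hBoo'
    set Bio := matB T a χ (triv hM) with hBio
    set Bii := matB T a χ χ with hBii
    obtain ⟨r0, hr0, he0, -⟩ := exists_quad z χ.1 0 1
    obtain ⟨r, hr, he, hz0⟩ := exists_quad z χ.1 Bio Boo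
    have e1 := hB χ (triv hM)
    have e3 := hB (triv hM) (triv hM)
    have e4 := hB χ χ
    change sec z χ.1 (principalIrr G) + sec z (principalIrr G) χ.1 = _ at e1
    change sec z (principalIrr G) (principalIrr G) + sec z (principalIrr G) (principalIrr G) = _ at e3
    have e3' : sec z (principalIrr G) (principalIrr G) = (Boo : ℂ) / 2 := by
      rw [hBoo']; linear_combination e3 / 2
    have e4' : sec z χ.1 χ.1 = (Bii : ℂ) / 2 := by rw [hBii]; linear_combination e4 / 2
    rw [e1, e3', e4', ← hBio] at he he0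
    have hr' : 2 * r = ((Boo * (Boo * Bii - Bio ^ 2) : ℤ) : ℝ) := by
      have : ((2 * r : ℝ) : ℂ) = (((Boo * (Boo * Bii - Bio ^ 2) : ℤ) : ℝ) : ℂ) := by
        push_cast; rw [he]; ring
      exact_mod_cast this
    have hr0' : 2 * r0 = (Bii : ℝ) := by
      have : ((2 * r0 : ℝ) : ℂ) = ((Bii : ℝ) : ℂ) := by push_cast; rw [he0]; push_cast; ring
      exact_mod_cast this
    have hrz : 0 ≤ Boo * (Boo * Bii - Bio ^ 2) := by
      have : (0 : ℝ) ≤ ((Boo * (Boo * Bii - Bio ^ 2) : ℤ) : ℝ) := by rw [← hr']; linarith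
      exact_mod_cast this
    refine ⟨?_, by nlinarith, fun heq => ?_⟩
    · have : (0 : ℝ) ≤ (Bii : ℝ) := by rw [← hr0']; linarith
      exact_mod_cast this
    have h := hz0 (by
      have : ((Boo * (Boo * Bii - Bio ^ 2) : ℤ) : ℝ) = 0 := by
        rw [heq, sub_self, mul_zero, Int.cast_zero]
      linarith) z (mem_secSet.2 (by rw [ppart_self (order_mem P F.core.zmem)]))
    exact exists_int_of_mul_eq (ClassCount.irr_isIntegral χ.1 z) hBoo.ne' h
  refine
    { deg_pos := fun χ => by exact_mod_cast hdg0 χ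
      deg_o := ?_
      a_o := fun x => ?_
      symm := fun χ ψ => add_comm _ _
      diag_even := fun χ => ⟨S χ χ, by simp only [T]; ring⟩
      orth := fun x y => ?_
      sum_deg := fun x => ?_
      congr_deg := fun x χ => ?_
      annih := fun x χ => ?_
      idem := fun χ => ?_
      ne_zero := fun χ => ?_
      congr := fun v hv => ?_
      nonneg := fun χ => ⟨(hcsN χ).1, (hcsB χ).1⟩
      csN := fun χ => (hcsN χ).2
      csB := fun χ => (hcsB χ).2
      galois := fun χ hodd => ?_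
      traceN := ?_
      traceB := ?_ }
  · have h := hdg (triv hM)
    change (1 : ℂ) = _ at h
    exact_mod_cast h.symm
  · have h := ha x (triv hM)
    change (1 : ℂ) = _ at h
    exact_mod_cast h.symm
  · -- orthogonality of the columns
    have h1 : ∀ g, IsConj (y : G) (ppart g) → ∀ χ : Mem M G, (χ.1 : G → ℂ) g = (a y χ : ℂ) :=
      fun g hg χ => by
        rw [apply_noncentral F.core hM (F.xmem _ y.2).1 (F.xmem _ y.2).2 χ.2 hg, ha]
    split_ifs with hxy
    · subst hxy
      haveI : Fintype ↥(Subgroup.centralizer ({(x : G)} : Set G)) := Fintype.ofFinite _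
      have h := trace_sec hM (order_mem P (F.xmem _ x.2).1)
      rw [centralizer_rank F.core hM (F.xmem _ x.2).1 (F.xmem _ x.2).2, sum_mem] at h
      have e : ∀ χ : Mem M G, sec (x : G) χ.1 χ.1 = 3 * ((a x χ : ℂ) * a x χ) := fun χ => by
        rw [sec_noncentral F.core hM (F.xmem _ x.2).1 (F.xmem _ x.2).2 χ.2 χ.2, ha,
          map_intCast]
      simp only [e, ← Finset.mul_sum] at h
      have h' : ((3 * ∑ χ, a x χ * a x χ : ℤ) : ℂ) = ((27 : ℤ) : ℂ) := by
        push_cast; rw [h]; norm_num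
      have h'' := Int.cast_inj.1 h'
      linarith
    · have hne : ¬ IsConj (x : G) (y : G) := fun h => hxy (Subtype.ext (F.xinj _ x.2 _ y.2 h))
      have hyp := ppart_self (order_mem P (F.xmem _ y.2).1)
      have h := horth x (y : G) (by rwa [hyp])
      simp only [ha, map_intCast] at h
      exact_mod_cast h
  · have h := horth x 1 (by rw [ppart_self ⟨0, by simp⟩]; exact hxz x)
    simp only [hdg, Complex.conj_natCast] at h
    exact_mod_cast h
  · have := hacong x χ
    omega
  · -- the columns are annihilated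
    have h0 : ((∑ ψ, a x ψ * matN T a χ ψ : ℤ) : ℂ) = 0 := by
      push_cast
      simp only [← hN, sec, Finset.mul_sum]
      rw [Finset.sum_comm]
      refine Finset.sum_eq_zero fun g hg => ?_
      have hg' : ppart g = 1 := isConj_one_right.1 (mem_secSet.1 hg)
      have h := horth x g (by rw [hg']; exact hxz x)
      calc ∑ ψ : Mem M G, (a x ψ : ℂ) * (27 * ((Nat.card G : ℂ)⁻¹ *
            ((χ.1 : G → ℂ) g * conj ((ψ.1 : G → ℂ) g))))
          = 27 * ((Nat.card G : ℂ)⁻¹ * ((χ.1 : G → ℂ) g *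
              ∑ ψ : Mem M G, (a x ψ : ℂ) * conj ((ψ.1 : G → ℂ) g))) := by
            simp only [Finset.mul_sum]; exact Finset.sum_congr rfl fun ψ _ => by ring
        _ = 0 := by rw [h]; ring
    exact_mod_cast h0
  · have h := sum_sec_mul hM 1 χ.2 χ.1
    rw [sum_mem] at h
    simp only [hN] at h
    have h' : ((∑ ψ, matN T a χ ψ * matN T a χ ψ : ℤ) : ℂ) = ((27 * matN T a χ χ : ℤ) : ℂ) := by
      push_cast
      rw [← h]
      exact Finset.sum_congr rfl fun ψ _ => by rw [hNsym ψ χ]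
    exact_mod_cast h'
  · -- the regular sum does not vanish
    intro h0
    have h := hN χ (triv hM)
    rw [h0, Int.cast_zero] at h
    change sec 1 χ.1 (principalIrr G) = 0 at h
    simp only [sec, principalIrr_apply, map_one, mul_one, mul_eq_zero, inv_eq_zero, hG0,
      false_or, OfNat.ofNat_ne_zero, secSet_one] at h
    exact omega_regSum_not_mem hM χ.2 (by
      rw [omega_regSum, h, zero_div]; exact memLocalIdeal_zero hM)
  · -- the congruence
    set f : G → ℂ := fun g => ∑ χ : Mem M G, (v χ : ℂ) * (χ.1 : G → ℂ) g with hf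
    have hgen : IsGeneralizedCharacter G f := by
      have := isGeneralizedCharacter_sum (G := G) (Finset.univ : Finset (Mem M G))
        (f := fun χ => (v χ : ℂ) • (χ.1 : G → ℂ)) fun χ _ =>
          isGeneralizedCharacter_intCast_smul (isGeneralizedCharacter_irr χ.1) (v χ)
      convert this using 1
      funext g
      simp [hf, Finset.sum_apply]
    obtain ⟨k, hk⟩ := classInner_generalized_int (tw_sq_generalized F.core hgen fun g hg => by
      obtain ⟨x, hx, hxg⟩ := tw_zero_iff F hg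
      have h1 : ∀ χ : Mem M G, (χ.1 : G → ℂ) g = (a ⟨x, hx⟩ χ : ℂ) := fun χ => by
        rw [apply_noncentral F.core hM (F.xmem _ hx).1 (F.xmem _ hx).2 χ.2 hxg, ← ha]
      simp only [hf, h1]
      exact_mod_cast hv ⟨x, hx⟩) (isGeneralizedCharacter_one (G := G))
    have hsum2 : ((∑ χ, ∑ ψ, v χ * v ψ * S ψ χ : ℤ) : ℂ) = ((3 * k : ℤ) : ℂ) := by
      push_cast
      rw [← hk]
      simp only [← hS, classInner, hf, Pi.one_apply, map_one, mul_one, map_sum, map_mul,
        map_intCast, Finset.mul_sum, Finset.sum_mul]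
      rw [Finset.sum_comm (γ := G)]
      refine Finset.sum_congr rfl fun χ _ => ?_
      rw [Finset.sum_comm (γ := G)]
      refine Finset.sum_congr rfl fun g _ => Finset.sum_congr rfl fun ψ _ => ?_
      ring
    have hsum3 : ∑ χ, ∑ ψ, v χ * v ψ * S χ ψ = 3 * k := by
      rw [← Int.cast_inj.1 hsum2, Finset.sum_comm]
      exact Finset.sum_congr rfl fun χ _ => Finset.sum_congr rfl fun ψ _ => by ring
    refine ⟨2 * k, ?_⟩
    calc ∑ χ, ∑ ψ, v χ * v ψ * T χ ψ
        = ∑ χ, ∑ ψ, v χ * v ψ * S χ ψ + ∑ χ, ∑ ψ, v χ * v ψ * S ψ χ := by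
          simp only [T, mul_add, Finset.sum_add_distrib]
      _ = ∑ χ, ∑ ψ, v χ * v ψ * S χ ψ + ∑ χ, ∑ ψ, v χ * v ψ * S χ ψ := by
          rw [Finset.sum_comm (f := fun χ ψ => v χ * v ψ * S ψ χ)]
          exact congrArg _ (Finset.sum_congr rfl fun χ _ => Finset.sum_congr rfl fun ψ _ => by ring)
      _ = 3 * (2 * k) := by rw [hsum3]; ring
  · -- a nonrational row
    obtain ⟨m, hmG, hm, hreg⟩ := exists_twist_exponent F.core
    let σ : IrrCharacter G := ⟨fun g => (χ.1 : G → ℂ) (g ^ m), CharGalois.isIrrCharacter_pow χ.1.2 hmG⟩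
    have hσapp : ∀ g, (σ : G → ℂ) g = (χ.1 : G → ℂ) (g ^ m) := fun g => rfl
    have hσB : σ ∈ principalBlock M G := by
      refine CfsgLib.ThreeChars.mem_of_regular_sum hM ?_
      rw [Finset.sum_congr rfl fun g hg => by rw [hσapp, hreg g (Finset.mem_filter.1 hg).2]]
      intro h
      exact omega_regSum_not_mem hM χ.2 (by
        rw [omega_regSum, h, zero_div]; exact memLocalIdeal_zero hM)
    have hsq : ∀ g, IsConj z (ppart g) ↔ IsConj (z ^ 2) (ppart (g ^ m)) := by
      intro g
      rw [(hm g).1]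
      constructor
      · intro h
        obtain ⟨c, hc⟩ := isConj_iff.1 h
        exact isConj_iff.2 ⟨c, by rw [← hc, conj_pow]⟩
      · intro h
        obtain ⟨c, hc⟩ := isConj_iff.1 h
        refine isConj_iff.2 ⟨c, ?_⟩
        have hu3 : ppart g ^ 3 = 1 := by
          obtain ⟨b, hb⟩ := exists_conj_mem P (ppart_order g)
          have h := F.core.exp _ hb
          rwa [conj_pow, conj_eq_one_iff] at h
        calc c * z * c⁻¹ = (c * z ^ 2 * c⁻¹) ^ 2 := by
              rw [conj_pow, ← pow_mul, show 2 * 2 = 3 + 1 from rfl, pow_succ, F.core.z3, one_mul]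
          _ = ppart g := by rw [hc, ← pow_mul, show 2 * 2 = 3 + 1 from rfl, pow_succ, hu3, one_mul]
    by_cases hfix : σ = χ.1
    · -- a rational row has an even entry
      exfalso
      have hcomm : sec z χ.1 (principalIrr G) = sec z (principalIrr G) χ.1 := by
        rw [← hz2 χ.1 (principalIrr G)]
        simp only [sec, principalIrr_apply, map_one, mul_one]
        congr 2
        refine Finset.sum_nbij' (fun g => g ^ m) (fun g => g ^ m)
          (fun g hg => mem_secSet.2 ((hsq g).1 (mem_secSet.1 hg)))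
          (fun g hg => mem_secSet.2 ((hsq (g ^ m)).2 (by rw [(hm g).2]; exact mem_secSet.1 hg)))
          (fun g _ => (hm g).2) (fun g _ => (hm g).2) fun g _ => ?_
        rw [← hσapp, hfix]
      have hS' : S χ (triv hM) = S (triv hM) χ := by
        have h1 := h9S χ (triv hM)
        have h2 := h9S (triv hM) χ
        change _ = sec 1 χ.1 (principalIrr G) + omega3 * sec z χ.1 (principalIrr G) +
          omega3 ^ 2 * sec z (principalIrr G) χ.1 at h1
        change _ = sec 1 (principalIrr G) χ.1 + omega3 * sec z (principalIrr G) χ.1 +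
          omega3 ^ 2 * sec z χ.1 (principalIrr G) at h2
        rw [hcomm] at h1 h2
        rw [hsym1 (principalIrr G) χ.1] at h2
        have : ((9 * S χ (triv hM) : ℤ) : ℂ) = ((9 * S (triv hM) χ : ℤ) : ℂ) := by
          push_cast; rw [h1, h2]
        have := Int.cast_inj.1 this
        omega
      simp only [T, hS'] at hodd
      exact (Int.not_even_iff_odd.2 hodd) ⟨_, rfl⟩
    · set σ' : Mem M G := ⟨σ, hσB⟩
      have hne : χ ≠ σ' := fun h => hfix (congrArg Subtype.val h).symm
      have haσ : ∀ x : ↥X, a x σ' = a x χ := by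
        intro x
        have h := ha x σ'
        change (σ : G → ℂ) (x : G) = _ at h
        rw [hσapp] at h
        have hx2 : (x : G) ^ m = (x : G)⁻¹ := by
          have h1 := (hm (x : G)).1
          have hxp := order_mem P (F.xmem _ x.2).1
          have hpm : ∃ k : ℕ, orderOf ((x : G) ^ m) = 3 ^ k :=
            order_mem P (pow_mem (F.xmem _ x.2).1 m)
          rw [ppart_self hpm, ppart_self hxp] at h1
          rw [h1, inv_eq_of_mul_eq_one_left]
          rw [← pow_succ, F.core.exp _ (F.xmem _ x.2).1]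
        rw [hx2, classFunction_eq_of_isConj (irr_isClassFunction χ.1) (hreal _ x.2).symm, ha] at h
        exact_mod_cast h.symm
      have hAσ : colA a χ σ' = colA a χ χ ∧ colA a σ' σ' = colA a χ χ :=
        ⟨Finset.sum_congr rfl fun x _ => by rw [haσ], Finset.sum_congr rfl fun x _ => by rw [haσ]⟩
      have hN1 : ∀ ψ φ : IrrCharacter G, (∀ g, ¬ 3 ∣ orderOf g → (ψ : G → ℂ) g = (φ : G → ℂ) g) →
          ∀ η : IrrCharacter G, sec 1 η ψ = sec 1 η φ := by
        intro ψ φ h η
        simp only [sec, secSet_one]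
        congr 2
        exact Finset.sum_congr rfl fun g hg => by rw [h g (Finset.mem_filter.1 hg).2]
      have hregσ : ∀ g, ¬ 3 ∣ orderOf g → (σ : G → ℂ) g = (χ.1 : G → ℂ) g := fun g hg => by
        rw [hσapp, hreg g hg]
      have hNσ : matN T a χ σ' = matN T a χ χ ∧ matN T a σ' σ' = matN T a χ χ := by
        constructor <;> rw [← Int.cast_inj (α := ℂ), ← hN, ← hN]
        · exact hN1 _ _ hregσ _
        · rw [hN1 _ _ hregσ _, hsym1, hN1 _ _ hregσ _]
      have hBσ : matB T a σ' σ' = matB T a χ χ := by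
        have h1 := hNσ.2
        simp only [matN, matB, if_true, hAσ.2] at h1 ⊢
        linarith
      have hre : -((matB T a χ χ : ℤ) : ℝ) - ((matB T a σ' σ' : ℤ) : ℝ) ≤
          2 * ((matB T a χ σ' : ℤ) : ℝ) := by
        have e1 := congrArg Complex.re (hB χ χ)
        have e2 := congrArg Complex.re (hB σ' σ')
        have e3 := congrArg Complex.re (hB χ σ')
        rw [show ((matB T a χ χ : ℤ) : ℂ).re = (matB T a χ χ : ℝ) from rfl] at e1
        rw [show ((matB T a σ' σ' : ℤ) : ℂ).re = (matB T a σ' σ' : ℝ) from rfl] at e2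
        rw [show ((matB T a χ σ' : ℤ) : ℂ).re = (matB T a χ σ' : ℝ) from rfl] at e3
        rw [← e1, ← e2, ← e3]
        simp only [sec, Complex.add_re, Complex.mul_re, Complex.inv_re, Complex.inv_im,
          Complex.natCast_re, Complex.natCast_im, Complex.re_ofNat, Complex.im_ofNat, zero_mul,
          sub_zero, mul_zero, neg_zero, zero_div, Complex.re_sum]
        have hc0 : (0 : ℝ) ≤ 27 * ((Nat.card G : ℝ) / Complex.normSq (Nat.card G : ℂ)) :=
          mul_nonneg (by norm_num) (div_nonneg (Nat.cast_nonneg _) (Complex.normSq_nonneg _))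
        set p := fun g => (χ.1 : G → ℂ) g with hp
        set q := fun g => (σ'.1 : G → ℂ) g with hq
        have hpt : ∑ g ∈ secSet z, (-(p g * conj (p g)).re - (q g * conj (q g)).re) ≤
            ∑ g ∈ secSet z, ((p g * conj (q g)).re + (q g * conj (p g)).re) :=
          Finset.sum_le_sum fun g _ => by
            simp only [Complex.mul_re, Complex.conj_re, Complex.conj_im]
            nlinarith [sq_nonneg ((p g).re + (q g).re), sq_nonneg ((p g).im + (q g).im)]
        simp only [Finset.sum_sub_distrib, Finset.sum_neg_distrib, Finset.sum_add_distrib, hp, hq,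
          Complex.mul_re] at hpt
        simp only [Finset.sum_sub_distrib]
        nlinarith [mul_le_mul_of_nonneg_left hpt hc0]
      have hre' : -matB T a χ χ ≤ matB T a χ σ' := by
        rw [hBσ] at hre
        have : ((-matB T a χ χ : ℤ) : ℝ) ≤ ((matB T a χ σ' : ℤ) : ℝ) := by push_cast; linarith
        exact_mod_cast this
      have h0 : matN T a χ σ' + matB T a χ σ' + 3 * colA a χ σ' = 0 := by
        simp only [matN, matB, hne, if_false]; ring
      rw [hNσ.1, hAσ.1] at h0
      linarith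
  · have h := trace_sec_one (G := G) hM
    rw [sum_mem] at h
    simp only [hN] at h
    exact_mod_cast h
  · have h := trace_sec hM (order_mem P F.core.zmem)
    rw [sum_mem] at h
    have e : ∀ χ : Mem M G, sec z χ.1 χ.1 = (matB T a χ χ : ℂ) / 2 := fun χ => by
      linear_combination (hB χ χ) / 2
    simp only [e, ← Finset.sum_div] at h
    have h' : ((∑ χ, matB T a χ χ : ℤ) : ℂ) =
        ((54 * blockRank 3 (principalBlock M ↥(Subgroup.centralizer ({z} : Set G))) : ℤ) : ℂ) := by
      push_cast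
      linear_combination 2 * h
    exact_mod_cast h'

/-- The extra data when `z` is central. -/
theorem exists_central (F : Frame P z X) (hM : IsPModular 3 M) (hzc : ∀ g : G, Commute z g)
    {T : Mem M G → Mem M G → ℤ} {a : ↥X → Mem M G → ℤ}
    (ha : ∀ (x : ↥X) (χ : Mem M G), (χ.1 : G → ℂ) (x : G) = (a x χ : ℂ))
    (hN : ∀ χ ψ : Mem M G, sec 1 χ.1 ψ.1 = (matN T a χ ψ : ℂ))
    (hB : ∀ χ ψ : Mem M G, sec z χ.1 ψ.1 + sec z ψ.1 χ.1 = (matB T a χ ψ : ℂ))
    (hS : ∀ χ ψ : Mem M G, ∃ S : ℤ, (9 : ℂ) * S =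
      sec 1 χ.1 ψ.1 + omega3 * sec z χ.1 ψ.1 + omega3 ^ 2 * sec z ψ.1 χ.1) :
    ∃ s : Mem M G → ℕ, Central (triv hM) T a s := by
  haveI : Fact (Nat.Prime 3) := ⟨Nat.prime_three⟩
  have hcen : z ∈ Subgroup.center G := Subgroup.mem_center_iff.2 fun g => (hzc g).eq.symm
  have hlam : ∀ χ : Mem M G, ∃ s, s < 3 ∧ ∀ g, (χ.1 : G → ℂ) (z * g) = omega3 ^ s * (χ.1 : G → ℂ) g := by
    intro χ
    have h1 : ((χ.1 : G → ℂ) z / (χ.1 : G → ℂ) 1) ^ 3 = 1 := by
      have e1 := CentralDefect.apply_central_mul χ.1 hcen (z ^ 2)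
      have e2 := CentralDefect.apply_central_mul χ.1 hcen z
      rw [← pow_succ', F.core.z3, pow_two, e2] at e1
      have hne := irr_one_ne_zero χ.1
      field_simp at e1 ⊢
      linear_combination -e1
    obtain ⟨s, hs, he⟩ := omega3_primitive.eq_pow_of_pow_eq_one h1
    exact ⟨s, hs, fun g => by rw [CentralDefect.apply_central_mul χ.1 hcen g, he]⟩
  choose s hs hsz using hlam
  have hpp : ∀ g : G, ppart (z * g) = z * ppart g := by
    intro g
    obtain ⟨y, hy, hc, -, hyp⟩ := isPPart_ppart g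
    refine ppart_eq ⟨y, by rw [mul_assoc, hy], (hzc y).mul_left hc, ?_, hyp⟩
    obtain ⟨k, hk⟩ := ppart_order g
    have hd : orderOf (z * ppart g) ∣ 3 ^ (max k 1) := by
      refine orderOf_dvd_of_pow_eq_one ?_
      rw [(hzc _).mul_pow, orderOf_dvd_iff_pow_eq_one.1 (by
          rw [F.core.order_z]; exact dvd_pow_self 3 (by omega)),
        orderOf_dvd_iff_pow_eq_one.1 (by rw [hk]; exact pow_dvd_pow 3 (le_max_left _ _)), one_mul]
    obtain ⟨j, -, hj⟩ := (Nat.dvd_prime_pow Nat.prime_three).1 hd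
    exact ⟨j, hj⟩
  have hmap : ∀ g : G, IsConj 1 (ppart g) ↔ IsConj z (ppart (z * g)) := by
    intro g
    rw [hpp, isConj_one_right]
    refine ⟨fun h => by rw [h, mul_one], fun h => ?_⟩
    obtain ⟨c, hc⟩ := isConj_iff.1 h
    rw [← (hzc c).eq, mul_inv_cancel_right] at hc
    exact (mul_eq_left.1 hc.symm)
  have hsec : ∀ χ ψ : Mem M G, sec z χ.1 ψ.1 = omega3 ^ s χ * conj (omega3 ^ s ψ) * sec 1 χ.1 ψ.1 := by
    intro χ ψ
    simp only [sec, Finset.mul_sum]
    symm
    refine Finset.sum_nbij' (fun g => z * g) (fun g => z⁻¹ * g)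
      (fun g hg => mem_secSet.2 ((hmap g).1 (mem_secSet.1 hg)))
      (fun g hg => mem_secSet.2 ((hmap _).2 (by rw [mul_inv_cancel_left]; exact mem_secSet.1 hg)))
      (fun g _ => inv_mul_cancel_left z g) (fun g _ => mul_inv_cancel_left z g) fun g _ => ?_
    rw [hsz χ g, hsz ψ g, map_mul]
    ring
  have hNsym : ∀ χ ψ, matN T a χ ψ = matN T a ψ χ := fun χ ψ => by
    have h := hN χ ψ
    rw [← sec_one_real, sec_conj, hN] at h
    exact_mod_cast h.symm
  have hso : s (triv hM) = 0 := by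
    have h := hsz (triv hM) 1
    change (1 : ℂ) = omega3 ^ s (triv hM) * 1 at h
    rw [mul_one] at h
    by_contra hne
    exact omega3_primitive.pow_ne_one_of_pos_of_lt hne (hs _) h.symm
  have hunit : ∀ k : ℕ, omega3 ^ k * conj (omega3 ^ k) = 1 := fun k => by
    rw [map_pow, conj_omega3, ← mul_pow, ← pow_succ', omega3_cube, one_pow]
  -- the vanishing of the twisted pairing
  have hvan : ∀ g h : G, ppart g = 1 → ppart h = 1 →
      ∑ χ : Mem M G, omega3 ^ s χ * (χ.1 : G → ℂ) g * conj ((χ.1 : G → ℂ) h) = 0 := by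
    intro g h hg hh
    have hne : ¬ IsConj (ppart (z * g)) (ppart h) := by
      rw [hpp, hg, mul_one, hh]
      exact fun e => F.core.zne (isConj_one_left.1 e)
    have := sum_block_orth hM hne
    rw [sum_mem] at this
    simpa only [hsz] using this
  have hsplit : ∀ (f : Mem M G → ℤ), ∑ χ, omega3 ^ s χ * (f χ : ℂ) = 0 →
      ∀ r < 3, ∑ χ ∈ Finset.univ.filter (s · = r), f χ = ∑ χ ∈ Finset.univ.filter (s · = 0), f χ := by
    intro f hf
    rw [← Finset.sum_fiberwise_of_maps_to (t := Finset.range 3) (g := s)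
      fun χ _ => Finset.mem_range.2 (hs χ)] at hf
    simp only [Finset.sum_range_succ, Finset.sum_range_zero, zero_add] at hf
    set x0 := ∑ χ ∈ Finset.univ.filter (s · = 0), f χ with hx0
    set x1 := ∑ χ ∈ Finset.univ.filter (s · = 1), f χ with hx1
    set x2 := ∑ χ ∈ Finset.univ.filter (s · = 2), f χ with hx2
    have e : ∀ r : ℕ, ∑ χ ∈ Finset.univ.filter (s · = r), omega3 ^ s χ * (f χ : ℂ) =
        omega3 ^ r * ((∑ χ ∈ Finset.univ.filter (s · = r), f χ : ℤ) : ℂ) := fun r => by
      rw [Int.cast_sum, Finset.mul_sum]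
      exact Finset.sum_congr rfl fun χ hχ => by rw [(Finset.mem_filter.1 hχ).2]
    simp only [e, ← hx0, ← hx1, ← hx2, pow_zero, one_mul, pow_one] at hf
    have h' : ((x0 - x2 : ℤ) : ℂ) + omega3 * ((x1 - x2 : ℤ) : ℂ) = 0 := by
      push_cast
      linear_combination hf - (x2 : ℂ) * omega3_sum
    have him : omega3.im ≠ 0 := fun h0 => by
      have hr : conj omega3 = omega3 := Complex.conj_eq_iff_im.2 h0
      rw [conj_omega3] at hr
      have : omega3 = 1 := mul_left_cancel₀ omega3_ne_zero (by rw [← pow_two, hr, mul_one])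
      exact omega3_ne this
    have h12 : x1 - x2 = 0 := by
      have := congrArg Complex.im h'
      simp only [Complex.add_im, Complex.mul_im, Complex.intCast_im, Complex.intCast_re, mul_zero,
        zero_add, Complex.zero_im] at this
      exact_mod_cast (mul_eq_zero.1 this).resolve_left him
    have h02 : x0 - x2 = 0 := by
      rw [h12, Int.cast_zero, mul_zero, add_zero] at h'
      exact_mod_cast h'
    intro r hr
    interval_cases r <;> omega
  refine ⟨s, hso, hs, fun χ hne x => ?_, fun χ ψ hst => ?_, ?_, ?_, ?_⟩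
  · obtain ⟨hxP, hxZ⟩ := F.xmem _ x.2
    obtain ⟨y, hy, e⟩ := F.core.push _ hxP hxZ
    have h := classFunction_eq_of_isConj (irr_isClassFunction χ.1)
      (isConj_iff.2 ⟨y, e⟩ : IsConj (x : G) ((x : G) * z))
    rw [← (hzc (x : G)).eq, hsz, ha] at h
    have hω : omega3 ^ s χ ≠ 1 :=
      omega3_primitive.pow_ne_one_of_pos_of_lt hne (hs χ)
    have : (a x χ : ℂ) = 0 := by
      have h' : (omega3 ^ s χ - 1) * (a x χ : ℂ) = 0 := by linear_combination -h
      exact (mul_eq_zero.1 h').resolve_left (sub_ne_zero.2 hω)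
    exact_mod_cast this
  · have h := hB χ ψ
    rw [hsec, hsec, hst, hunit, one_mul, one_mul, hN, hN, hNsym ψ χ] at h
    have h' : ((matB T a χ ψ : ℤ) : ℂ) = ((2 * matN T a χ ψ : ℤ) : ℂ) := by
      rw [← h]; push_cast; ring
    exact_mod_cast h'
  · refine hsplit (fun χ => matN T a χ χ) ?_
    simp only [← hN, sec, Finset.mul_sum]
    rw [Finset.sum_comm]
    refine Finset.sum_eq_zero fun g hg => ?_
    have hg' : ppart g = 1 := isConj_one_right.1 (mem_secSet.1 hg)
    calc ∑ χ : Mem M G, omega3 ^ s χ * (27 * ((Nat.card G : ℂ)⁻¹ *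
          ((χ.1 : G → ℂ) g * conj ((χ.1 : G → ℂ) g))))
        = 27 * ((Nat.card G : ℂ)⁻¹ * ∑ χ : Mem M G,
            omega3 ^ s χ * (χ.1 : G → ℂ) g * conj ((χ.1 : G → ℂ) g)) := by
          simp only [Finset.mul_sum]; exact Finset.sum_congr rfl fun χ _ => by ring
      _ = 0 := by rw [hvan g g hg' hg']; ring
  · intro k
    refine hsplit (fun χ => matN T a k χ ^ 2) ?_
    have e : ∀ χ, omega3 ^ s χ * ((matN T a k χ ^ 2 : ℤ) : ℂ) =
        omega3 ^ s χ * (sec 1 k.1 χ.1 * sec 1 χ.1 k.1) := fun χ => by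
      rw [hN, hN, hNsym χ k]; push_cast; ring
    simp only [e, sec, Finset.mul_sum, Finset.sum_mul]
    rw [Finset.sum_comm]
    refine Finset.sum_eq_zero fun g hg => ?_
    rw [Finset.sum_comm]
    refine Finset.sum_eq_zero fun h hh => ?_
    have hg' : ppart g = 1 := isConj_one_right.1 (mem_secSet.1 hg)
    have hh' : ppart h = 1 := isConj_one_right.1 (mem_secSet.1 hh)
    calc _ = 27 * 27 * ((Nat.card G : ℂ)⁻¹ * (Nat.card G : ℂ)⁻¹) *
          ((k.1 : G → ℂ) h * conj ((k.1 : G → ℂ) g)) *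
            ∑ χ : Mem M G, omega3 ^ s χ * (χ.1 : G → ℂ) g * conj ((χ.1 : G → ℂ) h) := by
          rw [Finset.mul_sum]; exact Finset.sum_congr rfl fun χ _ => by ring
      _ = 0 := by rw [hvan g h hg' hh', mul_zero]
  · intro χ ψ hχ hψ
    obtain ⟨S, hS⟩ := hS χ ψ
    rw [hsec, hsec, hχ, hψ, ← sec_conj 1 χ.1 ψ.1, sec_one_real, hN] at hS
    simp only [pow_zero, pow_one, map_one, conj_omega3, one_mul, mul_one] at hS
    refine ⟨S, ?_⟩
    rw [hNsym ψ χ]
    have h' : ((3 * (3 * S) : ℤ) : ℂ) = ((3 * matN T a χ ψ : ℤ) : ℂ) := by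
      push_cast
      linear_combination hS + 2 * (matN T a χ ψ : ℂ) * omega3_cube
    have := Int.cast_inj.1 h'
    omega

end CfsgLib.ExtraTwentySeven
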