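import Cfsg.Prelude.Def_Transfer
import Cfsg.Agent.Lib.PGroup.Extraspecial
import Cfsg.Agent.Lib.Transfer.Basic
import Cfsg.Agent.Lib.Transfer.NormalComplement
import Cfsg.Agent.Lib.Blocks.PPart

/-!
# Fusion in an extraspecial Sylow 3-subgroup of order 27 whose normaliser fixes the centre
-/

set_option autoImplicit false
set_option linter.unusedSectionVars false
set_option linter.style.haveILetI false

noncomputable section

namespace CfsgLib.ExtraTwentySeven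

open Subgroup CfsgLib.Blocks

universe u

variable {G : Type u} [Group G] [Finite G]

/-- The data at the Sylow subgroup: `z` spans the centre and the normaliser fixes it. -/
structure Core (P : Sylow 3 G) (z : G) : Prop where
  card : Nat.card P = 27
  exp : ∀ x ∈ (P : Subgroup G), x ^ 3 = 1
  zmem : z ∈ (P : Subgroup G)
  zne : z ≠ 1
  zc : ∀ x ∈ (P : Subgroup G), Commute z x
  comm : ∀ x ∈ (P : Subgroup G), ∀ y ∈ (P : Subgroup G), y * x * y⁻¹ * x⁻¹ ∈ zpowers z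
  push : ∀ x ∈ (P : Subgroup G), x ∉ zpowers z → ∃ y ∈ (P : Subgroup G), y * x * y⁻¹ = x * z
  norm : ∀ g ∈ normalizer ((P : Subgroup G) : Set G), Commute g z

theorem exists_core (P : Sylow 3 G) (hE : Cfsg.IsExtraspecial 3 ↥(P : Subgroup G))
    (h27 : Nat.card ↥(P : Subgroup G) = 27) (hexp : ∀ x ∈ (P : Subgroup G), x ^ 3 = 1)
    (hNC : ∀ g ∈ normalizer ((P : Subgroup G) : Set G), ∀ z ∈ (P : Subgroup G),
      (∀ y ∈ (P : Subgroup G), z * y = y * z) → g * z = z * g) :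
    ∃ z, Core P z := by
  haveI : Fact (Nat.Prime 3) := ⟨Nat.prime_three⟩
  obtain ⟨⟨w, hw⟩, hw1⟩ : ∃ w : center ↥(P : Subgroup G), w ≠ 1 := by
    by_contra! h
    haveI : Subsingleton (center ↥(P : Subgroup G)) := ⟨fun a b => (h a).trans (h b).symm⟩
    have := hE.2
    rw [Nat.card_unique] at this
    norm_num at this
  have hw1' : w ≠ 1 := fun e => hw1 (Subtype.ext e)
  have hgen : ∀ c : ↥(P : Subgroup G), c ∈ center ↥(P : Subgroup G) → (c : G) ∈ zpowers (w : G) := by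
    intro c hc
    rw [← CfsgLib.PGroup.extraspecial_zpowers_eq_center hE hw hw1'] at hc
    obtain ⟨i, rfl⟩ := mem_zpowers_iff.1 hc
    exact mem_zpowers_iff.2 ⟨i, by simp⟩
  have hzc : ∀ x ∈ (P : Subgroup G), Commute (w : G) x := fun x hx =>
    (congrArg Subtype.val (mem_center_iff.1 hw ⟨x, hx⟩)).symm
  have hcomm : ∀ x ∈ (P : Subgroup G), ∀ y ∈ (P : Subgroup G),
      y * x * y⁻¹ * x⁻¹ ∈ zpowers (w : G) := fun x hx y hy => by
    have := hgen _ (CfsgLib.PGroup.extraspecial_comm_mem_center hE ⟨y, hy⟩ ⟨x, hx⟩)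
    simpa [commutatorElement_def] using this
  refine ⟨w, h27, hexp, w.2, fun e => hw1' (Subtype.ext e), hzc, hcomm, ?_,
    fun g hg => hNC g hg w w.2 fun y hy => (hzc y hy)⟩
  intro x hx hxZ
  obtain ⟨⟨y, hy⟩, hyx⟩ : ∃ y : ↥(P : Subgroup G), y * ⟨x, hx⟩ ≠ ⟨x, hx⟩ * y := by
    by_contra! h
    exact hxZ (hgen ⟨x, hx⟩ (mem_center_iff.2 h))
  have hne : y * x * y⁻¹ * x⁻¹ ≠ 1 := fun e => hyx (Subtype.ext (by
    have e' : y * x * y⁻¹ = x := mul_inv_eq_one.1 e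
    exact mul_inv_eq_iff_eq_mul.1 e'))
  have hw3 : (w : G) ^ 3 = 1 := hexp _ w.2
  obtain ⟨i, hi⟩ := mem_zpowers_iff.1 (hcomm x hx y hy)
  have hconj : y * x * y⁻¹ = x * (w : G) ^ i := by
    rw [← (((hzc x hx)).zpow_left i).eq, hi]; group
  have hper : (w : G) ^ i = (w : G) ^ (i % 3) := by
    nth_rewrite 1 [← Int.mul_ediv_add_emod i 3]
    rw [zpow_add, zpow_mul, show ((w : G) ^ (3 : ℤ)) = 1 by exact_mod_cast hw3, one_zpow, one_mul]
  have h3 : i % 3 = 0 ∨ i % 3 = 1 ∨ i % 3 = 2 := by omega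
  rcases h3 with h | h | h <;> rw [h] at hper
  · exact absurd (by rw [← hi, hper, zpow_zero]) hne
  · exact ⟨y, hy, by rw [hconj, hper, zpow_one]⟩
  · refine ⟨y * y, mul_mem hy hy, ?_⟩
    have hyw : Commute y ((w : G) ^ i) := ((hzc y hy).zpow_left i).symm
    calc y * y * x * (y * y)⁻¹ = y * (y * x * y⁻¹) * y⁻¹ := by group
      _ = (y * x * y⁻¹) * (w : G) ^ i := by
        rw [hconj]
        calc y * (x * (w : G) ^ i) * y⁻¹ = y * x * ((w : G) ^ i * y⁻¹) := by group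
          _ = y * x * (y⁻¹ * (w : G) ^ i) := by rw [(hyw.inv_left).eq]
          _ = _ := by rw [← mul_assoc, hconj]
      _ = x * (w : G) := by
        rw [hconj, hper, mul_assoc, ← zpow_add,
          show (2 : ℤ) + 2 = 3 + 1 from rfl, zpow_add, zpow_one,
          show ((w : G) ^ (3 : ℤ)) = 1 by exact_mod_cast hw3, one_mul]

variable {P : Sylow 3 G} {z : G}

namespace Core

theorem z3 (F : Core P z) : z ^ 3 = 1 := F.exp z F.zmem

theorem order_z (F : Core P z) : orderOf z = 3 :=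
  haveI : Fact (Nat.Prime 3) := ⟨Nat.prime_three⟩
  orderOf_eq_prime F.z3 F.zne

theorem mem_z (F : Core P z) {w : G} : w ∈ zpowers z ↔ w = 1 ∨ w = z ∨ w = z ^ 2 := by
  classical
  refine ⟨fun h => ?_, ?_⟩
  · obtain ⟨k, hk, rfl⟩ := Finset.mem_image.1
      ((isOfFinOrder_of_finite z).mem_zpowers_iff_mem_range_orderOf.1 h)
    rw [F.order_z, Finset.mem_range] at hk
    interval_cases k
    · simp
    · simp
    · simp
  · rintro (h | h | h) <;> rw [h]
    exacts [one_mem _, mem_zpowers z, npow_mem_zpowers z 2]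

theorem z_sq_ne (F : Core P z) : z ^ 2 ≠ z := fun h =>
  F.zne (mul_eq_left.1 (by rwa [pow_two] at h))

theorem z_sq_ne_one (F : Core P z) : z ^ 2 ≠ 1 := fun h => by
  have := orderOf_dvd_of_pow_eq_one h
  rw [F.order_z] at this
  norm_num at this

theorem inv_z (F : Core P z) : z⁻¹ = z ^ 2 := inv_eq_of_mul_eq_one_left (by rw [← pow_succ, F.z3])

theorem zpowers_le (F : Core P z) : zpowers z ≤ (P : Subgroup G) :=
  Subgroup.zpowers_le.2 F.zmem

theorem commute_zpowers (F : Core P z) {x : G} (hx : x ∈ (P : Subgroup G)) {w : G}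
    (hw : w ∈ zpowers z) : Commute w x := by
  obtain ⟨i, rfl⟩ := mem_zpowers_iff.1 hw
  exact (F.zc x hx).zpow_left i

/-- Powers of the pushing element. -/
theorem push_pow (F : Core P z) {x y : G} (hy : y ∈ (P : Subgroup G))
    (h : y * x * y⁻¹ = x * z) (k : ℕ) : y ^ k * x * (y ^ k)⁻¹ = x * z ^ k := by
  induction k with
  | zero => simp
  | succ k ih =>
    have hc : y * z ^ k = z ^ k * y := ((F.zc y hy).symm.pow_right k).eq
    calc y ^ (k + 1) * x * (y ^ (k + 1))⁻¹ = y * (y ^ k * x * (y ^ k)⁻¹) * y⁻¹ := by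
          rw [pow_succ']; group
      _ = y * x * (z ^ k * y⁻¹) := by rw [ih]; group
      _ = y * x * (y⁻¹ * z ^ k) := by
          rw [(((F.zc y hy).pow_left k).inv_right).eq]
      _ = x * z * z ^ k := by rw [← mul_assoc, h]
      _ = x * z ^ (k + 1) := by rw [pow_succ', mul_assoc]

theorem exists_push (F : Core P z) {x : G} (hx : x ∈ (P : Subgroup G)) (hx' : x ∉ zpowers z)
    (k : ℕ) : ∃ y ∈ (P : Subgroup G), y * x * y⁻¹ = x * z ^ k := by
  obtain ⟨y, hy, h⟩ := F.push x hx hx'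
  exact ⟨y ^ k, pow_mem hy k, F.push_pow hy h k⟩

theorem mem_z_of_central (F : Core P z) {x : G} (hx : x ∈ (P : Subgroup G))
    (h : ∀ y ∈ (P : Subgroup G), Commute y x) : x ∈ zpowers z := by
  by_contra h'
  obtain ⟨y, hy, e⟩ := F.push x hx h'
  rw [(h y hy).eq, mul_inv_cancel_right] at e
  exact F.zne (left_eq_mul.1 e)

/-- The elements fixing `z` and the coset of `y`. -/
def cosetFix (z y : G) : Subgroup G where
  carrier := {l | Commute l z ∧ y⁻¹ * (l * y * l⁻¹) ∈ zpowers z}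
  one_mem' := ⟨Commute.one_left z, by simp⟩
  mul_mem' := by
    rintro l m ⟨hl, hl'⟩ ⟨hm, hm'⟩
    refine ⟨hl.mul_left hm, ?_⟩
    obtain ⟨i, hi⟩ := mem_zpowers_iff.1 hm'
    have e : m * y * m⁻¹ = y * z ^ i := by rw [hi]; group
    have hli : l * z ^ i * l⁻¹ = z ^ i := by rw [(hl.zpow_right i).eq, mul_inv_cancel_right]
    have : y⁻¹ * (l * m * y * (l * m)⁻¹) = y⁻¹ * (l * y * l⁻¹) * z ^ i := by
      calc y⁻¹ * (l * m * y * (l * m)⁻¹) = y⁻¹ * (l * (m * y * m⁻¹) * l⁻¹) := by group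
        _ = y⁻¹ * (l * y * l⁻¹) * (l * z ^ i * l⁻¹) := by rw [e]; group
        _ = _ := by rw [hli]
    show y⁻¹ * (l * m * y * (l * m)⁻¹) ∈ zpowers z
    rw [this]
    exact mul_mem hl' (zpow_mem (mem_zpowers z) i)
  inv_mem' := by
    rintro l ⟨hl, hl'⟩
    refine ⟨hl.inv_left, ?_⟩
    obtain ⟨i, hi⟩ := mem_zpowers_iff.1 hl'
    have hli : l⁻¹ * z ^ i * l = z ^ i := by
      rw [((hl.zpow_right i).inv_left).eq, inv_mul_cancel_right]
    have e : l * y * l⁻¹ = y * z ^ i := by rw [hi]; group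
    have : y⁻¹ * (l⁻¹ * y * l) = (z ^ i)⁻¹ := by
      have e2 : y = l⁻¹ * y * l * (l⁻¹ * z ^ i * l) := by
        calc y = l⁻¹ * (l * y * l⁻¹) * l := by group
          _ = _ := by rw [e]; group
      rw [hli] at e2
      nth_rewrite 1 [e2]
      group
    show y⁻¹ * (l⁻¹ * y * (l⁻¹)⁻¹) ∈ zpowers z
    rw [inv_inv, this]
    exact inv_mem (zpow_mem (mem_zpowers z) i)

theorem mem_cosetFix {y l : G} : l ∈ cosetFix z y ↔
    Commute l z ∧ y⁻¹ * (l * y * l⁻¹) ∈ zpowers z := Iff.rfl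

theorem le_cosetFix (F : Core P z) {y : G} (hy : y ∈ (P : Subgroup G)) :
    (P : Subgroup G) ≤ cosetFix z y := fun l hl =>
  ⟨(F.zc l hl).symm, by
    have h := F.comm y hy l hl
    have e : y⁻¹ * (l * y * l⁻¹) = y⁻¹ * (l * y * l⁻¹ * y⁻¹) * y := by group
    rw [e, ← ((F.commute_zpowers (inv_mem hy) h)).eq, inv_mul_cancel_right]
    exact h⟩

theorem no_invert (F : Core P z) {g : G} (hg : g * z * g⁻¹ = z⁻¹) (L : Subgroup G)
    (hPL : (P : Subgroup G) ≤ L) (hL : ∀ l ∈ L, Commute l z)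
    (hgP : ∀ x ∈ (P : Subgroup G), g * x * g⁻¹ ∈ L) : False := by
  haveI : Fact (Nat.Prime 3) := ⟨Nat.prime_three⟩
  obtain ⟨c, hc, hn⟩ := CfsgLib.Transfer.exists_mul_mem_normalizer P L g⁻¹ hPL
    (fun x hx => by rw [inv_inv]; exact hgP x hx)
  have h1 := (F.norm _ hn).eq
  have hcz := (hL c hc).eq
  have h2 : g⁻¹ * z = z * g⁻¹ := by
    calc g⁻¹ * z = g⁻¹ * (z * c) * c⁻¹ := by group
      _ = g⁻¹ * c * z * c⁻¹ := by rw [← hcz]; group
      _ = z * (g⁻¹ * c) * c⁻¹ := by rw [h1]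
      _ = z * g⁻¹ := by group
  have h3 : z⁻¹ = z := by
    rw [← hg, mul_inv_eq_iff_eq_mul]
    calc g * z = g * (z * g⁻¹) * g := by group
      _ = g * (g⁻¹ * z) * g := by rw [h2]
      _ = z * g := by group
  exact F.z_sq_ne (by rw [← F.inv_z, h3])

/-- `z` is not fused to another element of `P`. -/
theorem zfusion (F : Core P z) {g : G} (hg : g * z * g⁻¹ ∈ (P : Subgroup G)) :
    g * z * g⁻¹ = z := by
  haveI : Fact (Nat.Prime 3) := ⟨Nat.prime_three⟩
  set y := g * z * g⁻¹ with hy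
  by_cases hyZ : y ∈ zpowers z
  · rcases F.mem_z.1 hyZ with h | h | h
    · exact absurd (conj_eq_one_iff.1 h) F.zne
    · exact h
    · exfalso
      rw [← F.inv_z] at h
      refine F.no_invert h (centralizer ({z} : Set G))
        (fun l hl => mem_centralizer_singleton_iff.2 (F.zc l hl).symm)
        (fun l hl => mem_centralizer_singleton_iff.1 hl) fun x hx => ?_
      rw [mem_centralizer_singleton_iff]
      have h' : g * z⁻¹ * g⁻¹ = z := by
        calc g * z⁻¹ * g⁻¹ = (g * z * g⁻¹)⁻¹ := by group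
          _ = z := by rw [← hy, h, inv_inv]
      calc g * x * g⁻¹ * z = g * x * g⁻¹ * (g * z⁻¹ * g⁻¹) := by rw [h']
        _ = g * (x * z⁻¹) * g⁻¹ := by group
        _ = g * (z⁻¹ * x) * g⁻¹ := by rw [((F.zc x hx).inv_left).eq]
        _ = g * z⁻¹ * g⁻¹ * (g * x * g⁻¹) := by group
        _ = z * (g * x * g⁻¹) := by rw [h']
  exfalso
  have hy3 : y ^ 3 = 1 := F.exp y hg
  have hyz : Commute z y := F.zc y hg
  -- move `g⁻¹ * z * g` into `P`
  set C := centralizer ({z} : Set G)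
  have hPC : (P : Subgroup G) ≤ C := fun l hl => mem_centralizer_singleton_iff.2 (F.zc l hl).symm
  set z' : G := g⁻¹ * z * g with hz'
  have hz'C : z' ∈ C := by
    rw [mem_centralizer_singleton_iff]
    calc z' * z = g⁻¹ * (z * y) * g := by rw [hz', hy]; group
      _ = g⁻¹ * (y * z) * g := by rw [hyz.eq]
      _ = z * z' := by rw [hz', hy]; group
  have hord : orderOf z' = 3 := by
    rw [hz', show g⁻¹ * z * g = MulAut.conj g⁻¹ z by simp, MulEquiv.orderOf_eq, F.order_z]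
  have hpg : IsPGroup 3 (zpowers (⟨z', hz'C⟩ : C)) :=
    IsPGroup.of_card (n := 1) (by rw [Nat.card_zpowers, ← Subgroup.orderOf_coe]; exact hord)
  obtain ⟨R, hR⟩ := hpg.exists_le_sylow
  obtain ⟨c, hc⟩ := MulAction.exists_smul_eq C R (P.subtype hPC)
  have hw : (c : G) * z' * (c : G)⁻¹ ∈ (P : Subgroup G) := by
    have h1 : c * ⟨z', hz'C⟩ * c⁻¹ ∈ ((c • R : Sylow 3 C) : Subgroup C) := by
      rw [Sylow.coe_subgroup_smul]
      exact Subgroup.smul_mem_pointwise_smul _ (MulAut.conj c) _ (hR (mem_zpowers _))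
    rw [hc] at h1
    exact h1
  set h := g * (c : G)⁻¹ with hh
  have hhz : h * z * h⁻¹ = y := by
    have : (c : G)⁻¹ * z * (c : G) = z := by
      rw [mul_assoc, ← mem_centralizer_singleton_iff.1 c.2, inv_mul_cancel_left]
    calc h * z * h⁻¹ = g * ((c : G)⁻¹ * z * (c : G)) * g⁻¹ := by rw [hh]; group
      _ = y := by rw [this]
  set w := h⁻¹ * z * h with hwdef
  have hwP : w ∈ (P : Subgroup G) := by
    have : w = (c : G) * z' * (c : G)⁻¹ := by rw [hwdef, hh, hz']; group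
    rw [this]; exact hw
  have hwZ : w ∉ zpowers z := by
    intro hwZ
    obtain ⟨i, hi⟩ := mem_zpowers_iff.1 hwZ
    have : z ∈ zpowers y := by
      refine mem_zpowers_iff.2 ⟨i, ?_⟩
      rw [← hhz, conj_zpow, hi, hwdef]
      group
    classical
    obtain ⟨k, hk, hk'⟩ := Finset.mem_image.1
      ((isOfFinOrder_of_finite y).mem_zpowers_iff_mem_range_orderOf.1 this)
    have : orderOf y = 3 := by
      rw [hy, show g * z * g⁻¹ = MulAut.conj g z by simp, MulEquiv.orderOf_eq, F.order_z]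
    rw [this, Finset.mem_range] at hk
    interval_cases k
    · exact F.zne (by rw [← hk', pow_zero])
    · exact hyZ (by rw [← pow_one y, hk']; exact mem_zpowers z)
    · refine hyZ ?_
      have : y = z ^ 2 := by rw [← hk', ← pow_mul, pow_succ, hy3, one_mul]
      rw [this]; exact npow_mem_zpowers z 2
  obtain ⟨p₀, hp₀, hp₀w⟩ := F.exists_push hwP hwZ 2
  obtain ⟨p, hp, hpy⟩ := F.push y hg hyZ
  set q := h * p₀ * h⁻¹ with hq
  have hqy : q * y * q⁻¹ = y := by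
    calc q * y * q⁻¹ = h * (p₀ * z * p₀⁻¹) * h⁻¹ := by rw [hq, ← hhz]; group
      _ = y := by rw [← (F.zc p₀ hp₀).eq, mul_inv_cancel_right, hhz]
  have hqz : q * z * q⁻¹ = z * y⁻¹ := by
    calc q * z * q⁻¹ = h * (p₀ * w * p₀⁻¹) * h⁻¹ := by rw [hq, hwdef]; group
      _ = h * w * h⁻¹ * (h * z⁻¹ * h⁻¹) := by rw [hp₀w, ← F.inv_z]; group
      _ = z * y⁻¹ := by
        rw [show h * w * h⁻¹ = z by rw [hwdef]; group, ← hhz]; group
  have hpz : p * z * p⁻¹ = z := by rw [← (F.zc p hp).eq, mul_inv_cancel_right]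
  set W := p * q * p with hW
  have hWy : W * y * W⁻¹ = z := by
    calc W * y * W⁻¹ = p * (q * (p * y * p⁻¹) * q⁻¹) * p⁻¹ := by rw [hW]; group
      _ = p * (q * y * q⁻¹ * (q * z * q⁻¹)) * p⁻¹ := by rw [hpy]; group
      _ = p * z * p⁻¹ := by
        rw [hqy, hqz, ← mul_assoc y z, ← hyz.eq, mul_inv_cancel_right]
      _ = z := hpz
  have hWz : W * z * W⁻¹ = y⁻¹ := by
    calc W * z * W⁻¹ = p * (q * (p * z * p⁻¹) * q⁻¹) * p⁻¹ := by rw [hW]; group
      _ = p * (z * y⁻¹) * p⁻¹ := by rw [hpz, hqz]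
      _ = p * z * p⁻¹ * (p * y * p⁻¹)⁻¹ := by group
      _ = z * (y * z)⁻¹ := by rw [hpz, hpy]
      _ = y⁻¹ := by rw [mul_inv_rev, mul_inv_cancel_left]
  set g2 := W * W with hg2
  have h2y : g2 * y * g2⁻¹ = y⁻¹ := by
    calc g2 * y * g2⁻¹ = W * (W * y * W⁻¹) * W⁻¹ := by rw [hg2]; group
      _ = y⁻¹ := by rw [hWy, hWz]
  have h2z : g2 * z * g2⁻¹ = z⁻¹ := by
    calc g2 * z * g2⁻¹ = W * (W * z * W⁻¹) * W⁻¹ := by rw [hg2]; group
      _ = (W * y * W⁻¹)⁻¹ := by rw [hWz]; group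
      _ = z⁻¹ := by rw [hWy]
  refine F.no_invert h2z (cosetFix z y) (F.le_cosetFix hg) (fun l hl => hl.1) fun x hx => ?_
  obtain ⟨hxz, hxy⟩ := F.le_cosetFix hg hx
  obtain ⟨i, hi⟩ := mem_zpowers_iff.1 hxy
  have ez : g2 * z⁻¹ * g2⁻¹ = z := by
    calc g2 * z⁻¹ * g2⁻¹ = (g2 * z * g2⁻¹)⁻¹ := by group
      _ = z := by rw [h2z, inv_inv]
  have ey : g2 * y⁻¹ * g2⁻¹ = y := by
    calc g2 * y⁻¹ * g2⁻¹ = (g2 * y * g2⁻¹)⁻¹ := by group
      _ = y := by rw [h2y, inv_inv]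
  have exy : x * y * x⁻¹ = y * z ^ i := by rw [hi]; group
  refine ⟨?_, ?_⟩
  · show g2 * x * g2⁻¹ * z = z * (g2 * x * g2⁻¹)
    calc g2 * x * g2⁻¹ * z = g2 * x * g2⁻¹ * (g2 * z⁻¹ * g2⁻¹) := by rw [ez]
      _ = g2 * (x * z⁻¹) * g2⁻¹ := by group
      _ = g2 * (z⁻¹ * x) * g2⁻¹ := by rw [(hxz.inv_right).eq]
      _ = g2 * z⁻¹ * g2⁻¹ * (g2 * x * g2⁻¹) := by group
      _ = _ := by rw [ez]
  · have e1 : g2 * x * g2⁻¹ * y * (g2 * x * g2⁻¹)⁻¹ = y * z ^ i := by
      calc g2 * x * g2⁻¹ * y * (g2 * x * g2⁻¹)⁻¹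
          = g2 * x * (g2⁻¹ * y * g2) * x⁻¹ * g2⁻¹ := by group
        _ = g2 * x * y⁻¹ * x⁻¹ * g2⁻¹ := by
            rw [show g2⁻¹ * y * g2 = y⁻¹ by nth_rewrite 1 [← ey]; group]
        _ = g2 * (x * y * x⁻¹)⁻¹ * g2⁻¹ := by group
        _ = g2 * (y * z ^ i)⁻¹ * g2⁻¹ := by rw [exy]
        _ = g2 * (y⁻¹ * (z⁻¹) ^ i) * g2⁻¹ := by
            rw [mul_inv_rev, ← ((hyz.zpow_left i).inv_inv).eq.symm, inv_zpow]
        _ = g2 * y⁻¹ * g2⁻¹ * (g2 * z⁻¹ * g2⁻¹) ^ i := by rw [conj_zpow]; group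
        _ = y * z ^ i := by rw [ey, ez]
    rw [e1, inv_mul_cancel_left]
    exact zpow_mem (mem_zpowers z) i

end Core

end CfsgLib.ExtraTwentySeven
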