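import Cfsg.Agent.Lib.ExtraTwentySeven.Local

/-!
# Representatives of the classes of 3-elements
-/

set_option autoImplicit false
set_option linter.unusedSectionVars false
set_option linter.style.haveILetI false

noncomputable section

namespace CfsgLib.ExtraTwentySeven

open Subgroup CfsgLib.Blocks
open scoped Classical

universe u

variable {G : Type u} [Group G] [Finite G] {P : Sylow 3 G} {z : G}

/-- Representatives `X` of the noncentral classes. -/
structure Frame (P : Sylow 3 G) (z : G) (X : Finset G) : Prop where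
  core : Core P z
  xmem : ∀ x ∈ X, x ∈ (P : Subgroup G) ∧ x ∉ zpowers z
  xex : ∀ x ∈ (P : Subgroup G), x ∉ zpowers z → ∃ r ∈ X, IsConj x r
  xinj : ∀ r ∈ X, ∀ s ∈ X, IsConj r s → r = s

theorem exists_frame (F : Core P z) : ∃ X : Finset G, Frame P z X ∧
    3 * ((P : Subgroup G) ⊔ centralizer ((P : Subgroup G) : Set G)).relIndex
      (normalizer ((P : Subgroup G) : Set G)) * X.card = 24 := by
  classical
  haveI := Fintype.ofFinite G
  set S : Finset G := Finset.univ.filter (fun x => x ∈ (P : Subgroup G) ∧ x ∉ zpowers z) with hS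
  have hmem : ∀ x, x ∈ S ↔ x ∈ (P : Subgroup G) ∧ x ∉ zpowers z := fun x => by simp [hS]
  have hZ : ∀ x y : G, y ∈ (P : Subgroup G) → IsConj x y → x ∈ (P : Subgroup G) → x ∉ zpowers z →
      y ∉ zpowers z := by
    intro x y hy hxy hxP hx h
    obtain ⟨g, rfl⟩ := isConj_iff.1 hxy.symm
    obtain ⟨i, rfl⟩ := mem_zpowers_iff.1 h
    refine hx ?_
    rcases F.mem_z.1 (zpow_mem (mem_zpowers z) i) with e | e | e
    · rw [e]; simp
    · rw [e] at hxP ⊢
      rw [F.zfusion hxP]
      exact mem_zpowers z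
    · rw [e, ← F.inv_z] at hxP ⊢
      have h' : g * z * g⁻¹ ∈ (P : Subgroup G) := by
        have := inv_mem hxP
        rwa [show (g * z⁻¹ * g⁻¹)⁻¹ = g * z * g⁻¹ by group] at this
      rw [show g * z⁻¹ * g⁻¹ = (g * z * g⁻¹)⁻¹ by group, F.zfusion h']
      exact inv_mem (mem_zpowers z)
  let r : G → G := fun x => Classical.epsilon fun y => y ∈ S ∧ IsConj x y
  have hr : ∀ x ∈ S, r x ∈ S ∧ IsConj x (r x) := fun x hx =>
    Classical.epsilon_spec (p := fun y => y ∈ S ∧ IsConj x y) ⟨x, hx, IsConj.refl x⟩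
  have hrc : ∀ x y : G, IsConj x y → r x = r y := fun x y h => by
    show Classical.epsilon _ = Classical.epsilon _
    congr 1
    funext w
    exact propext ⟨fun ⟨hw, hxw⟩ => ⟨hw, h.symm.trans hxw⟩, fun ⟨hw, hyw⟩ => ⟨hw, h.trans hyw⟩⟩
  set X := S.image r with hX
  have hXS : ∀ s ∈ X, s ∈ S := by
    intro s hs
    obtain ⟨x, hx, rfl⟩ := Finset.mem_image.1 hs
    exact (hr x hx).1
  have hfix : ∀ s ∈ X, r s = s := by
    intro s hs
    obtain ⟨x, hx, rfl⟩ := Finset.mem_image.1 hs
    exact (hrc x (r x) (hr x hx).2).symm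
  refine ⟨X, ⟨F, fun s hs => (hmem s).1 (hXS s hs), fun x hx hx' => ⟨r x,
    Finset.mem_image_of_mem r ((hmem x).2 ⟨hx, hx'⟩), (hr x ((hmem x).2 ⟨hx, hx'⟩)).2⟩,
    fun a ha b hb hab => by rw [← hfix a ha, ← hfix b hb, hrc a b hab]⟩, ?_⟩
  have hfib : ∀ s ∈ X, (S.filter fun x => r x = s).card =
      3 * ((P : Subgroup G) ⊔ centralizer ((P : Subgroup G) : Set G)).relIndex
        (normalizer ((P : Subgroup G) : Set G)) := by
    intro s hs
    obtain ⟨hsP, hsZ⟩ := (hmem s).1 (hXS s hs)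
    rw [← F.ncard_class hsP hsZ, ← Set.ncard_coe_finset]
    congr 1
    ext y
    simp only [Finset.coe_filter, hmem, Set.mem_ofPred_eq]
    constructor
    · rintro ⟨⟨hy, hyZ⟩, e⟩
      exact ⟨hy, (e ▸ (hr y ((hmem y).2 ⟨hy, hyZ⟩)).2).symm⟩
    · rintro ⟨hy, hsy⟩
      exact ⟨⟨hy, hZ s y hy hsy hsP hsZ⟩, by rw [← hrc s y hsy, hfix s hs]⟩
  have h24 : S.card = 24 := by
    have hsplit := Finset.card_sdiff_add_card_inter
      (Finset.univ.filter (fun x => x ∈ (P : Subgroup G)))
      (Finset.univ.filter (fun x => x ∈ zpowers z))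
    have h1 : (Finset.univ.filter (fun x => x ∈ (P : Subgroup G))).card = 27 := by
      rw [← F.card, Nat.card_eq_fintype_card, Fintype.card_subtype]
    have h2 : (Finset.univ.filter (fun x => x ∈ (P : Subgroup G)) ∩
        Finset.univ.filter (fun x => x ∈ zpowers z)).card = 3 := by
      rw [Finset.inter_eq_right.2 fun x hx => Finset.mem_filter.2
        ⟨Finset.mem_univ x, F.zpowers_le (Finset.mem_filter.1 hx).2⟩, ← Fintype.card_subtype,
        ← Nat.card_eq_fintype_card]
      exact (Nat.card_zpowers z).trans F.order_z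
    have h3 : S = Finset.univ.filter (fun x => x ∈ (P : Subgroup G)) \
        Finset.univ.filter (fun x => x ∈ zpowers z) := by
      ext x; simp [hmem]
    rw [h3]
    omega
  have h := Finset.card_eq_sum_card_fiberwise (f := r) (t := X) (s := S)
    fun x hx => Finset.mem_image_of_mem r hx
  rw [Finset.sum_congr rfl hfib, Finset.sum_const, smul_eq_mul, h24] at h
  linarith

namespace Frame

variable {X : Finset G}

theorem le_centralizer_z (F : Core P z) : (P : Subgroup G) ≤ centralizer ({z} : Set G) :=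
  fun _ hp => mem_centralizer_singleton_iff.2 (F.zc _ hp).symm.eq

/-- The frame of the centraliser of `z`. -/
theorem centralizer (F : Frame P z X) :
    Frame (P.subtype (le_centralizer_z F.core))
      (⟨z, le_centralizer_z F.core F.core.zmem⟩ : ↥(Subgroup.centralizer ({z} : Set G)))
      (X.subtype fun x => x ∈ Subgroup.centralizer ({z} : Set G)) := by
  classical
  set hPC := le_centralizer_z F.core
  set C := Subgroup.centralizer ({z} : Set G)
  have hmem : ∀ a : C, a ∈ ((P.subtype hPC : Sylow 3 C) : Subgroup C) ↔ (a : G) ∈ (P : Subgroup G) :=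
    fun a => by rw [Sylow.coe_subtype]; exact mem_subgroupOf
  have hz : ∀ a : C, a ∈ zpowers (⟨z, hPC F.core.zmem⟩ : C) ↔ (a : G) ∈ zpowers z := by
    intro a
    rw [mem_zpowers_iff, mem_zpowers_iff]
    refine exists_congr fun i => ?_
    rw [Subtype.ext_iff, Subgroup.coe_zpow]
  refine ⟨⟨?_, ?_, (hmem _).2 F.core.zmem, fun h => F.core.zne (congrArg Subtype.val h), ?_, ?_, ?_,
    ?_⟩, ?_, ?_, ?_⟩
  · exact (Nat.card_congr (subgroupOfEquivOfLe hPC).toEquiv).trans F.core.card
  · exact fun x hx => Subtype.ext (F.core.exp _ ((hmem x).1 hx))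
  · exact fun x hx => Subtype.ext (F.core.zc _ ((hmem x).1 hx)).eq
  · exact fun x hx y hy => (hz _).2 (F.core.comm _ ((hmem x).1 hx) _ ((hmem y).1 hy))
  · intro x hx hx'
    obtain ⟨y, hy, e⟩ := F.core.push _ ((hmem x).1 hx) fun h => hx' ((hz x).2 h)
    exact ⟨⟨y, hPC hy⟩, (hmem _).2 hy, Subtype.ext e⟩
  · exact fun g _ => Subtype.ext (mem_centralizer_singleton_iff.1 g.2)
  · intro x hx
    obtain ⟨h1, h2⟩ := F.xmem _ (Finset.mem_subtype.1 hx)
    exact ⟨(hmem x).2 h1, fun h => h2 ((hz x).1 h)⟩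
  · intro x hx hx'
    have hxP := (hmem x).1 hx
    obtain ⟨r, hr, hxr⟩ := F.xex _ hxP fun h => hx' ((hz x).2 h)
    have hrP := (F.xmem r hr).1
    obtain ⟨g, hg⟩ := isConj_iff.1 hxr
    obtain ⟨n, hn, he⟩ := F.core.exists_normalizer_conj (x := (x : G)) (g := g) hxP
      (fun h => hx' ((hz x).2 h)) (by rw [hg]; exact hrP)
    have hnC : n ∈ C := mem_centralizer_singleton_iff.2 (F.core.norm n hn).eq
    exact ⟨⟨r, hPC hrP⟩, Finset.mem_subtype.2 hr,
      isConj_iff.2 ⟨⟨n, hnC⟩, Subtype.ext (he.trans hg)⟩⟩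
  · intro r hr s hs hrs
    exact Subtype.ext (F.xinj _ (Finset.mem_subtype.1 hr) _ (Finset.mem_subtype.1 hs)
      (MonoidHom.map_isConj C.subtype hrs))

theorem card_centralizer (F : Frame P z X) :
    (X.subtype fun x => x ∈ Subgroup.centralizer ({z} : Set G)).card = X.card := by
  classical
  rw [Finset.card_subtype, Finset.filter_true_of_mem]
  exact fun x hx => le_centralizer_z F.core (F.xmem x hx).1

theorem real_centralizer (F : Frame P z X)
    (hreal : ∀ x ∈ (P : Subgroup G), x ∉ zpowers z → IsConj x x⁻¹)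
    {x : ↥(Subgroup.centralizer ({z} : Set G))} (hx : x ∈ X.subtype (fun x => x ∈ Subgroup.centralizer ({z} : Set G))) :
    IsConj x x⁻¹ := by
  classical
  obtain ⟨h1, h2⟩ := F.xmem _ (Finset.mem_subtype.1 hx)
  obtain ⟨g, hg⟩ := isConj_iff.1 (hreal _ h1 h2)
  obtain ⟨n, hn, he⟩ := F.core.exists_normalizer_conj (g := g) h1 h2 (by rw [hg]; exact inv_mem h1)
  exact isConj_iff.2 ⟨⟨n, mem_centralizer_singleton_iff.2 (F.core.norm n hn).eq⟩,
    Subtype.ext (he.trans hg)⟩

end Frame

end CfsgLib.ExtraTwentySeven
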