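import Cfsg.Agent.Lib.ExtraTwentySeven.Core
import Mathlib.GroupTheory.Transfer

/-!
# The noncentral elements: centralisers, classes, the case of trivial inertia
-/

set_option autoImplicit false
set_option linter.unusedSectionVars false
set_option linter.style.haveILetI false

noncomputable section

namespace CfsgLib.ExtraTwentySeven

open Subgroup CfsgLib.Blocks

universe u

variable {G : Type u} [Group G] [Finite G] {P : Sylow 3 G} {z : G}

local notation "N" => normalizer ((P : Subgroup G) : Set G)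
local notation "PC" => ((P : Subgroup G) ⊔ centralizer ((P : Subgroup G) : Set G))

namespace Core

theorem conj_pow_eq {v y a : G} (h : v * y * v⁻¹ = y * a) (ha : Commute v a) (k : ℕ) :
    v ^ k * y * (v ^ k)⁻¹ = y * a ^ k := by
  induction k with
  | zero => simp
  | succ k ih =>
    calc v ^ (k + 1) * y * (v ^ (k + 1))⁻¹ = v * (v ^ k * y * (v ^ k)⁻¹) * v⁻¹ := by
          rw [pow_succ']; group
      _ = v * y * v⁻¹ * (v * a ^ k * v⁻¹) := by rw [ih]; group
      _ = y * a * a ^ k := by rw [h, (ha.pow_right k).eq, mul_inv_cancel_right]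
      _ = y * a ^ (k + 1) := by rw [pow_succ', mul_assoc]

/-- A centraliser in `P` of a noncentral element has order nine. -/
theorem card_inf (F : Core P z) {x : G} (hx : x ∈ (P : Subgroup G)) (hx' : x ∉ zpowers z) :
    Nat.card ↥((P : Subgroup G) ⊓ centralizer ({x} : Set G)) = 9 := by
  classical
  let f : ↥(P : Subgroup G) →* ↥(zpowers z) :=
    { toFun := fun y => ⟨(y : G) * x * (y : G)⁻¹ * x⁻¹, F.comm x hx y y.2⟩
      map_one' := Subtype.ext (by simp)
      map_mul' := fun a b => Subtype.ext (by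
        have hc : Commute (a : G) ((b : G) * x * (b : G)⁻¹ * x⁻¹) :=
          (F.commute_zpowers a.2 (F.comm x hx b b.2)).symm
        have h2 : Commute ((b : G) * x * (b : G)⁻¹ * x⁻¹) ((a : G) * x * (a : G)⁻¹ * x⁻¹) :=
          F.commute_zpowers (mul_mem (mul_mem (mul_mem a.2 hx) (inv_mem a.2)) (inv_mem hx))
            (F.comm x hx b b.2)
        show (a : G) * b * x * ((a : G) * b)⁻¹ * x⁻¹ =
          (a : G) * x * (a : G)⁻¹ * x⁻¹ * ((b : G) * x * (b : G)⁻¹ * x⁻¹)
        rw [← h2.eq]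
        calc (a : G) * b * x * ((a : G) * b)⁻¹ * x⁻¹
            = (a : G) * ((b : G) * x * (b : G)⁻¹ * x⁻¹) * (a : G)⁻¹ *
              ((a : G) * x * (a : G)⁻¹ * x⁻¹) := by group
          _ = _ := by rw [hc.eq, mul_inv_cancel_right]) }
  have hsurj : Function.Surjective f := by
    rintro ⟨w, hw⟩
    obtain ⟨k, rfl⟩ := (mem_powers_iff_mem_zpowers (x := z)).2 hw
    obtain ⟨y, hy, he⟩ := F.exists_push hx hx' k
    refine ⟨⟨y, hy⟩, Subtype.ext ?_⟩
    show y * x * y⁻¹ * x⁻¹ = z ^ k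
    rw [he, ← ((F.zc x hx).pow_left k).eq, mul_inv_cancel_right]
  have hker : f.ker = (centralizer ({x} : Set G)).subgroupOf (P : Subgroup G) := by
    ext y
    rw [MonoidHom.mem_ker, mem_subgroupOf, mem_centralizer_singleton_iff, Subtype.ext_iff]
    show (y : G) * x * (y : G)⁻¹ * x⁻¹ = 1 ↔ _
    rw [mul_inv_eq_one, mul_inv_eq_iff_eq_mul]
  have h1 : Nat.card f.ker * f.ker.index = Nat.card ↥(P : Subgroup G) := f.ker.card_mul_index
  rw [index_ker, MonoidHom.range_eq_top.2 hsurj, card_top, Nat.card_zpowers, F.order_z, F.card,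
    hker] at h1
  have e : Nat.card ↥((P : Subgroup G) ⊓ centralizer ({x} : Set G)) =
      Nat.card ↥((centralizer ({x} : Set G)).subgroupOf (P : Subgroup G)) := by
    rw [← inf_subgroupOf_left, Nat.card_congr (subgroupOfEquivOfLe inf_le_left).toEquiv]
  omega

theorem pow_mem_inf (F : Core P z) {x : G} (hx : x ∈ (P : Subgroup G)) (i j : ℕ) :
    x ^ i * z ^ j ∈ (P : Subgroup G) ⊓ centralizer ({x} : Set G) :=
  ⟨mul_mem (pow_mem hx i) (pow_mem F.zmem j), mem_centralizer_singleton_iff.2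
    (((Commute.refl x).pow_left i).mul_left ((F.zc x hx).pow_left j)).eq⟩

/-- The centraliser in `P` of a noncentral `x` is generated by `x` and `z`. -/
theorem mem_inf_eq (F : Core P z) {x a : G} (hx : x ∈ (P : Subgroup G)) (hx' : x ∉ zpowers z)
    (ha : a ∈ (P : Subgroup G) ⊓ centralizer ({x} : Set G)) :
    ∃ i j : ℕ, a = x ^ i * z ^ j := by
  classical
  set A := (P : Subgroup G) ⊓ centralizer ({x} : Set G)
  let g : Fin 3 × Fin 3 → A := fun p => ⟨x ^ (p.1 : ℕ) * z ^ (p.2 : ℕ), F.pow_mem_inf hx _ _⟩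
  haveI : Fact (Nat.Prime 3) := ⟨Nat.prime_three⟩
  have hx1 : x ≠ 1 := fun e => hx' (e ▸ one_mem _)
  have hxo : orderOf x = 3 := orderOf_eq_prime (F.exp x hx) hx1
  have hx2 : ∀ d : ℕ, 0 < d → d < 3 → x ^ d ∉ zpowers z := by
    intro d h0 h3 h
    refine hx' ?_
    have : x = (x ^ d) ^ d := by
      rw [← pow_mul, ← pow_mod_orderOf x (d * d), hxo]
      interval_cases d <;> simp
    rw [this]
    exact pow_mem h d
  have hinj : Function.Injective g := by
    rintro ⟨i, j⟩ ⟨i', j'⟩ h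
    have h' : x ^ (i : ℕ) * z ^ (j : ℕ) = x ^ (i' : ℕ) * z ^ (j' : ℕ) := congrArg Subtype.val h
    have hi : i = i' := by
      by_contra hne
      have hne' : (i : ℕ) ≠ (i' : ℕ) := fun e => hne (Fin.ext e)
      rcases Nat.lt_or_gt_of_ne hne' with hlt | hlt
      · refine hx2 ((i' : ℕ) - i) (by omega) (by omega) ?_
        have : x ^ ((i' : ℕ) - i) = z ^ (j : ℕ) * (z ^ (j' : ℕ))⁻¹ := by
          rw [eq_mul_inv_iff_mul_eq]
          refine mul_left_cancel (a := x ^ (i : ℕ)) ?_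
          rw [← mul_assoc, ← pow_add, show (i : ℕ) + ((i' : ℕ) - i) = i' by omega, h']
        rw [this]
        exact mul_mem (npow_mem_zpowers z _) (inv_mem (npow_mem_zpowers z _))
      · refine hx2 ((i : ℕ) - i') (by omega) (by omega) ?_
        have : x ^ ((i : ℕ) - i') = z ^ (j' : ℕ) * (z ^ (j : ℕ))⁻¹ := by
          rw [eq_mul_inv_iff_mul_eq]
          refine mul_left_cancel (a := x ^ (i' : ℕ)) ?_
          rw [← mul_assoc, ← pow_add, show (i' : ℕ) + ((i : ℕ) - i') = i by omega, h']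
        rw [this]
        exact mul_mem (npow_mem_zpowers z _) (inv_mem (npow_mem_zpowers z _))
    subst hi
    have hz := mul_left_cancel h'
    have hlt : ∀ k : Fin 3, (k : ℕ) ∈ Set.Iio (orderOf z) := fun k => by
      rw [F.order_z]; exact k.2
    exact Prod.ext rfl (Fin.ext (pow_injOn_Iio_orderOf (hlt j) (hlt j') hz))
  have hbij : Function.Bijective g := by
    rw [Nat.bijective_iff_injective_and_card]
    exact ⟨hinj, by rw [Nat.card_prod, Nat.card_fin, F.card_inf hx hx']⟩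
  obtain ⟨p, hp⟩ := hbij.2 ⟨a, ha⟩
  exact ⟨p.1, p.2, (congrArg Subtype.val hp).symm⟩

theorem inf_commute (F : Core P z) {x a b : G} (hx : x ∈ (P : Subgroup G)) (hx' : x ∉ zpowers z)
    (ha : a ∈ (P : Subgroup G) ⊓ centralizer ({x} : Set G))
    (hb : b ∈ (P : Subgroup G) ⊓ centralizer ({x} : Set G)) : Commute a b := by
  obtain ⟨i, j, rfl⟩ := F.mem_inf_eq hx hx' ha
  exact ((show Commute x b from (mem_centralizer_singleton_iff.1 hb.2).symm).pow_left i).mul_left
    ((F.zc b hb.1).pow_left j)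

/-- The Sylow subgroup of the centraliser of a noncentral element. -/
theorem exists_sylow_centralizer (F : Core P z) {x : G} (hx : x ∈ (P : Subgroup G))
    (hx' : x ∉ zpowers z) : ∃ T : Sylow 3 ↥(centralizer ({x} : Set G)),
      (T : Subgroup ↥(centralizer ({x} : Set G))) =
          ((P : Subgroup G) ⊓ centralizer ({x} : Set G)).subgroupOf (centralizer ({x} : Set G)) ∧
        Nat.card (T : Subgroup ↥(centralizer ({x} : Set G))) = 9 := by
  haveI : Fact (Nat.Prime 3) := ⟨Nat.prime_three⟩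
  set C := centralizer ({x} : Set G) with hC
  set E := ((P : Subgroup G) ⊓ C).subgroupOf C with hE
  have hEcard : Nat.card E = 9 := by
    rw [hE, Nat.card_congr (subgroupOfEquivOfLe inf_le_right).toEquiv, F.card_inf hx hx']
  obtain ⟨T, hT⟩ := (IsPGroup.of_card (p := 3) (n := 2) (G := E) (by rw [hEcard]; norm_num)).exists_le_sylow
  refine ⟨T, ?_, ?_⟩
  all_goals
    have hle : Nat.card (T : Subgroup C) ≤ 9 := by
      by_contra hlt
      push Not at hlt
      have hTp : IsPGroup 3 ((T : Subgroup C).map C.subtype) := T.2.map C.subtype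
      obtain ⟨S, hS⟩ := hTp.exists_le_sylow
      obtain ⟨a, ha⟩ := MulAction.exists_smul_eq G S P
      have hmap : Nat.card ((T : Subgroup C).map C.subtype) = Nat.card (T : Subgroup C) :=
        Nat.card_congr (equivMapOfInjective _ _ Subtype.val_injective).symm.toEquiv
      have hSc : Nat.card (S : Subgroup G) = 27 := by
        rw [← F.card]
        exact Nat.card_congr ((S.equiv P).toEquiv)
      have hdvd : Nat.card ((T : Subgroup C).map C.subtype) ∣ 3 ^ 3 := by
        have := card_dvd_of_le hS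
        rw [hSc] at this
        exact this
      obtain ⟨m, hm, hm'⟩ := (Nat.dvd_prime_pow Nat.prime_three).1 hdvd
      rw [hmap] at hm'
      have hm3 : m = 3 := by
        by_contra hne
        have : (3 : ℕ) ^ m ≤ 3 ^ 2 := Nat.pow_le_pow_right (by norm_num) (by omega)
        rw [← hm'] at this
        omega
      have heq : (T : Subgroup C).map C.subtype = (S : Subgroup G) :=
        eq_of_le_of_card_ge hS (by rw [hmap, hSc, hm', hm3]; norm_num)
      have hxS : x ∈ (S : Subgroup G) := by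
        rw [← heq]
        exact ⟨⟨x, mem_centralizer_singleton_iff.2 rfl⟩, hT (mem_subgroupOf.2
          ⟨hx, mem_centralizer_singleton_iff.2 rfl⟩), rfl⟩
      have hSx : ∀ t ∈ (S : Subgroup G), Commute t x := by
        intro t ht
        rw [← heq] at ht
        obtain ⟨t, -, rfl⟩ := ht
        exact mem_centralizer_singleton_iff.1 t.2
      have hcen : a * x * a⁻¹ ∈ zpowers z := by
        have hmem : ∀ t, t ∈ (P : Subgroup G) ↔ a⁻¹ * t * a ∈ (S : Subgroup G) := fun t => by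
          rw [← ha, Sylow.coe_subgroup_smul, mem_pointwise_smul_iff_inv_smul_mem,
            ← map_inv, MulAut.smul_def, MulAut.conj_apply, inv_inv]
        refine F.mem_z_of_central ((hmem _).2 (by simpa [mul_assoc] using hxS)) fun t ht => ?_
        have h := hSx _ ((hmem t).1 ht)
        show t * (a * x * a⁻¹) = a * x * a⁻¹ * t
        calc t * (a * x * a⁻¹) = a * (a⁻¹ * t * a * x) * a⁻¹ := by group
          _ = a * (x * (a⁻¹ * t * a)) * a⁻¹ := by rw [h.eq]
          _ = _ := by group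
      rcases F.mem_z.1 hcen with h | h | h
      · exact hx' (by rw [conj_eq_one_iff.1 h]; exact one_mem _)
      · refine hx' ?_
        have h2 : a⁻¹ * z * a⁻¹⁻¹ = x := by rw [← h]; group
        rw [← h2, F.zfusion (h2.symm ▸ hx)]
        exact mem_zpowers z
      · refine hx' ?_
        have h2 : a⁻¹ * z * a⁻¹⁻¹ = x⁻¹ := by
          rw [← F.inv_z] at h
          calc a⁻¹ * z * a⁻¹⁻¹ = a⁻¹ * (z⁻¹)⁻¹ * a := by group
            _ = x⁻¹ := by rw [← h]; group
        rw [← inv_inv x, ← h2, F.zfusion (h2.symm ▸ inv_mem hx)]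
        exact inv_mem (mem_zpowers z)
  · exact (eq_of_le_of_card_ge hT (hle.trans hEcard.ge)).symm
  · exact le_antisymm hle (hEcard ▸ card_le_of_le hT)

/-- The centraliser of a noncentral element has a normal 3-complement. -/
theorem exists_complement (F : Core P z) {x : G} (hx : x ∈ (P : Subgroup G))
    (hx' : x ∉ zpowers z) : ∃ R : Subgroup ↥(centralizer ({x} : Set G)), R.Normal ∧
      ¬ 3 ∣ Nat.card R ∧ R.index = 9 ∧
      (∀ y : ↥(centralizer ({x} : Set G)), ¬ 3 ∣ orderOf y → y ∈ R) := by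
  haveI : Fact (Nat.Prime 3) := ⟨Nat.prime_three⟩
  set C := centralizer ({x} : Set G) with hC
  obtain ⟨T, hT, hT9⟩ := F.exists_sylow_centralizer hx hx'
  have hmem : ∀ a : C, a ∈ (T : Subgroup C) ↔
      (a : G) ∈ (P : Subgroup G) ⊓ centralizer ({x} : Set G) := fun a => by
    rw [hT]; exact mem_subgroupOf
  have hN : normalizer ((T : Subgroup C) : Set C) ≤ centralizer ((T : Subgroup C) : Set C) := by
    intro n hn
    rw [mem_centralizer_iff]
    intro a ha
    have hzT : (⟨z, mem_centralizer_singleton_iff.2 (F.zc x hx).eq⟩ : C) ∈ (T : Subgroup C) :=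
      (hmem _).2 ⟨F.zmem, mem_centralizer_singleton_iff.2 (F.zc x hx).eq⟩
    have hz1 := F.zfusion ((hmem _).1 ((mem_normalizer_iff.1 hn _).1 hzT)).1
    obtain ⟨i, j, hij⟩ := F.mem_inf_eq hx hx' ((hmem a).1 ha)
    apply Subtype.ext
    show (a : G) * n = n * a
    rw [hij]
    have hnx : Commute (n : G) x := mem_centralizer_singleton_iff.1 n.2
    have hnz : Commute (n : G) z := mul_inv_eq_iff_eq_mul.1 hz1
    exact ((hnx.pow_right i).mul_right (hnz.pow_right j)).eq.symm
  have hc := MonoidHom.ker_transferSylow_isComplement' T hN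
  refine ⟨(MonoidHom.transferSylow T hN).ker, inferInstance,
    MonoidHom.not_dvd_card_ker_transferSylow T hN, by rw [hc.symm.index_eq_card, hT9], fun y hy => ?_⟩
  rw [MonoidHom.mem_ker, ← orderOf_eq_one_iff]
  have h1 := orderOf_map_dvd (MonoidHom.transferSylow T hN) y
  obtain ⟨k, hk⟩ := IsPGroup.iff_orderOf.1 T.2 (MonoidHom.transferSylow T hN y)
  exact Nat.eq_one_of_dvd_coprimes ((Nat.prime_three.coprime_iff_not_dvd.2 hy).symm.pow_right k)
    h1 (hk.dvd)

/-- The normal Sylow subgroup of the normaliser contains all its 3-elements. -/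
theorem mem_of_normalizer {u : G} (hu : u ∈ normalizer ((P : Subgroup G) : Set G))
    (ho : ∃ k : ℕ, orderOf u = 3 ^ k) : u ∈ (P : Subgroup G) := by
  haveI : Fact (Nat.Prime 3) := ⟨Nat.prime_three⟩
  obtain ⟨k, hk⟩ := ho
  have hK : IsPGroup 3 (zpowers u) := IsPGroup.of_card (n := k) (by rw [Nat.card_zpowers, hk])
  have h := IsPGroup.to_sup_of_normal_right' hK P.2 (Subgroup.zpowers_le.2 hu)
  rw [← P.is_maximal' h le_sup_right]
  exact mem_sup_left (mem_zpowers u)

theorem sup_le_cosetFix (F : Core P z) {x : G} (hx : x ∈ (P : Subgroup G)) :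
    PC ≤ cosetFix z x :=
  sup_le (F.le_cosetFix hx) fun c hc => ⟨(mem_centralizer_iff.1 hc z F.zmem).symm, by
    rw [← mem_centralizer_iff.1 hc x hx, mul_inv_cancel_right, inv_mul_cancel]
    exact one_mem _⟩

theorem sup_le_normalizer : PC ≤ N := sup_le le_normalizer (centralizer_le_normalizer _)

/-- An element of the normaliser fixing a noncentral coset lies in `P · C(P)`. -/
theorem mem_sup_of_fix (F : Core P z) {x n : G} (hx : x ∈ (P : Subgroup G))
    (hx' : x ∉ zpowers z) (hn : n ∈ N) (hnx : n ∈ cosetFix z x) : n ∈ PC := by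
  classical
  haveI : Fact (Nat.Prime 3) := ⟨Nat.prime_three⟩
  obtain ⟨e, he, -⟩ := exists_pPart_exponent Nat.prime_three (isOfFinOrder_of_finite n)
  obtain ⟨v, hv, -, hu, hvp⟩ := he
  have huP : n ^ e ∈ (P : Subgroup G) := mem_of_normalizer (pow_mem hn e) hu
  have hvN : v ∈ N := by
    rw [show v = (n ^ e)⁻¹ * n from eq_inv_mul_of_mul_eq hv]
    exact mul_mem (inv_mem (pow_mem hn e)) hn
  obtain ⟨hvz, hvx⟩ : v ∈ cosetFix z x := by
    rw [show v = (n ^ e)⁻¹ * n from eq_inv_mul_of_mul_eq hv]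
    exact mul_mem (inv_mem (pow_mem hnx e)) hnx
  have hcop : Nat.Coprime 3 (orderOf v) := Nat.prime_three.coprime_iff_not_dvd.2 hvp
  obtain ⟨m, hm⟩ := exists_pow_eq_self_of_coprime hcop
  -- a commuting displacement is trivial
  have key : ∀ y a : G, v * y * v⁻¹ = y * a → Commute v a → a ^ 3 = 1 → Commute v y := by
    intro y a h hc h3
    have h' := conj_pow_eq h hc 3
    rw [h3, mul_one] at h'
    have : Commute (v ^ 3) y := mul_inv_eq_iff_eq_mul.1 h'
    rw [← hm]
    exact this.pow_left m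
  have hvx' : Commute v x := by
    obtain ⟨i, hi⟩ := mem_zpowers_iff.1 hvx
    exact key x (z ^ i) (by rw [hi]; group) (hvz.zpow_right i)
      (by rw [← zpow_natCast, ← zpow_mul, mul_comm, zpow_mul, zpow_natCast, F.z3, one_zpow])
  obtain ⟨y, hy, hyx⟩ := F.push x hx hx'
  have hvy : Commute v y := by
    have hw : v * y * v⁻¹ ∈ (P : Subgroup G) := (mem_normalizer_iff.1 hvN y).1 hy
    have hwx : v * y * v⁻¹ * x * (v * y * v⁻¹)⁻¹ = x * z := by
      calc v * y * v⁻¹ * x * (v * y * v⁻¹)⁻¹ = v * y * (v⁻¹ * x * v) * y⁻¹ * v⁻¹ := by group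
        _ = v * (y * x * y⁻¹) * v⁻¹ := by
          rw [mul_assoc v⁻¹, ← hvx'.eq, inv_mul_cancel_left]; group
        _ = x * z := by
          rw [hyx, (hvx'.mul_right hvz).eq, mul_inv_cancel_right]
    have ha : y⁻¹ * (v * y * v⁻¹) ∈ (P : Subgroup G) ⊓ centralizer ({x} : Set G) := by
      refine Subgroup.mem_inf.2 ⟨mul_mem (inv_mem hy) hw, mem_centralizer_singleton_iff.2 ?_⟩
      set w := v * y * v⁻¹
      have e1 : y⁻¹ * (x * z) * y = x := by rw [← hyx]; group
      calc y⁻¹ * w * x = y⁻¹ * (w * x * w⁻¹) * y * (y⁻¹ * w) := by group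
        _ = x * (y⁻¹ * w) := by rw [hwx, e1]
    obtain ⟨i, j, hij⟩ := F.mem_inf_eq hx hx' ha
    exact key y (x ^ i * z ^ j) (by rw [← hij, mul_inv_cancel_left])
      ((hvx'.pow_right i).mul_right (hvz.pow_right j))
      (F.exp _ (F.pow_mem_inf hx i j).1)
  have hvC : v ∈ centralizer ((P : Subgroup G) : Set G) := by
    rw [mem_centralizer_iff]
    intro p hp
    obtain ⟨k, (hk : z ^ k = _)⟩ := (mem_powers_iff_mem_zpowers (x := z)).2 (F.comm x hx p hp)
    have ha : (y ^ k)⁻¹ * p ∈ (P : Subgroup G) ⊓ centralizer ({x} : Set G) := by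
      refine Subgroup.mem_inf.2 ⟨mul_mem (inv_mem (pow_mem hy k)) hp, mem_centralizer_singleton_iff.2 ?_⟩
      have h1 : p * x * p⁻¹ = x * z ^ k := by
        rw [show p * x * p⁻¹ = p * x * p⁻¹ * x⁻¹ * x by group, ← hk, ((F.zc x hx).pow_left k).eq]
      have h2 := F.push_pow hy hyx k
      calc (y ^ k)⁻¹ * p * x = (y ^ k)⁻¹ * (p * x * p⁻¹) * y ^ k * ((y ^ k)⁻¹ * p) := by group
        _ = x * ((y ^ k)⁻¹ * p) := by rw [h1, ← h2]; group
    obtain ⟨i, j, hij⟩ := F.mem_inf_eq hx hx' ha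
    have : p = y ^ k * (x ^ i * z ^ j) := by rw [← hij, mul_inv_cancel_left]
    rw [this]
    exact ((hvy.pow_right k).mul_right ((hvx'.pow_right i).mul_right (hvz.pow_right j))).eq.symm
  rw [← hv]
  exact mul_mem (mem_sup_left huP) (mem_sup_right hvC)

/-- Fusion of noncentral elements is controlled by the normaliser. -/
theorem exists_normalizer_conj (F : Core P z) {x g : G} (hx : x ∈ (P : Subgroup G))
    (hx' : x ∉ zpowers z) (hg : g * x * g⁻¹ ∈ (P : Subgroup G)) :
    ∃ n ∈ N, n * x * n⁻¹ = g * x * g⁻¹ := by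
  haveI : Fact (Nat.Prime 3) := ⟨Nat.prime_three⟩
  set x' := g * x * g⁻¹ with hx'def
  have hx'Z : x' ∉ zpowers z := by
    intro h
    rcases F.mem_z.1 h with h | h | h
    · exact hx' (by rw [conj_eq_one_iff.1 h]; exact one_mem _)
    · refine hx' ?_
      have h2 : g⁻¹ * z * g⁻¹⁻¹ = x := by rw [← h, hx'def]; group
      rw [← h2, F.zfusion (h2.symm ▸ hx)]
      exact mem_zpowers z
    · refine hx' ?_
      rw [← F.inv_z] at h
      have h2 : g⁻¹ * z * g⁻¹⁻¹ = x⁻¹ := by
        calc g⁻¹ * z * g⁻¹⁻¹ = g⁻¹ * (z⁻¹)⁻¹ * g := by group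
          _ = x⁻¹ := by rw [← h, hx'def]; group
      rw [← inv_inv x, ← h2, F.zfusion (h2.symm ▸ inv_mem hx)]
      exact inv_mem (mem_zpowers z)
  set C' := centralizer ({x'} : Set G) with hC'
  obtain ⟨T, hT, -⟩ := F.exists_sylow_centralizer hg hx'Z
  have hw : g * z * g⁻¹ ∈ C' := by
    rw [hC', mem_centralizer_singleton_iff, hx'def]
    calc g * z * g⁻¹ * (g * x * g⁻¹) = g * (z * x) * g⁻¹ := by group
      _ = g * (x * z) * g⁻¹ := by rw [(F.zc x hx).eq]
      _ = _ := by group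
  have hord : orderOf (⟨_, hw⟩ : C') = 3 := by
    rw [← Subgroup.orderOf_coe]
    show orderOf (MulAut.conj g z) = 3
    rw [MulEquiv.orderOf_eq, F.order_z]
  obtain ⟨R, hR⟩ := (IsPGroup.of_card (n := 1) (G := zpowers (⟨_, hw⟩ : C'))
    (by rw [Nat.card_zpowers, hord, pow_one])).exists_le_sylow
  obtain ⟨c, hc⟩ := MulAction.exists_smul_eq C' R T
  have h1 : c * ⟨_, hw⟩ * c⁻¹ ∈ ((c • R : Sylow 3 C') : Subgroup C') := by
    rw [Sylow.coe_subgroup_smul]
    exact Subgroup.smul_mem_pointwise_smul _ (MulAut.conj c) _ (hR (mem_zpowers _))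
  rw [hc, hT, mem_subgroupOf] at h1
  have h2 : (c : G) * g * z * ((c : G) * g)⁻¹ ∈ (P : Subgroup G) := by
    have h3 : (c : G) * (g * z * g⁻¹) * (c : G)⁻¹ ∈ (P : Subgroup G) := h1.1
    rwa [show (c : G) * g * z * ((c : G) * g)⁻¹ = (c : G) * (g * z * g⁻¹) * (c : G)⁻¹ by group]
  set g' := (c : G) * g with hg'
  have hg'z : Commute g' z := mul_inv_eq_iff_eq_mul.1 (F.zfusion h2)
  have hg'x : g' * x * g'⁻¹ = x' := by
    rw [hg', show (c : G) * g * x * ((c : G) * g)⁻¹ = (c : G) * x' * (c : G)⁻¹ by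
      rw [hx'def]; group, mem_centralizer_singleton_iff.1 c.2, mul_inv_cancel_right]
  obtain ⟨d, hd, hn⟩ := CfsgLib.Transfer.exists_mul_mem_normalizer P (cosetFix z x) g'
    (F.le_cosetFix hx) fun p hp => by
      obtain ⟨hpz, hpx⟩ := F.le_cosetFix hg hp
      refine ⟨(hg'z.inv_left.mul_left hpz).mul_left hg'z, ?_⟩
      obtain ⟨i, hi⟩ := mem_zpowers_iff.1 hpx
      have e1 : p * x' * p⁻¹ = x' * z ^ i := by rw [hi]; group
      have e2 : g'⁻¹ * p * g' * x * (g'⁻¹ * p * g')⁻¹ = x * z ^ i := by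
        calc g'⁻¹ * p * g' * x * (g'⁻¹ * p * g')⁻¹
            = g'⁻¹ * (p * (g' * x * g'⁻¹) * p⁻¹) * g' := by group
          _ = g'⁻¹ * (g' * x * g'⁻¹) * (z ^ i * g') := by rw [hg'x, e1]; group
          _ = g'⁻¹ * (g' * x * g'⁻¹) * (g' * z ^ i) := by rw [(hg'z.zpow_right i).eq]
          _ = x * z ^ i := by group
      show x⁻¹ * (g'⁻¹ * p * g' * x * (g'⁻¹ * p * g')⁻¹) ∈ zpowers z
      rw [e2, inv_mul_cancel_left]
      exact zpow_mem (mem_zpowers z) i
  obtain ⟨-, hdx⟩ := hd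
  obtain ⟨i, hi⟩ := mem_zpowers_iff.1 hdx
  have e1 : d * x * d⁻¹ = x * z ^ i := by rw [hi]; group
  have e2 : g' * d * x * (g' * d)⁻¹ = x' * z ^ i := by
    calc g' * d * x * (g' * d)⁻¹ = g' * (d * x * d⁻¹) * g'⁻¹ := by group
      _ = g' * x * (z ^ i * g'⁻¹) := by rw [e1]; group
      _ = g' * x * (g'⁻¹ * z ^ i) := by rw [((hg'z.zpow_right i).inv_left).eq]
      _ = x' * z ^ i := by rw [← mul_assoc, hg'x]
  obtain ⟨k, (hk : z ^ k = _)⟩ := (mem_powers_iff_mem_zpowers (x := z)).2 (zpow_mem (mem_zpowers z) (-i))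
  obtain ⟨p, hp, hpx⟩ := F.exists_push hg hx'Z k
  refine ⟨p * (g' * d), mul_mem (le_normalizer hp) hn, ?_⟩
  calc p * (g' * d) * x * (p * (g' * d))⁻¹ = p * (g' * d * x * (g' * d)⁻¹) * p⁻¹ := by group
    _ = p * x' * (z ^ i * p⁻¹) := by rw [e2]; group
    _ = p * x' * (p⁻¹ * z ^ i) := by rw [(((F.zc p hp).zpow_left i).inv_right).eq]
    _ = x' * z ^ k * z ^ i := by rw [← mul_assoc, hpx]
    _ = x' := by rw [mul_assoc, hk, zpow_neg, inv_mul_cancel, mul_one]

/-- The number of elements of `P` fused to a noncentral element. -/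
theorem ncard_class (F : Core P z) {x : G} (hx : x ∈ (P : Subgroup G)) (hx' : x ∉ zpowers z) :
    {y : G | y ∈ (P : Subgroup G) ∧ IsConj x y}.ncard = 3 * (PC).relIndex N := by
  classical
  haveI : Fact (Nat.Prime 3) := ⟨Nat.prime_three⟩
  set S := centralizer ({x} : Set G) with hS
  have horb : ∀ K : Subgroup G, S.relIndex K = Nat.card ↥(Set.range fun k : K => (k : G) * x * (k : G)⁻¹) := by
    intro K
    rw [relIndex, index]
    refine Nat.card_congr ?_
    refine Equiv.trans (Quotient.congrRight fun a b => ?_)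
      (Setoid.quotientKerEquivRange fun k : K => (k : G) * x * (k : G)⁻¹)
    rw [QuotientGroup.leftRel_apply, mem_subgroupOf]
    show ((a⁻¹ * b : K) : G) ∈ S ↔ (a : G) * x * (a : G)⁻¹ = (b : G) * x * (b : G)⁻¹
    rw [hS, mem_centralizer_singleton_iff, coe_mul, coe_inv]
    constructor
    · intro h
      calc (a : G) * x * (a : G)⁻¹ = (a : G) * (x * ((a : G)⁻¹ * b)) * (b : G)⁻¹ := by group
        _ = (a : G) * ((a : G)⁻¹ * b * x) * (b : G)⁻¹ := by rw [h]
        _ = _ := by group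
    · intro h
      calc (a : G)⁻¹ * b * x = (a : G)⁻¹ * ((b : G) * x * (b : G)⁻¹) * b := by group
        _ = _ := by rw [← h]; group
  -- orbit under `P C(P)`
  have h3 : S.relIndex PC = 3 := by
    rw [horb]
    have : (Set.range fun k : ↥PC => (k : G) * x * (k : G)⁻¹) =
        (fun k : Fin 3 => x * z ^ (k : ℕ)) '' Set.univ := by
      ext w
      constructor
      · rintro ⟨k, rfl⟩
        obtain ⟨-, hk⟩ := F.sup_le_cosetFix hx k.2
        rcases F.mem_z.1 hk with h | h | h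
        · exact ⟨0, trivial, by simpa using (inv_mul_eq_one.1 h)⟩
        · exact ⟨1, trivial, by
            show x * z ^ (1 : ℕ) = _
            rw [pow_one, ← eq_inv_mul_iff_mul_eq, h]⟩
        · exact ⟨2, trivial, by
            show x * z ^ (2 : ℕ) = _
            rw [← eq_inv_mul_iff_mul_eq, h]⟩
      · rintro ⟨k, -, rfl⟩
        obtain ⟨y, hy, he⟩ := F.exists_push hx hx' k
        exact ⟨⟨y, mem_sup_left hy⟩, he⟩
    rw [this, Nat.card_image_of_injective, Nat.card_univ, Nat.card_fin]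
    intro a b h
    have hlt : ∀ k : Fin 3, (k : ℕ) ∈ Set.Iio (orderOf z) := fun k => by
      rw [F.order_z]; exact k.2
    exact Fin.ext (pow_injOn_Iio_orderOf (hlt a) (hlt b) (mul_left_cancel h))
  have hle : S ⊓ N ≤ PC := fun n hn => F.mem_sup_of_fix hx hx' hn.2 ⟨F.norm n hn.2, by
    rw [mem_centralizer_singleton_iff.1 hn.1, mul_inv_cancel_right, inv_mul_cancel]
    exact one_mem _⟩
  have hmul := relIndex_mul_relIndex (S ⊓ N) PC N hle sup_le_normalizer
  have e1 : (S ⊓ N).relIndex PC = S.relIndex PC := by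
    rw [← inf_relIndex_right (S ⊓ N) PC, inf_assoc,
      inf_eq_right.2 (sup_le_normalizer (P := P)), inf_relIndex_right]
  rw [e1, inf_relIndex_right, h3, horb N] at hmul
  rw [hmul, Nat.card_coe_set_eq]
  congr 1
  ext y
  constructor
  · rintro ⟨hy, hxy⟩
    obtain ⟨g, rfl⟩ := isConj_iff.1 hxy
    obtain ⟨n, hn, he⟩ := F.exists_normalizer_conj hx hx' hy
    exact ⟨⟨n, hn⟩, he⟩
  · rintro ⟨k, rfl⟩
    exact ⟨(mem_normalizer_iff.1 k.2 x).1 hx, isConj_iff.2 ⟨k, rfl⟩⟩

/-- An even inertial index fuses each noncentral element with its inverse. -/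
theorem real_of_even (F : Core P z) (he : 2 ∣ (PC).relIndex N) {x : G} (hx : x ∈ (P : Subgroup G))
    (hx' : x ∉ zpowers z) : IsConj x x⁻¹ := by
  classical
  haveI : Fact (Nat.Prime 2) := ⟨Nat.prime_two⟩
  set K := (PC).subgroupOf N
  have hconj : ∀ n ∈ N, ∀ k ∈ PC, n * k * n⁻¹ ∈ PC := by
    intro n hn k hk
    have hle : PC ≤ (PC).comap (MulAut.conj n).toMonoidHom := by
      refine sup_le (fun p hp => mem_comap.2 (mem_sup_left ((mem_normalizer_iff.1 hn p).1 hp)))
        (fun c hc => mem_comap.2 (mem_sup_right ?_))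
      rw [mem_centralizer_iff]
      intro p hp
      have hp' : n⁻¹ * p * n ∈ (P : Subgroup G) := by
        have := (mem_normalizer_iff.1 (inv_mem hn) p).1 hp
        rwa [inv_inv] at this
      show p * (n * c * n⁻¹) = n * c * n⁻¹ * p
      calc p * (n * c * n⁻¹) = n * (n⁻¹ * p * n * c) * n⁻¹ := by group
        _ = n * (c * (n⁻¹ * p * n)) * n⁻¹ := by rw [mem_centralizer_iff.1 hc _ hp']
        _ = _ := by group
    exact mem_comap.1 (hle hk)
  haveI : K.Normal := ⟨fun k hk n => mem_subgroupOf.2 (hconj n n.2 k (mem_subgroupOf.1 hk))⟩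
  have hcard : 2 ∣ Nat.card (↥N ⧸ K) := he
  obtain ⟨q, hq⟩ := exists_prime_orderOf_dvd_card' 2 hcard
  obtain ⟨n, rfl⟩ := QuotientGroup.mk_surjective q
  have hnK : (n : G) ∉ PC := fun h => by
    rw [(QuotientGroup.eq_one_iff n).2 (mem_subgroupOf.2 h), orderOf_one] at hq
    norm_num at hq
  have hn2 : (n : G) * n ∈ PC := by
    have h := pow_orderOf_eq_one (n : ↥N ⧸ K)
    rw [hq, ← QuotientGroup.mk_pow, QuotientGroup.eq_one_iff, pow_two] at h
    exact mem_subgroupOf.1 h
  have hnz : Commute (n : G) z := F.norm n n.2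
  set x₁ := (n : G) * x * (n : G)⁻¹ with hx₁
  have hx₁P : x₁ ∈ (P : Subgroup G) := (mem_normalizer_iff.1 n.2 x).1 hx
  have hxP : x * x₁ ∈ (P : Subgroup G) := mul_mem hx hx₁P
  by_cases hw : x * x₁ ∈ zpowers z
  · -- then `x₁ = x⁻¹` up to the centre
    obtain ⟨k, (hk : z ^ k = _)⟩ := (mem_powers_iff_mem_zpowers (x := z)).2 (inv_mem hw)
    have hxi : x⁻¹ ∈ (P : Subgroup G) := inv_mem hx
    have hxi' : x⁻¹ ∉ zpowers z := fun h => hx' (by simpa using inv_mem h)
    obtain ⟨y, hy, hey⟩ := F.exists_push hxi hxi' k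
    refine isConj_iff.2 ⟨y * n, ?_⟩
    have hc : Commute y (x * x₁) := (F.commute_zpowers hy hw).symm
    calc y * n * x * (y * n)⁻¹ = y * x⁻¹ * ((x * x₁) * y⁻¹) := by rw [hx₁]; group
      _ = y * x⁻¹ * (y⁻¹ * (x * x₁)) := by rw [hc.inv_left.eq]
      _ = x⁻¹ * z ^ k * (x * x₁) := by rw [← mul_assoc, hey]
      _ = x⁻¹ := by rw [mul_assoc, hk, inv_mul_cancel, mul_one]
  · exfalso
    obtain ⟨-, h2⟩ := F.sup_le_cosetFix hx hn2
    obtain ⟨i, hi⟩ := mem_zpowers_iff.1 h2
    have e2 : (n : G) * x₁ * (n : G)⁻¹ = x * z ^ i := by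
      rw [hi, hx₁]; group
    refine hnK (F.mem_sup_of_fix hxP hw n.2 ⟨hnz, ?_⟩)
    obtain ⟨j, hj⟩ := mem_zpowers_iff.1 (F.comm x hx x₁ hx₁P)
    have e3 : (n : G) * (x * x₁) * (n : G)⁻¹ = x * x₁ * (z ^ j * z ^ i) := by
      calc (n : G) * (x * x₁) * (n : G)⁻¹ = x₁ * ((n : G) * x₁ * (n : G)⁻¹) := by rw [hx₁]; group
        _ = x₁ * x * x₁⁻¹ * x⁻¹ * (x * x₁) * z ^ i := by rw [e2]; group
        _ = z ^ j * (x * x₁) * z ^ i := by rw [← hj]
        _ = _ := by rw [((F.zc _ hxP).zpow_left j).eq, mul_assoc]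
    rw [e3, inv_mul_cancel_left]
    exact mul_mem (zpow_mem (mem_zpowers z) j) (zpow_mem (mem_zpowers z) i)

/-- Trivial inertia forces a normal 3-complement. -/
theorem exists_complement_of_one (F : Core P z) (he : (PC).relIndex N = 1) :
    ∃ R : Subgroup G, R.Normal ∧ ¬ 3 ∣ Nat.card R ∧ ∀ y : G, ¬ 3 ∣ orderOf y → y ∈ R := by
  classical
  haveI : Fact (Nat.Prime 3) := ⟨Nat.prime_three⟩
  have hN : N ≤ PC := relIndex_eq_one.1 he
  -- fusion is controlled by `P`
  have hctrl : ∀ x ∈ (P : Subgroup G), ∀ g : G, g * x * g⁻¹ ∈ (P : Subgroup G) →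
      ∃ k ∈ (P : Subgroup G), k * x * k⁻¹ = g * x * g⁻¹ := by
    intro x hx g hg
    by_cases hx' : x ∈ zpowers z
    · refine ⟨1, one_mem _, ?_⟩
      rcases F.mem_z.1 hx' with h | h | h <;> rw [h] at hg ⊢
      · group
      · rw [F.zfusion hg]; group
      · rw [← F.inv_z] at hg ⊢
        have h' : g * z * g⁻¹ ∈ (P : Subgroup G) := by
          have := inv_mem hg
          rwa [show (g * z⁻¹ * g⁻¹)⁻¹ = g * z * g⁻¹ by group] at this
        rw [show g * z⁻¹ * g⁻¹ = (g * z * g⁻¹)⁻¹ by group, F.zfusion h']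
        group
    · obtain ⟨n, hn, he'⟩ := F.exists_normalizer_conj hx hx' hg
      have hle : (centralizer ((P : Subgroup G) : Set G)) ≤ normalizer ((P : Subgroup G) : Set G) :=
        centralizer_le_normalizer _
      obtain ⟨c, hc, p, hp, rfl⟩ : ∃ c ∈ centralizer ((P : Subgroup G) : Set G),
          ∃ p ∈ (P : Subgroup G), c * p = n := by
        have h1 : n ∈ ((centralizer ((P : Subgroup G) : Set G) ⊔ (P : Subgroup G) : Subgroup G) : Set G) := by
          rw [sup_comm]; exact hN hn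
        rw [coe_mul_of_right_le_normalizer_left _ (P : Subgroup G) ?_] at h1
        · exact Set.mem_mul.1 h1
        · intro p hp
          refine mem_normalizer_iff.2 fun d => ?_
          constructor <;> intro hd <;> rw [mem_centralizer_iff] at hd ⊢ <;>
            intro a ha
          · have ha' : p⁻¹ * a * p ∈ (P : Subgroup G) := mul_mem (mul_mem (inv_mem hp) ha) hp
            calc a * (p * d * p⁻¹) = p * (p⁻¹ * a * p * d) * p⁻¹ := by group
              _ = p * (d * (p⁻¹ * a * p)) * p⁻¹ := by rw [hd _ ha']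
              _ = _ := by group
          · have ha' : p * a * p⁻¹ ∈ (P : Subgroup G) := mul_mem (mul_mem hp ha) (inv_mem hp)
            calc a * d = p⁻¹ * (p * a * p⁻¹ * (p * d * p⁻¹)) * p := by group
              _ = p⁻¹ * (p * d * p⁻¹ * (p * a * p⁻¹)) * p := by rw [hd _ ha']
              _ = _ := by group
      refine ⟨p, hp, ?_⟩
      rw [← he']
      have : p * x * p⁻¹ ∈ (P : Subgroup G) := mul_mem (mul_mem hp hx) (inv_mem hp)
      calc p * x * p⁻¹ = p * x * p⁻¹ * c * c⁻¹ := by group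
        _ = c * (p * x * p⁻¹) * c⁻¹ := by rw [mem_centralizer_iff.1 hc _ this]
        _ = _ := by group
  have hfoc : (P : Subgroup G) ⊓ Cfsg.pResidual 3 G ≤ zpowers z := by
    refine (CfsgLib.Transfer.inf_pResidual_le_focal P).trans
      ((CfsgLib.Transfer.focalSubgroup_le_of_controls hctrl).trans ?_)
    rw [commutator_le]
    intro a ha b hb
    rw [commutatorElement_def]
    exact F.comm b hb a ha
  set K := Cfsg.pResidual 3 G with hK
  haveI hKn : K.Normal := CfsgLib.Transfer.pResidual_normal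
  let T : Sylow 3 K := default
  obtain ⟨S, hS⟩ := (T.2.map K.subtype).exists_le_sylow
  obtain ⟨a, ha⟩ := MulAction.exists_smul_eq G S P
  have hTz : ∀ t ∈ (T : Subgroup K), a * (t : G) * a⁻¹ ∈ zpowers z := fun t ht => by
    refine hfoc ⟨?_, hKn.conj_mem _ t.2 a⟩
    rw [← ha, Sylow.coe_subgroup_smul]
    exact smul_mem_pointwise_smul _ (MulAut.conj a) _ (hS ⟨t, ht, rfl⟩)
  have hNT : normalizer ((T : Subgroup K) : Set K) ≤ centralizer ((T : Subgroup K) : Set K) := by
    intro n hn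
    rw [mem_centralizer_iff]
    intro t ht
    obtain ⟨i, hi⟩ := mem_zpowers_iff.1 (hTz t ht)
    obtain ⟨j, hj⟩ := mem_zpowers_iff.1 (hTz _ ((mem_normalizer_iff.1 hn t).1 ht))
    by_cases hi0 : z ^ i = 1
    · have ht1 : (t : G) = 1 := by rw [hi0] at hi; exact conj_eq_one_iff.1 hi.symm
      rw [show t = 1 from Subtype.ext ht1, one_mul, mul_one]
    apply Subtype.ext
    show (t : G) * n = n * t
    set m := a * (n : G) * a⁻¹
    have hm : m * z ^ i * m⁻¹ = z ^ j := by
      rw [hi, hj]; simp only [m, coe_mul, coe_inv]; group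
    have hmz : m * z ^ i * m⁻¹ = z ^ i := by
      rcases F.mem_z.1 (zpow_mem (mem_zpowers z) i) with h | h | h
      · exact absurd h hi0
      · rw [h] at hm ⊢
        exact F.zfusion (hm ▸ zpow_mem F.zmem j)
      · rw [h, ← F.inv_z] at hm ⊢
        have h' : m * z * m⁻¹ ∈ (P : Subgroup G) := by
          rw [show m * z * m⁻¹ = (m * z⁻¹ * m⁻¹)⁻¹ by group, hm]
          exact inv_mem (zpow_mem F.zmem j)
        rw [show m * z⁻¹ * m⁻¹ = (m * z * m⁻¹)⁻¹ by group, F.zfusion h']
    rw [hi] at hmz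
    simp only [m] at hmz
    have h5 : (n : G) * t * (n : G)⁻¹ = t := by
      refine mul_left_cancel (a := a) (mul_right_cancel (b := a⁻¹) ?_)
      rw [← hmz]; group
    exact (mul_inv_eq_iff_eq_mul.1 h5).symm
  set R := (MonoidHom.transferSylow T hNT).ker
  have hR : ¬ 3 ∣ Nat.card R := MonoidHom.not_dvd_card_ker_transferSylow T hNT
  have hle : K ≤ R.map K.subtype := by
    refine CfsgLib.Transfer.pResidual_le_iff.2 ?_
    intro y hy
    have hyK : y ∈ K := CfsgLib.Transfer.mem_pResidual hy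
    refine ⟨⟨y, hyK⟩, ?_, rfl⟩
    rw [SetLike.mem_coe, MonoidHom.mem_ker, ← orderOf_eq_one_iff]
    obtain ⟨k, hk⟩ := IsPGroup.iff_orderOf.1 T.2 (MonoidHom.transferSylow T hNT ⟨y, hyK⟩)
    refine Nat.eq_one_of_dvd_coprimes ((hy : (orderOf y).Coprime 3).pow_right k) ?_ hk.dvd
    exact (orderOf_map_dvd (MonoidHom.transferSylow T hNT) ⟨y, hyK⟩).trans
      (dvd_of_eq (Subgroup.orderOf_mk y hyK))
  refine ⟨K, hKn, fun h => hR (h.trans ?_), fun y hy =>
    CfsgLib.Transfer.mem_pResidual (Nat.prime_three.coprime_iff_not_dvd.2 hy).symm⟩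
  have h1 := card_dvd_of_le hle
  rwa [Nat.card_congr (equivMapOfInjective R _ Subtype.val_injective).symm.toEquiv] at h1

end Core

end CfsgLib.ExtraTwentySeven
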