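import Cfsg.Agent.Lib.ExtraTwentySeven.Contrib
import Cfsg.Agent.Lib.PCore.Basic
import Cfsg.Agent.Lib.Characters.LinearTwist

/-!
# The invariants of the principal block
-/

set_option autoImplicit false
set_option linter.unusedSectionVars false
set_option linter.style.haveILetI false
set_option maxHeartbeats 400000

noncomputable section

namespace CfsgLib.ExtraTwentySeven

open Cfsg CfsgLib.Characters CfsgLib.Blocks
open scoped ComplexConjugate Classical

universe u

variable {G : Type u} [Group G] [Fintype G] {P : Sylow 3 G} {z : G} {X : Finset G}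
  {M : Ideal AlgInt}

/-- The height-zero members are those of degree prime to three. -/
theorem height_zero_iff (hM : IsPModular 3 M) (χ : IrrCharacter G) {d : ℕ} (hd0 : 0 < d)
    (hd : (χ : G → ℂ) 1 = d) :
    blockHeight 3 (principalBlock M G) (χ : G → ℂ) = 0 ↔ ¬ 3 ∣ d := by
  have h1 : charDegree ((principalIrr G : IrrCharacter G) : G → ℂ) = 1 :=
    CfsgLib.LinearTwist.charDegree_eq_of_apply_one (by simp [principalIrr_apply])
  have hinf : sInf ((fun ψ : IrrCharacter G => (charDegree (ψ : G → ℂ)).factorization 3) ''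
      principalBlock M G) = 0 :=
    Nat.sInf_eq_zero.2 (Or.inl ⟨principalIrr G, CfsgLib.Blocks.principalIrr_mem hM,
      by simp only [h1, Nat.factorization_one, Finsupp.coe_zero, Pi.zero_apply]⟩)
  rw [blockHeight, hinf, Nat.sub_zero, CfsgLib.LinearTwist.charDegree_eq_of_apply_one hd, Nat.factorization_eq_zero_iff]
  constructor
  · rintro (h | h | h)
    · exact absurd Nat.prime_three h
    · exact h
    · omega
  · exact fun h => Or.inr (Or.inl h)

/-- The number of members of height zero. -/
theorem card_height_zero (hM : IsPModular 3 M) {deg : Mem M G → ℕ} (hdeg0 : ∀ χ, 0 < deg χ)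
    (hdeg : ∀ χ : Mem M G, (χ.1 : G → ℂ) 1 = deg χ) :
    Nat.card {χ : IrrCharacter G // χ ∈ principalBlock M G ∧
        blockHeight 3 (principalBlock M G) (χ : G → ℂ) = 0} =
      (Finset.univ.filter fun χ : Mem M G => ¬ 3 ∣ deg χ).card := by
  rw [← Fintype.card_subtype, ← Nat.card_eq_fintype_card]
  refine Nat.card_congr ((Equiv.subtypeSubtypeEquivSubtypeInter (· ∈ principalBlock M G)
    (fun χ : IrrCharacter G => blockHeight 3 (principalBlock M G) (χ : G → ℂ) = 0)).symm.trans
    (Equiv.subtypeEquivRight fun χ => ?_))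
  exact height_zero_iff hM χ.1 (hdeg0 χ) (hdeg χ)

/-- The trivial inertial quotient. -/
theorem invariants_one (F : Frame P z X) (hM : IsPModular 3 M) (hX : X.card = 8)
    (he : ((P : Subgroup G) ⊔ Subgroup.centralizer ((P : Subgroup G) : Set G)).relIndex
      (Subgroup.normalizer ((P : Subgroup G) : Set G)) = 1) :
    Nat.card (principalBlock M G) = 11 ∧
      Nat.card {χ : IrrCharacter G // χ ∈ principalBlock M G ∧
        blockHeight 3 (principalBlock M G) (χ : G → ℂ) = 0} = 9 ∧
      blockRank 3 (principalBlock M G) = 1 := by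
  haveI : Fact (Nat.Prime 3) := ⟨Nat.prime_three⟩
  haveI : Fintype ↥(Subgroup.centralizer ({z} : Set G)) := Fintype.ofFinite _
  obtain ⟨R, hRn, hR, hreg⟩ := F.core.exists_complement_of_one he
  haveI := hRn
  have hl : blockRank 3 (principalBlock M G) = 1 :=
    Blk7.blockRank_principal_of_complement hM hR hreg
  set C := Subgroup.centralizer ({z} : Set G)
  have hlb : blockRank 3 (principalBlock M ↥C) = 1 := by
    refine Blk7.blockRank_principal_of_complement hM (R := R.subgroupOf C) ?_ fun y hy =>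
      Subgroup.mem_subgroupOf.2 (hreg _ (by rwa [Subgroup.orderOf_coe]))
    intro h
    exact hR (h.trans (Subgroup.card_comap_dvd_of_injective R C.subtype C.subtype_injective))
  have hk : Nat.card (principalBlock M G) = 11 := by
    rw [card_principal F hM, hl, hlb, hX]
  refine ⟨hk, ?_, hl⟩
  have hdeg : ∀ χ : Mem M G, ∃ d : ℕ, 0 < d ∧ (χ.1 : G → ℂ) 1 = d := fun χ =>
    irr_exists_degree χ.1.2
  choose dg hdg0 hdg using hdeg
  rw [card_height_zero hM hdg0 hdg]
  have hnc : ∃ k : ℕ, (pPrimeCore 3 G).index = 3 ^ k := by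
    haveI : (pPrimeCore 3 G).Normal := pPrimeCore_normal 3 G
    have hle : R ≤ pPrimeCore 3 G :=
      CfsgLib.PCore.le_pPrimeCore hRn
        (Nat.Coprime.symm (Nat.prime_three.coprime_iff_not_dvd.2 hR))
    have hP : IsPGroup 3 (G ⧸ pPrimeCore 3 G) := by
      intro q
      obtain ⟨g, rfl⟩ := QuotientGroup.mk_surjective q
      obtain ⟨y, hy, hc, ⟨k, hk⟩, hyp⟩ := isPPart_ppart g
      refine ⟨k, ?_⟩
      rw [← QuotientGroup.mk_pow, QuotientGroup.eq_one_iff, ← hy, hc.mul_pow, ← hk,
        pow_orderOf_eq_one, one_mul]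
      exact pow_mem (hle (hreg y hyp)) _
    obtain ⟨k, hk⟩ := hP.exists_card_eq
    exact ⟨k, by rw [Subgroup.index_eq_card, hk]⟩
  have hn := principal_norm_of_complement hM hnc (y := (1 : G)) (by simp)
  have h27 : 3 ^ (Nat.card G).factorization 3 = 27 := by
    rw [← P.card_eq_multiplicity]; exact F.core.card
  rw [h27, Finset.sum_subtype (Finset.univ.filter (· ∈ principalBlock M G))
    (p := fun χ => χ ∈ principalBlock M G) (fun χ => by simp)
    (fun χ : IrrCharacter G => ‖(χ : G → ℂ) 1‖ ^ 2)] at hn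
  have hsum : ∑ χ : Mem M G, dg χ ^ 2 = 27 := by
    have : ((∑ χ : Mem M G, dg χ ^ 2 : ℕ) : ℝ) = ((27 : ℕ) : ℝ) := by
      rw [← hn]
      push_cast
      exact Finset.sum_congr rfl fun χ _ => by rw [hdg, Complex.norm_natCast]
    exact_mod_cast this
  have hcard : (Finset.univ : Finset (Mem M G)).card = 11 := by
    rw [Finset.card_univ, ← Nat.card_eq_fintype_card]; exact hk
  have hle5 : ∀ χ, dg χ ≤ 5 := fun χ => by
    have := Finset.single_le_sum (f := fun χ => dg χ ^ 2) (fun _ _ => Nat.zero_le _)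
      (Finset.mem_univ χ)
    simp only [hsum] at this
    nlinarith
  have hmaps : ∀ χ ∈ (Finset.univ : Finset (Mem M G)), dg χ ∈ Finset.range 6 :=
    fun χ _ => Finset.mem_range.2 (Nat.lt_succ_of_le (hle5 χ))
  rw [← Finset.sum_fiberwise_of_maps_to hmaps] at hsum
  rw [Finset.sum_congr rfl (fun d _ => Finset.sum_congr rfl fun χ hχ =>
    (show dg χ ^ 2 = d ^ 2 by rw [(Finset.mem_filter.1 hχ).2]))] at hsum
  rw [Finset.card_eq_sum_card_fiberwise hmaps] at hcard
  simp only [Finset.sum_const, smul_eq_mul, Finset.sum_range_succ, Finset.sum_range_zero] at hsum hcard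
  have h0 : (Finset.univ.filter fun χ : Mem M G => dg χ = 0) = ∅ :=
    Finset.filter_false_of_mem fun χ _ => (hdg0 χ).ne'
  rw [h0, Finset.card_empty] at hcard
  have hsplit := Finset.card_filter_add_card_filter_not (s := (Finset.univ : Finset (Mem M G)))
    (fun χ => 3 ∣ dg χ)
  have h3 : (Finset.univ.filter fun χ : Mem M G => 3 ∣ dg χ) =
      Finset.univ.filter fun χ => dg χ = 3 := by
    refine Finset.filter_congr fun χ _ => ⟨fun h => ?_, fun h => h ▸ dvd_rfl⟩
    have := hle5 χ
    have := hdg0 χ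
    omega
  rw [h3, Finset.card_univ, ← Nat.card_eq_fintype_card, show Nat.card (Mem M G) = 11 from hk]
    at hsplit
  norm_num at hsum hcard
  omega

/-- The nontrivial inertial quotients. -/
theorem invariants_even (F : Frame P z X) (hM : IsPModular 3 M)
    (hreal : ∀ x ∈ (P : Subgroup G), x ∉ Subgroup.zpowers z → IsConj x x⁻¹)
    (hc : X.card = 1 ∨ X.card = 2 ∨ X.card = 4) :
    Nat.card (principalBlock M G) + 2 * X.card = 18 ∧
      Nat.card {χ : IrrCharacter G // χ ∈ principalBlock M G ∧
        blockHeight 3 (principalBlock M G) (χ : G → ℂ) = 0} = 6 ∧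
      blockRank 3 (principalBlock M G) + X.card = 6 := by
  haveI : Fact (Nat.Prime 3) := ⟨Nat.prime_three⟩
  haveI : Fintype ↥(Subgroup.centralizer ({z} : Set G)) := Fintype.ofFinite _
  have FC := F.centralizer
  set C := Subgroup.centralizer ({z} : Set G) with hC
  set zC : ↥C := ⟨z, Frame.le_centralizer_z F.core F.core.zmem⟩ with hzC
  set XC := X.subtype fun x => x ∈ C with hXC
  haveI : Fintype ↥(Subgroup.centralizer ({zC} : Set ↥C)) := Fintype.ofFinite _
  obtain ⟨degC, TC, aC, DC, -, haC, hNC, hBC, hSC⟩ := exists_data FC hM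
    (fun x hx => F.real_centralizer hreal hx)
  have hzc : ∀ g : ↥C, Commute zC g := fun g =>
    Subtype.ext (Subgroup.mem_centralizer_singleton_iff.1 g.2).symm
  obtain ⟨sC, CC⟩ := exists_central FC hM hzc haC hNC hBC hSC
  have hcardC : Fintype.card ↥XC = X.card := by
    rw [Fintype.card_coe]; exact F.card_centralizer
  obtain ⟨x0, hx0⟩ : XC.Nonempty := by
    rw [← Finset.card_pos, ← Fintype.card_coe, hcardC]; omega
  obtain ⟨hTC, -, hlC⟩ := DC.central CC (by rw [hcardC]; exact hc) ⟨x0, hx0⟩
  rw [hcardC] at hlC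
  obtain ⟨deg, T, a, D, hdeg, -, hN, hB, -⟩ := exists_data F hM
    (fun x hx => hreal x (F.xmem x hx).1 (F.xmem x hx).2)
  -- the regular section of the centraliser is the central section of `G`
  have hcmp : sec z (principalIrr G) (principalIrr G) =
      sec (1 : ↥C) (principalIrr ↥C) (principalIrr ↥C) := by
    simp only [sec, principalIrr_apply, map_one, mul_one, secSet_one]
    congr 1
    have h := sum_secSet (u := z) (order_mem P F.core.zmem) (fun _ => (1 : ℂ)) fun _ _ => rfl
    have hC0 : (Nat.card ↥C : ℂ) ≠ 0 := Nat.cast_ne_zero.2 Nat.card_pos.ne'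
    have hG0 : (Nat.card G : ℂ) ≠ 0 := Nat.cast_ne_zero.2 Nat.card_pos.ne'
    field_simp
    linear_combination h
  have hToo : T (triv hM) (triv hM) = 0 := by
    have h1 := hB (triv hM) (triv hM)
    have h2 := hNC (triv hM) (triv hM)
    change sec z (principalIrr G) (principalIrr G) + sec z (principalIrr G) (principalIrr G) = _ at h1
    change sec (1 : ↥C) (principalIrr ↥C) (principalIrr ↥C) = _ at h2
    rw [hcmp, h2] at h1
    have h3 : 2 * matN TC aC (triv hM) (triv hM) = matB T a (triv hM) (triv hM) := by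
      rw [two_mul]; exact_mod_cast h1
    simp only [matN, matB, if_true, hTC, DC.colA_oo, D.colA_oo, Fintype.card_coe] at h3
    have hXC' : XC.card = X.card := F.card_centralizer
    omega
  obtain ⟨y0, hy0⟩ : X.Nonempty := by rw [← Finset.card_pos]; omega
  have hllb := D.main (by rw [Fintype.card_coe]; exact hc) ⟨y0, hy0⟩ hToo
    (by rw [Fintype.card_coe]; intro h; omega)
  refine ⟨?_, ?_, by rw [hllb.1]; exact hlC⟩
  · rw [card_principal F hM, hllb.1]
    omega
  · rw [card_height_zero hM (deg := fun χ => (deg χ).toNat)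
      (fun χ => by have := D.deg_pos χ; omega)
      (fun χ => by
        rw [hdeg]
        exact_mod_cast (Int.toNat_of_nonneg (D.deg_pos χ).le).symm), ← hllb.2]
    congr 1
    refine Finset.filter_congr fun χ _ => ?_
    rw [D.ne_zero_iff ⟨y0, hy0⟩ χ]
    refine not_congr ?_
    rw [← Int.natCast_dvd_natCast, Int.toNat_of_nonneg (D.deg_pos χ).le, Nat.cast_ofNat]

/-- The invariants of the principal block. -/
theorem invariants (P : Sylow 3 G) (hE : IsExtraspecial 3 ↥(P : Subgroup G))
    (h27 : Nat.card ↥(P : Subgroup G) = 27) (hexp : ∀ x ∈ (P : Subgroup G), x ^ 3 = 1)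
    (hNC : ∀ g ∈ Subgroup.normalizer ((P : Subgroup G) : Set G), ∀ z ∈ (P : Subgroup G),
      (∀ y ∈ (P : Subgroup G), z * y = y * z) → g * z = z * g)
    (hM : IsPModular 3 M) {e : ℕ}
    (he : ((P : Subgroup G) ⊔ Subgroup.centralizer ((P : Subgroup G) : Set G)).relIndex
      (Subgroup.normalizer ((P : Subgroup G) : Set G)) = e) :
    (e = 1 → Nat.card (principalBlock M G) = 11 ∧
      Nat.card {χ : IrrCharacter G // χ ∈ principalBlock M G ∧
        blockHeight 3 (principalBlock M G) (χ : G → ℂ) = 0} = 9 ∧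
      blockRank 3 (principalBlock M G) = 1) ∧
    (e = 2 → Nat.card (principalBlock M G) = 10 ∧
      Nat.card {χ : IrrCharacter G // χ ∈ principalBlock M G ∧
        blockHeight 3 (principalBlock M G) (χ : G → ℂ) = 0} = 6 ∧
      blockRank 3 (principalBlock M G) = 2) ∧
    (e = 4 → Nat.card (principalBlock M G) = 14 ∧
      Nat.card {χ : IrrCharacter G // χ ∈ principalBlock M G ∧
        blockHeight 3 (principalBlock M G) (χ : G → ℂ) = 0} = 6 ∧
      blockRank 3 (principalBlock M G) = 4) ∧
    (e = 8 → Nat.card (principalBlock M G) = 16 ∧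
      Nat.card {χ : IrrCharacter G // χ ∈ principalBlock M G ∧
        blockHeight 3 (principalBlock M G) (χ : G → ℂ) = 0} = 6 ∧
      blockRank 3 (principalBlock M G) = 5) := by
  obtain ⟨z, hz⟩ := exists_core P hE h27 hexp hNC
  obtain ⟨X, F, hX⟩ := exists_frame hz
  rw [he] at hX
  refine ⟨fun h1 => ?_, ?_, ?_, ?_⟩
  · subst h1
    exact invariants_one F hM (by omega) he
  all_goals
    intro h1
    subst h1
    obtain ⟨k1, k2, k3⟩ := invariants_even F hM
      (fun x hx hx' => hz.real_of_even (by rw [he] <;> norm_num) hx hx') (by omega)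
    refine ⟨?_, k2, ?_⟩ <;> omega

end CfsgLib.ExtraTwentySeven
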