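import Cfsg.Agent.Lib.ExtraTwentySeven.Twist
import Cfsg.Agent.Lib.Blocks.SectionNorm
import Cfsg.Agent.Lib.Blk7.RankTrace
import Cfsg.Agent.Lib.Blk7.KleinFour
import Cfsg.Agent.Lib.ThreeChars.Principal
import Cfsg.Agent.Lib.Techniques.Pairs.Section
import Cfsg.Agent.Lib.Elem16.GenChar

/-!
# Inner products of characters of the principal block over single sections
-/

set_option autoImplicit false
set_option linter.unusedSectionVars false
set_option linter.style.haveILetI false

noncomputable section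

namespace CfsgLib.ExtraTwentySeven

open Cfsg CfsgLib.Characters CfsgLib.Blocks
open scoped ComplexConjugate Classical

universe u

variable {G : Type u} [Group G] [Fintype G]

theorem ppart_order (g : G) : ∃ k : ℕ, orderOf (ppart g) = 3 ^ k := by
  obtain ⟨y, -, -, h, -⟩ := isPPart_ppart g
  exact h

theorem ppart_self {u : G} (hu : ∃ k : ℕ, orderOf u = 3 ^ k) : ppart u = u :=
  ppart_eq ⟨1, mul_one u, Commute.one_right u, hu, by rw [orderOf_one]; norm_num⟩

theorem ppart_inv (g : G) : ppart g⁻¹ = (ppart g)⁻¹ := by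
  obtain ⟨y, hy, hc, ⟨k, hk⟩, hyp⟩ := isPPart_ppart g
  refine ppart_eq ⟨y⁻¹, ?_, hc.inv_inv, ⟨k, by rwa [orderOf_inv]⟩, by rwa [orderOf_inv]⟩
  nth_rewrite 2 [← hy]
  rw [mul_inv_rev]
  exact hc.inv_inv.eq

theorem ppart_eq_one_iff {g : G} : ppart g = 1 ↔ ¬ 3 ∣ orderOf g := by
  constructor
  · intro h
    obtain ⟨y, hy, -, -, hyp⟩ := isPPart_ppart g
    rw [h, one_mul] at hy
    rwa [← hy]
  · exact fun h => ppart_eq ⟨g, one_mul g, Commute.one_left g, ⟨0, by simp⟩, h⟩

/-- The section of `u`. -/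
def secSet (u : G) : Finset G := Finset.univ.filter fun g => IsConj u (ppart g)

theorem mem_secSet {u g : G} : g ∈ secSet u ↔ IsConj u (ppart g) := by simp [secSet]

theorem secSet_one : secSet (1 : G) = Finset.univ.filter fun g : G => ¬ 3 ∣ orderOf g := by
  ext g
  simp [secSet, ← ppart_eq_one_iff, eq_comm (a := (1 : G))]

/-- Sums over a section. -/
theorem sum_secSet {u : G} (hu : ∃ k : ℕ, orderOf u = 3 ^ k)
    [Fintype ↥(Subgroup.centralizer ({u} : Set G))] (f : G → ℂ)
    (hf : ∀ a c : G, f (c * a * c⁻¹) = f a) :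
    (Nat.card ↥(Subgroup.centralizer ({u} : Set G)) : ℂ) * ∑ g ∈ secSet u, f g =
      (Nat.card G : ℂ) * ∑ c ∈ Finset.univ.filter
        (fun c : ↥(Subgroup.centralizer ({u} : Set G)) => ¬ 3 ∣ orderOf c), f (u * c) := by
  haveI : Fact (Nat.Prime 3) := ⟨Nat.prime_three⟩
  set Q := Finset.univ.filter fun y : G => Commute u y ∧ ¬ 3 ∣ orderOf y
  have h := CfsgLib.Techniques.Pairs.sum_section u hu Q (fun y => by simp [Q]) f hf
  have e1 : secSet u = Finset.univ.filter (fun g => ∃ v, IsPPart 3 g v ∧ IsConj u v) := by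
    ext g
    simp only [secSet, Finset.mem_filter, Finset.mem_univ, true_and]
    exact ⟨fun h => ⟨_, isPPart_ppart g, h⟩, fun ⟨v, hv, h⟩ => (ppart_eq hv).symm ▸ h⟩
  have h' : (Nat.card ↥(Subgroup.centralizer ({u} : Set G)) : ℂ) * ∑ g ∈ secSet u, f g =
      (Nat.card G : ℂ) * ∑ y ∈ Q, f (u * y) := by
    rw [e1]
    convert h using 4
  rw [h']
  congr 1
  symm
  refine Finset.sum_bij (fun c _ => (c : G)) (fun c hc => Finset.mem_filter.2 ⟨Finset.mem_univ _,
    commute_centralizer c, by rw [Subgroup.orderOf_coe]; exact (Finset.mem_filter.1 hc).2⟩)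
    (fun a _ b _ h => Subtype.ext h) (fun y hy => ?_) fun _ _ => rfl
  obtain ⟨-, hc, ho⟩ := Finset.mem_filter.1 hy
  exact ⟨⟨y, Subgroup.mem_centralizer_singleton_iff.2 hc.eq.symm⟩,
    Finset.mem_filter.2 ⟨Finset.mem_univ _, by rwa [← Subgroup.orderOf_coe]⟩, rfl⟩

/-- Twenty-seven times the inner product over a section. -/
def sec (u : G) (χ ψ : IrrCharacter G) : ℂ :=
  27 * ((Nat.card G : ℂ)⁻¹ * ∑ g ∈ secSet u, (χ : G → ℂ) g * conj ((ψ : G → ℂ) g))

theorem sec_conj (u : G) (χ ψ : IrrCharacter G) : conj (sec u χ ψ) = sec u ψ χ := by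
  simp only [sec, map_mul, map_inv₀, map_ofNat, Complex.conj_natCast, map_sum, Complex.conj_conj]
  exact congrArg _ (congrArg _ (Finset.sum_congr rfl fun g _ => mul_comm _ _))

theorem sec_inv (u : G) (χ ψ : IrrCharacter G) : sec u⁻¹ χ ψ = sec u ψ χ := by
  have hiff : ∀ g : G, IsConj u⁻¹ (ppart g) ↔ IsConj u (ppart g⁻¹) := fun g => by
    rw [ppart_inv]
    constructor
    · intro h
      obtain ⟨c, hc⟩ := isConj_iff.1 h
      exact isConj_iff.2 ⟨c, by rw [← hc]; group⟩
    · intro h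
      obtain ⟨c, hc⟩ := isConj_iff.1 h
      exact isConj_iff.2 ⟨c, by rw [← inv_inv (ppart g), ← hc]; group⟩
  unfold sec
  congr 2
  refine Finset.sum_nbij' (fun g => g⁻¹) (fun g => g⁻¹)
    (fun g hg => mem_secSet.2 ((hiff g).1 (mem_secSet.1 hg)))
    (fun g hg => mem_secSet.2 ((hiff g⁻¹).2 (by rw [inv_inv]; exact mem_secSet.1 hg)))
    (fun g _ => inv_inv g) (fun g _ => inv_inv g) fun g _ => ?_
  rw [irr_apply_inv, irr_apply_inv, Complex.conj_conj, mul_comm]

theorem sec_one_real (χ ψ : IrrCharacter G) : conj (sec 1 χ ψ) = sec 1 χ ψ := by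
  rw [sec_conj, ← sec_inv, inv_one]

/-- The indicator of a section is constant on sections. -/
theorem secConst_ind (u : G) :
    CfsgLib.Elem16.SecConst 3 (fun g => if IsConj u (ppart g) then (1 : ℂ) else 0) := by
  refine ⟨fun g c => ?_, fun g v hv => ?_⟩
  · have h : IsConj u (ppart (c * g * c⁻¹)) ↔ IsConj u (ppart g) := by
      rw [ppart_conj]
      exact ⟨fun h => h.trans (isConj_iff.2 ⟨c⁻¹, by group⟩), fun h => h.trans (isConj_iff.2 ⟨c, rfl⟩)⟩
    simp only [h]
  · obtain ⟨y, -, -, hv', -⟩ := id hv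
    simp only [ppart_eq hv, ppart_self hv']

theorem Mw_ind (u : G) (χ ψ : IrrCharacter G) :
    27 * CfsgLib.Elem16.Mw (fun g => if IsConj u (ppart g) then (1 : ℂ) else 0) χ ψ = sec u χ ψ := by
  rw [CfsgLib.Elem16.Mw_eq, sec, secSet, Finset.sum_filter]
  congr 2
  exact Finset.sum_congr rfl fun g _ => by split_ifs <;> simp

variable {M : Ideal AlgInt}

/-- The sections give projections. -/
theorem sum_sec_mul (hM : IsPModular 3 M) (u : G) {χ : IrrCharacter G}
    (hχ : χ ∈ principalBlock M G) (ψ : IrrCharacter G) :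
    ∑ φ ∈ Finset.univ.filter (· ∈ principalBlock M G), sec u χ φ * sec u φ ψ = 27 * sec u χ ψ := by
  haveI : Fact (Nat.Prime 3) := ⟨Nat.prime_three⟩
  set w : G → ℂ := fun g => if IsConj u (ppart g) then (1 : ℂ) else 0 with hw
  have h := CfsgLib.Elem16.Mw_mul hM (secConst_ind u) w (isPBlock_principalBlock M) hχ ψ
  have hsq : w * w = w := funext fun g => by
    simp only [hw, Pi.mul_apply]; split_ifs <;> simp
  rw [show (fun g => if IsConj u (ppart g) then (1 : ℂ) else 0) = w from rfl, hsq] at h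
  simp only [← Mw_ind]
  rw [h, Finset.mul_sum, Finset.mul_sum]
  exact Finset.sum_congr rfl fun φ _ => by ring

/-- The orthogonality of two different sections. -/
theorem sum_block_orth (hM : IsPModular 3 M) {g h : G} (hne : ¬ IsConj (ppart g) (ppart h)) :
    ∑ χ ∈ Finset.univ.filter (· ∈ principalBlock M G),
      (χ : G → ℂ) g * conj ((χ : G → ℂ) h) = 0 := by
  rw [← sum_block_eq_zero_of_not_isConj hM (isPBlock_principalBlock M) (isPPart_ppart g)
    (isPPart_ppart h) hne]
  exact Finset.sum_congr rfl fun χ _ => by rw [irr_apply_inv]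

/-- The diagonal over a section adds up to the rank of the principal block of the centraliser. -/
theorem trace_sec (hM : IsPModular 3 M) {u : G} (hu : ∃ k : ℕ, orderOf u = 3 ^ k)
    [Fintype ↥(Subgroup.centralizer ({u} : Set G))] :
    ∑ χ ∈ Finset.univ.filter (· ∈ principalBlock M G), sec u χ χ =
      27 * (blockRank 3 (principalBlock M ↥(Subgroup.centralizer ({u} : Set G))) : ℂ) := by
  haveI : Fact (Nat.Prime 3) := ⟨Nat.prime_three⟩
  set C := Subgroup.centralizer ({u} : Set G) with hC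
  simp only [sec, ← Finset.mul_sum]
  congr 1
  rw [Finset.sum_comm]
  have h1 := sum_secSet hu (fun g => ∑ χ ∈ Finset.univ.filter (· ∈ principalBlock M G),
    (χ : G → ℂ) g * conj ((χ : G → ℂ) g)) fun a c => by
      exact Finset.sum_congr rfl fun χ _ => by rw [irr_isClassFunction χ a c]
  have h2 : ∑ c ∈ Finset.univ.filter (fun c : C => ¬ 3 ∣ orderOf c),
      ∑ χ ∈ Finset.univ.filter (· ∈ principalBlock M G),
        (χ : G → ℂ) (u * c) * conj ((χ : G → ℂ) (u * c)) =
      (Nat.card C : ℂ) * (blockRank 3 (principalBlock M C) : ℂ) := by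
    rw [Blk7.card_mul_blockRank hM (isPBlock_principalBlock M), Finset.sum_filter]
    refine Finset.sum_congr rfl fun c _ => ?_
    by_cases hc : ¬ 3 ∣ orderOf c
    · rw [if_pos hc]
      have h3 := principal_section_norm (y := c) hM hu hc
      have h4 := congrArg (fun r : ℝ => (r : ℂ)) h3
      simp only [Complex.ofReal_sum, Complex.ofReal_pow] at h4
      simp only [Complex.mul_conj']
      rw [h4]
      refine Finset.sum_congr rfl fun ξ _ => ?_
      rw [Blk7.pRegularPart_apply, if_pos (show IsPRegular 3 c from hc), Complex.mul_conj']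
    · rw [if_neg hc]
      exact (Finset.sum_eq_zero fun ξ _ => by
        rw [Blk7.pRegularPart_apply, if_neg (show ¬ IsPRegular 3 c from hc), zero_mul]).symm
  rw [h2] at h1
  have hC0 : (Nat.card C : ℂ) ≠ 0 := Nat.cast_ne_zero.2 Nat.card_pos.ne'
  have hG0 : (Nat.card G : ℂ) ≠ 0 := Nat.cast_ne_zero.2 Nat.card_pos.ne'
  rw [eq_comm, eq_inv_mul_iff_mul_eq₀ hG0]
  refine mul_left_cancel₀ hC0 ?_
  rw [h1]
  ring

theorem trace_sec_one (hM : IsPModular 3 M) :
    ∑ χ ∈ Finset.univ.filter (· ∈ principalBlock M G), sec 1 χ χ =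
      27 * (blockRank 3 (principalBlock M G) : ℂ) := by
  haveI : Fact (Nat.Prime 3) := ⟨Nat.prime_three⟩
  simp only [sec, ← Finset.mul_sum]
  congr 1
  have hG0 : (Nat.card G : ℂ) ≠ 0 := Nat.cast_ne_zero.2 Nat.card_pos.ne'
  rw [inv_mul_eq_iff_eq_mul₀ hG0, Blk7.card_mul_blockRank hM (isPBlock_principalBlock M),
    secSet_one, Finset.sum_comm, Finset.sum_filter]
  refine Finset.sum_congr rfl fun g _ => ?_
  by_cases hg : ¬ 3 ∣ orderOf g
  · rw [if_pos hg]
    exact Finset.sum_congr rfl fun χ _ => by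
      rw [Blk7.pRegularPart_apply, if_pos (show IsPRegular 3 g from hg)]
  · rw [if_neg hg]
    exact (Finset.sum_eq_zero fun χ _ => by
      rw [Blk7.pRegularPart_apply, if_neg (show ¬ IsPRegular 3 g from hg), zero_mul]).symm

variable {P : Sylow 3 G} {z : G} {X : Finset G}

/-- Exactly one of the sections of `1`, `z`, `z ^ 2` and of `X` contains a given element. -/
theorem indicator_sum (F : Frame P z X) (g : G) :
    (if IsConj 1 (ppart g) then (1 : ℂ) else 0) + (if IsConj z (ppart g) then 1 else 0) +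
      (if IsConj (z ^ 2) (ppart g) then 1 else 0) +
      ∑ x ∈ X, (if IsConj x (ppart g) then 1 else 0) = 1 := by
  obtain ⟨a, ha⟩ := exists_conj_mem P (ppart_order g)
  set v := a * ppart g * a⁻¹ with hv
  have hg : ∀ t : G, IsConj t (ppart g) ↔ IsConj t v := fun t =>
    ⟨fun h => h.trans (isConj_iff.2 ⟨a, rfl⟩),
      fun h => h.trans (isConj_iff.2 ⟨a, rfl⟩).symm⟩
  simp only [hg]
  have hc : ∀ i ≤ 2, ∀ t ∈ (P : Subgroup G), IsConj (z ^ i) t → t = z ^ i := by
    intro i hi t ht h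
    obtain ⟨c, rfl⟩ := isConj_iff.1 h
    interval_cases i
    · simp
    · rw [pow_one] at ht ⊢; exact F.core.zfusion ht
    · rw [← F.core.inv_z] at ht ⊢
      have h' : c * z * c⁻¹ ∈ (P : Subgroup G) := by
        have := inv_mem ht
        rwa [show (c * z⁻¹ * c⁻¹)⁻¹ = c * z * c⁻¹ by group] at this
      rw [show c * z⁻¹ * c⁻¹ = (c * z * c⁻¹)⁻¹ by group, F.core.zfusion h']
  have hxne : ∀ x ∈ X, ∀ i ≤ 2, ¬ IsConj x (z ^ i) := fun x hx i hi h =>
    (F.xmem x hx).2 (by rw [hc i hi x (F.xmem x hx).1 h.symm]; exact Subgroup.npow_mem_zpowers z i)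
  by_cases hvZ : v ∈ Subgroup.zpowers z
  · obtain ⟨i, hi2, hi⟩ : ∃ i ≤ 2, v = z ^ i := by
      rcases F.core.mem_z.1 hvZ with h | h | h
      · exact ⟨0, by norm_num, by rw [h, pow_zero]⟩
      · exact ⟨1, by norm_num, by rw [h, pow_one]⟩
      · exact ⟨2, le_rfl, h⟩
    rw [Finset.sum_eq_zero fun x hx => if_neg (fun h => hxne x hx i hi2 (hi ▸ h)), add_zero]
    have hiff : ∀ j ≤ 2, (IsConj (z ^ j) v ↔ j = i) := fun j hj => by
      refine ⟨fun h => ?_, fun e => e ▸ hi ▸ IsConj.refl _⟩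
      have h' := hc j hj v (hi ▸ pow_mem F.core.zmem i) h
      rw [hi] at h'
      exact (pow_injOn_Iio_orderOf (show i ∈ Set.Iio (orderOf z) by
        rw [F.core.order_z]; exact Nat.lt_succ_of_le hi2)
        (show j ∈ Set.Iio (orderOf z) by rw [F.core.order_z]; exact Nat.lt_succ_of_le hj) h').symm
    have h0 := hiff 0 (by norm_num)
    have h1 := hiff 1 (by norm_num)
    have h2 := hiff 2 le_rfl
    rw [pow_zero] at h0
    rw [pow_one] at h1
    simp only [h0, h1, h2]
    interval_cases i <;> simp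
  · have hn : ∀ i ≤ 2, ¬ IsConj (z ^ i) v := fun i hi h =>
      hvZ (by rw [hc i hi v ha h]; exact Subgroup.npow_mem_zpowers z i)
    have h0 := hn 0 (by norm_num)
    have h1 := hn 1 (by norm_num)
    rw [pow_zero] at h0
    rw [pow_one] at h1
    rw [if_neg h0, if_neg h1, if_neg (hn 2 le_rfl), zero_add, zero_add, zero_add]
    obtain ⟨r, hr, hvr⟩ := F.xex v ha hvZ
    rw [Finset.sum_eq_single r (fun x hx hne => if_neg fun h => hne
      (F.xinj x hx r hr (h.trans hvr))) (fun h => absurd hr h), if_pos hvr.symm]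

theorem tw_eq_indicator (F : Frame P z X) (g : G) :
    tw z g = (if IsConj 1 (ppart g) then (1 : ℂ) else 0) +
      omega3 * (if IsConj z (ppart g) then 1 else 0) +
      omega3 ^ 2 * (if IsConj (z ^ 2) (ppart g) then 1 else 0) := by
  have h1 : IsConj 1 (ppart g) ↔ ppart g = 1 := isConj_one_right
  have hzne : ∀ t : G, t ≠ 1 → IsConj t (ppart g) → ppart g ≠ 1 := fun t ht h e =>
    ht (isConj_one_left.1 (e ▸ h))
  simp only [tw, h1]
  by_cases e1 : ppart g = 1
  · rw [if_pos e1, if_pos e1, if_neg fun h => hzne z F.core.zne h e1,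
      if_neg fun h => hzne _ F.core.z_sq_ne_one h e1]
    ring
  rw [if_neg e1, if_neg e1]
  by_cases e2 : IsConj z (ppart g)
  · rw [if_pos e2, if_pos e2, if_neg fun h => ?_]
    · ring
    · obtain ⟨c, hc⟩ := isConj_iff.1 (e2.trans h.symm)
      refine F.core.z_sq_ne ?_
      rw [← hc]
      exact F.core.zfusion (hc ▸ pow_mem F.core.zmem 2)
  rw [if_neg e2, if_neg e2]
  split_ifs <;> ring

theorem tw_zero_iff (F : Frame P z X) {g : G} (h : tw z g = 0) :
    ∃ x ∈ X, IsConj x (ppart g) := by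
  obtain ⟨a, ha⟩ := exists_conj_mem P (ppart_order g)
  by_cases hv : a * ppart g * a⁻¹ ∈ Subgroup.zpowers z
  · obtain ⟨i, hi⟩ := (mem_powers_iff_mem_zpowers (x := z)).2 hv
    rw [tw_eq F.core (a := a) (i := i) hi.symm] at h
    exact absurd h (pow_ne_zero i omega3_ne_zero)
  · obtain ⟨r, hr, hvr⟩ := F.xex _ ha hv
    exact ⟨r, hr, ((isConj_iff.2 ⟨a, rfl⟩).trans hvr).symm⟩

/-- The sections exhaust the group. -/
theorem sum_sec (F : Frame P z X) (χ ψ : IrrCharacter G) :
    sec 1 χ ψ + sec z χ ψ + sec (z ^ 2) χ ψ + ∑ x ∈ X, sec x χ ψ =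
      if χ = ψ then 27 else 0 := by
  have h : (27 : ℂ) * classInner (χ : G → ℂ) (ψ : G → ℂ) = if χ = ψ then 27 else 0 := by
    rw [classInner_irr]; split_ifs <;> simp
  rw [← h, classInner]
  simp only [sec, ← Finset.mul_sum, ← mul_add]
  congr 2
  simp only [secSet, Finset.sum_filter]
  rw [Finset.sum_comm, ← Finset.sum_add_distrib, ← Finset.sum_add_distrib, ← Finset.sum_add_distrib]
  refine Finset.sum_congr rfl fun g _ => ?_
  have := indicator_sum F g
  have h' := congrArg (· * ((χ : G → ℂ) g * conj ((ψ : G → ℂ) g))) this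
  simpa only [add_mul, Finset.sum_mul, ite_mul, one_mul, zero_mul] using h'

theorem order_mem (P : Sylow 3 G) {x : G} (hx : x ∈ (P : Subgroup G)) :
    ∃ k : ℕ, orderOf x = 3 ^ k := by
  haveI : Fact (Nat.Prime 3) := ⟨Nat.prime_three⟩
  obtain ⟨k, hk⟩ := IsPGroup.iff_orderOf.1 P.2 ⟨x, hx⟩
  exact ⟨k, by rwa [Subgroup.orderOf_mk] at hk⟩

/-- Members of the principal block are constant on the noncentral sections. -/
theorem apply_noncentral (F : Core P z) (hM : IsPModular 3 M) {x : G} (hx : x ∈ (P : Subgroup G))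
    (hx' : x ∉ Subgroup.zpowers z) {χ : IrrCharacter G} (hχ : χ ∈ principalBlock M G) {g : G}
    (hg : IsConj x (ppart g)) : (χ : G → ℂ) g = (χ : G → ℂ) x := by
  haveI : Fact (Nat.Prime 3) := ⟨Nat.prime_three⟩
  obtain ⟨c, hc⟩ := isConj_iff.1 hg.symm
  obtain ⟨y, hy, hcy, -, hyp⟩ := isPPart_ppart g
  obtain ⟨R, hRn, hR, -, hreg⟩ := F.exists_complement hx hx'
  haveI := hRn
  have hmem : c * y * c⁻¹ ∈ Subgroup.centralizer ({x} : Set G) := by
    rw [Subgroup.mem_centralizer_singleton_iff, ← hc]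
    exact (hcy.map (MulAut.conj c).toMonoidHom).symm.eq
  have hv : (⟨_, hmem⟩ : ↥(Subgroup.centralizer ({x} : Set G))) ∈ R := by
    refine hreg _ ?_
    rw [← Subgroup.orderOf_coe]
    show ¬ 3 ∣ orderOf (MulAut.conj c y)
    rwa [MulEquiv.orderOf_eq]
  rw [← principal_apply_mul hM (order_mem P hx) hR hv hχ]
  refine classFunction_eq_of_isConj (irr_isClassFunction χ) (isConj_iff.2 ⟨c, ?_⟩)
  nth_rewrite 1 [← hy]
  show c * (ppart g * y) * c⁻¹ = x * (c * y * c⁻¹)
  rw [← hc]
  group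

theorem centralizer_rank (F : Core P z) (hM : IsPModular 3 M) {x : G} (hx : x ∈ (P : Subgroup G))
    (hx' : x ∉ Subgroup.zpowers z) [Fintype ↥(Subgroup.centralizer ({x} : Set G))] :
    blockRank 3 (principalBlock M ↥(Subgroup.centralizer ({x} : Set G))) = 1 := by
  haveI : Fact (Nat.Prime 3) := ⟨Nat.prime_three⟩
  obtain ⟨R, hRn, hR, -, hreg⟩ := F.exists_complement hx hx'
  haveI := hRn
  exact Blk7.blockRank_principal_of_complement hM hR hreg

theorem secSet_card (F : Core P z) {x : G} (hx : x ∈ (P : Subgroup G))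
    (hx' : x ∉ Subgroup.zpowers z) : 9 * ((secSet x).card : ℂ) = Nat.card G := by
  haveI : Fact (Nat.Prime 3) := ⟨Nat.prime_three⟩
  haveI : Fintype ↥(Subgroup.centralizer ({x} : Set G)) := Fintype.ofFinite _
  obtain ⟨R, hRn, hR, hidx, hreg⟩ := F.exists_complement hx hx'
  have h := sum_secSet (order_mem P hx) (fun _ => (1 : ℂ)) fun _ _ => rfl
  have hQ : (Finset.univ.filter fun c : ↥(Subgroup.centralizer ({x} : Set G)) =>
      ¬ 3 ∣ orderOf c).card = Nat.card R := by
    rw [Nat.card_eq_fintype_card, Fintype.card_subtype]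
    congr 1
    ext c
    simp only [Finset.mem_filter, Finset.mem_univ, true_and]
    exact ⟨hreg c, fun hc hd => hR (hd.trans (Subgroup.orderOf_dvd_natCard R hc))⟩
  have hcard : Nat.card ↥(Subgroup.centralizer ({x} : Set G)) = Nat.card R * 9 := by rw [← R.card_mul_index, hidx]
  rw [Finset.sum_const, Finset.sum_const, hQ, hcard] at h
  simp only [nsmul_eq_mul, mul_one, Nat.cast_mul, Nat.cast_ofNat] at h
  have hR0 : (Nat.card R : ℂ) ≠ 0 := Nat.cast_ne_zero.2 Nat.card_pos.ne'
  refine mul_left_cancel₀ hR0 ?_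
  linear_combination h

theorem sec_noncentral (F : Core P z) (hM : IsPModular 3 M) {x : G} (hx : x ∈ (P : Subgroup G))
    (hx' : x ∉ Subgroup.zpowers z) {χ ψ : IrrCharacter G} (hχ : χ ∈ principalBlock M G)
    (hψ : ψ ∈ principalBlock M G) :
    sec x χ ψ = 3 * ((χ : G → ℂ) x * conj ((ψ : G → ℂ) x)) := by
  rw [sec, Finset.sum_congr rfl fun g hg => by
    rw [apply_noncentral F hM hx hx' hχ (mem_secSet.1 hg),
      apply_noncentral F hM hx hx' hψ (mem_secSet.1 hg)], Finset.sum_const, nsmul_eq_mul]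
  have hG0 : (Nat.card G : ℂ) ≠ 0 := Nat.cast_ne_zero.2 Nat.card_pos.ne'
  field_simp
  linear_combination (3 * (χ : G → ℂ) x * conj ((ψ : G → ℂ) x)) * secSet_card F hx hx'

/-- The number of characters in the principal block. -/
theorem card_principal (F : Frame P z X) (hM : IsPModular 3 M)
    [Fintype ↥(Subgroup.centralizer ({z} : Set G))] :
    Nat.card (principalBlock M G) = blockRank 3 (principalBlock M G) +
      2 * blockRank 3 (principalBlock M ↥(Subgroup.centralizer ({z} : Set G))) + X.card := by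
  have h := Finset.sum_congr rfl fun χ (_ : χ ∈ Finset.univ.filter (· ∈ principalBlock M G)) =>
    sum_sec F χ χ
  simp only [if_true, Finset.sum_add_distrib, Finset.sum_const, nsmul_eq_mul] at h
  rw [trace_sec_one hM, trace_sec hM (order_mem P F.core.zmem), Finset.sum_comm] at h
  have hz2 : ∀ χ : IrrCharacter G, sec (z ^ 2) χ χ = sec z χ χ := fun χ => by
    rw [← F.core.inv_z, sec_inv]
  rw [Finset.sum_congr rfl fun χ _ => hz2 χ, trace_sec hM (order_mem P F.core.zmem),
    Finset.sum_congr rfl fun x hx => by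
      haveI : Fintype ↥(Subgroup.centralizer ({x} : Set G)) := Fintype.ofFinite _
      rw [trace_sec hM (order_mem P (F.xmem x hx).1),
        centralizer_rank F.core hM (F.xmem x hx).1 (F.xmem x hx).2, Nat.cast_one, mul_one],
    Finset.sum_const, nsmul_eq_mul] at h
  rw [Nat.card_eq_fintype_card, Fintype.card_subtype]
  have h' : (((blockRank 3 (principalBlock M G) +
      2 * blockRank 3 (principalBlock M ↥(Subgroup.centralizer ({z} : Set G))) + X.card) * 27 : ℕ) : ℂ) =
      (((Finset.univ.filter fun χ : IrrCharacter G => χ ∈ principalBlock M G).card * 27 : ℕ) : ℂ) := by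
    push_cast
    linear_combination h
  have h'' := Nat.cast_inj.1 h'
  omega

end CfsgLib.ExtraTwentySeven
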