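import Cfsg.Agent.Lib.ExtraTwentySeven.Frame
import Cfsg.Agent.Lib.Characters.BrauerInduction
import Cfsg.Agent.Lib.Characters.Induction
import Cfsg.Agent.Lib.Characters.Generalized
import Cfsg.Agent.Lib.Characters.Galois
import Cfsg.Agent.Lib.Involutions.ElementaryOdd
import Cfsg.Agent.Lib.PCore.Basic

/-!
# The twist by the central section

The class function which is `ω ^ i` on the section of `z ^ i` and `0` on the other sections:
three times it is a generalised character, and so is its product with `f * conj f` for every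
generalised character `f` vanishing on the noncentral sections.
-/

set_option autoImplicit false
set_option linter.unusedSectionVars false
set_option linter.style.haveILetI false
set_option linter.unusedVariables false

noncomputable section

namespace CfsgLib.ExtraTwentySeven

open Subgroup Cfsg CfsgLib.Characters CfsgLib.Blocks
open scoped ComplexConjugate Classical

universe u

/-- A cube root of unity. -/
def omega3 : ℂ := Complex.exp (2 * Real.pi * Complex.I / (3 : ℕ))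

theorem omega3_primitive : IsPrimitiveRoot omega3 3 :=
  Complex.isPrimitiveRoot_exp 3 (by norm_num)

theorem omega3_cube : omega3 ^ 3 = 1 := omega3_primitive.pow_eq_one

theorem omega3_ne : omega3 ≠ 1 := omega3_primitive.ne_one (by norm_num)

theorem omega3_ne_zero : omega3 ≠ 0 := omega3_primitive.ne_zero (by norm_num)

theorem omega3_sum : 1 + omega3 + omega3 ^ 2 = 0 := by
  have h : (omega3 - 1) * (1 + omega3 + omega3 ^ 2) = 0 := by
    linear_combination omega3_cube
  exact (mul_eq_zero.1 h).resolve_left (sub_ne_zero.2 omega3_ne)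

theorem conj_omega3 : conj omega3 = omega3 ^ 2 := by
  have hn : ‖omega3‖ = 1 := Complex.norm_eq_one_of_pow_eq_one omega3_cube (by norm_num)
  have h : omega3 * conj omega3 = 1 := by rw [Complex.mul_conj']; simp [hn]
  refine mul_left_cancel₀ omega3_ne_zero ?_
  rw [h, ← pow_succ', omega3_cube]

variable {G : Type u} [Group G] [Fintype G] {P : Sylow 3 G} {z : G}

/-- The 3-part. -/
def ppart (g : G) : G := (exists_isPPart Nat.prime_three g).choose

theorem isPPart_ppart (g : G) : IsPPart 3 g (ppart g) :=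
  (exists_isPPart Nat.prime_three g).choose_spec

theorem ppart_eq {g u : G} (h : IsPPart 3 g u) : ppart g = u :=
  IsPPart.unique Nat.prime_three (isPPart_ppart g) h

theorem ppart_conj (c g : G) : ppart (c * g * c⁻¹) = c * ppart g * c⁻¹ :=
  ppart_eq (IsPPart.conj (isPPart_ppart g) c)

/-- The twist. -/
def tw (z g : G) : ℂ :=
  if ppart g = 1 then 1 else if IsConj z (ppart g) then omega3
  else if IsConj (z ^ 2) (ppart g) then omega3 ^ 2 else 0

theorem tw_classFunction : IsClassFunction G (tw z) := fun g c => by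
  have h : ∀ a : G, IsConj a (c * ppart g * c⁻¹) ↔ IsConj a (ppart g) := fun a =>
    ⟨fun h => h.trans (isConj_iff.2 ⟨c⁻¹, by group⟩), fun h => h.trans (isConj_iff.2 ⟨c, rfl⟩)⟩
  simp only [tw, ppart_conj, conj_eq_one_iff, h]

theorem exists_conj_mem (P : Sylow 3 G) {u : G} (hu : ∃ k : ℕ, orderOf u = 3 ^ k) :
    ∃ a : G, a * u * a⁻¹ ∈ (P : Subgroup G) := by
  haveI : Fact (Nat.Prime 3) := ⟨Nat.prime_three⟩
  obtain ⟨k, hk⟩ := hu
  obtain ⟨S, hS⟩ := (IsPGroup.of_card (n := k) (G := zpowers u)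
    (by rw [Nat.card_zpowers, hk])).exists_le_sylow
  obtain ⟨a, ha⟩ := MulAction.exists_smul_eq G S P
  refine ⟨a, ?_⟩
  rw [← ha, Sylow.coe_subgroup_smul]
  exact smul_mem_pointwise_smul _ (MulAut.conj a) _ (hS (mem_zpowers u))

theorem tw_eq (F : Core P z) {g a : G} {i : ℕ} (h : a * ppart g * a⁻¹ = z ^ i) :
    tw z g = omega3 ^ i := by
  have h3 : z ^ i = z ^ (i % 3) := by rw [← pow_mod_orderOf z i, F.order_z]
  have hw : omega3 ^ i = omega3 ^ (i % 3) := by
    nth_rewrite 1 [← Nat.mod_add_div i 3]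
    rw [pow_add, pow_mul, omega3_cube, one_pow, mul_one]
  rw [hw]
  rw [h3] at h
  have hlt : i % 3 < 3 := Nat.mod_lt _ (by norm_num)
  have hne : ∀ {j : ℕ}, z ^ j ≠ 1 → a * ppart g * a⁻¹ = z ^ j → ppart g ≠ 1 := fun hj e e1 =>
    hj (by rw [← e, e1]; group)
  interval_cases hi : i % 3
  · rw [pow_zero] at h ⊢
    rw [tw, if_pos (conj_eq_one_iff.1 h)]
  · rw [tw, if_neg (hne (by rw [pow_one]; exact F.zne) h),
      if_pos (show IsConj z (ppart g) from (isConj_iff.2 ⟨a, by rw [h, pow_one]⟩).symm), pow_one]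
  · have hz : ¬ IsConj z (ppart g) := fun hc => by
      obtain ⟨b, hb⟩ := isConj_iff.1 (hc.trans (isConj_iff.2 ⟨a, h⟩))
      refine F.z_sq_ne ?_
      rw [← hb]
      exact F.zfusion (hb ▸ pow_mem F.zmem 2)
    rw [tw, if_neg (hne F.z_sq_ne_one h), if_neg hz,
      if_pos (show IsConj (z ^ 2) (ppart g) from (isConj_iff.2 ⟨a, h⟩).symm)]

theorem tw_eq_zero (F : Core P z) {g a : G} (hP : a * ppart g * a⁻¹ ∈ (P : Subgroup G))
    (hZ : a * ppart g * a⁻¹ ∉ zpowers z) : tw z g = 0 := by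
  set x := a * ppart g * a⁻¹ with hx
  have h1 : ppart g ≠ 1 := fun e => hZ (by rw [hx, e]; simp)
  have hfus : ∀ i : ℕ, i = 1 ∨ i = 2 → ¬ IsConj (z ^ i) (ppart g) := by
    intro i hi hc
    obtain ⟨b, hb⟩ := isConj_iff.1 (hc.trans (isConj_iff.2 ⟨a, hx.symm⟩))
    refine hZ ?_
    rw [← hb]
    rcases hi with rfl | rfl
    · rw [pow_one] at hb ⊢
      rw [F.zfusion (hb ▸ hP)]
      exact mem_zpowers z
    · rw [← F.inv_z] at hb ⊢
      have h' : b * z * b⁻¹ ∈ (P : Subgroup G) := by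
        have := inv_mem (hb ▸ hP : b * z⁻¹ * b⁻¹ ∈ (P : Subgroup G))
        rwa [show (b * z⁻¹ * b⁻¹)⁻¹ = b * z * b⁻¹ by group] at this
      rw [show b * z⁻¹ * b⁻¹ = (b * z * b⁻¹)⁻¹ by group, F.zfusion h']
      exact inv_mem (mem_zpowers z)
  rw [tw, if_neg h1, if_neg (by simpa using hfus 1 (Or.inl rfl)), if_neg (hfus 2 (Or.inr rfl))]

/-! ### Nilpotent groups -/

theorem isGeneralizedCharacter_comp {H K : Type u} [Group H] [Group K] {f : H → ℂ}
    (hf : IsGeneralizedCharacter H f) (φ : K →* H) : IsGeneralizedCharacter K (fun k => f (φ k)) := by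
  obtain ⟨a, b, ha, hb, rfl⟩ := hf
  exact ⟨_, _, CfsgLib.CharGalois.isCharacter_comp ha φ, CfsgLib.CharGalois.isCharacter_comp hb φ, rfl⟩

/-- Divisibility by three from vanishing on the nontrivial cosets of a direct factor of order three. -/
theorem three_dvd_inner {H : Type u} [Group H] {A L : Type u} [Group A] [Fintype A] [Group L]
    [Fintype L] (hA : Nat.card A = 3) (ι : A × L →* H) {f : H → ℂ}
    (hf : IsGeneralizedCharacter H f) {ψ : L → ℂ} (hψ : IsGeneralizedCharacter L ψ)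
    (h : ∀ t : A, t ≠ 1 → ∑ l : L, f (ι (t, l)) * conj (ψ l) = 0) :
    ∃ m : ℤ, classInner (fun l => f (ι (1, l))) ψ = ((3 * m : ℤ) : ℂ) := by
  obtain ⟨m, hm⟩ := classInner_generalized_int (isGeneralizedCharacter_comp hf ι)
    (isGeneralizedCharacter_comp hψ (MonoidHom.snd A L))
  refine ⟨m, ?_⟩
  push_cast
  rw [← hm]
  simp only [classInner, MonoidHom.coe_snd, Nat.card_prod, hA, Fintype.sum_prod_type]
  rw [Finset.sum_eq_single (1 : A) (fun t _ ht => h t ht) (by simp)]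
  push_cast
  have hL : (Nat.card L : ℂ) ≠ 0 := Nat.cast_ne_zero.2 Nat.card_pos.ne'
  field_simp

/-- The two halves of an elementary group. -/
theorem exists_split {E : Type u} [Group E] [Finite E] [Group.IsNilpotent E] :
    ∃ (Q R : Subgroup E), IsPGroup 3 Q ∧ ¬ 3 ∣ Nat.card R ∧
      (∀ q ∈ Q, ∀ r ∈ R, Commute q r) ∧ ∀ e : E, ∃ q ∈ Q, ∃ r ∈ R, e = q * r := by
  haveI : Fact (Nat.Prime 3) := ⟨Nat.prime_three⟩
  obtain ⟨Q⟩ : Nonempty (Sylow 3 E) := inferInstance
  set R := pPrimeCore 3 E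
  haveI : R.Normal := pPrimeCore_normal 3 E
  haveI hQn : (Q : Subgroup E).Normal :=
    Sylow.normal_of_normalizerCondition Group.normalizerCondition_of_isNilpotent Q
  have hR : ¬ 3 ∣ Nat.card R := CfsgLib.PCore.not_dvd_card_pPrimeCore
  have hidx : ∃ k : ℕ, R.index = 3 ^ k := by
    refine ⟨R.index.primeFactorsList.length, ?_⟩
    refine Nat.eq_prime_pow_of_unique_prime_dvd Subgroup.index_ne_zero_of_finite
      fun {q} hq hdvd => ?_
    by_contra hne
    haveI := Fact.mk hq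
    obtain ⟨S⟩ : Nonempty (Sylow q E) := inferInstance
    have hSn : (S : Subgroup E).Normal :=
      Sylow.normal_of_normalizerCondition Group.normalizerCondition_of_isNilpotent S
    have hSle : (S : Subgroup E) ≤ R := by
      refine CfsgLib.PCore.le_pPrimeCore_of_not_dvd hSn fun h2 => ?_
      obtain ⟨j, hj⟩ := IsPGroup.iff_card.mp S.isPGroup'
      rw [hj] at h2
      exact hne ((Nat.prime_dvd_prime_iff_eq Nat.prime_three hq).mp
        (Nat.prime_three.dvd_of_dvd_pow h2)).symm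
    exact S.not_dvd_index (hdvd.trans (Subgroup.index_dvd_of_le hSle))
  obtain ⟨k, hk⟩ := hidx
  have hsup : (Q : Subgroup E) ⊔ R = ⊤ :=
    CfsgLib.Transfer.sylow_sup_eq_top Q R (IsPGroup.of_card (n := k) hk)
  refine ⟨Q, R, Q.2, hR, fun q hq r hr => ?_, fun e => ?_⟩
  · refine commute_of_normal_of_disjoint _ _ hQn inferInstance
      (Subgroup.disjoint_def.2 fun {x} hx hx' => ?_) q r hq hr
    obtain ⟨j, hj⟩ := IsPGroup.iff_orderOf.1 Q.2 ⟨x, hx⟩
    rw [Subgroup.orderOf_mk] at hj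
    exact orderOf_eq_one_iff.1 (Nat.eq_one_of_dvd_coprimes
      ((Nat.prime_three.coprime_iff_not_dvd.2 hR).pow_left j) hj.dvd
      (Subgroup.orderOf_dvd_natCard R hx'))
  · obtain ⟨q, hq, r, hr, h⟩ := Subgroup.mem_sup_of_normal_right.1 (hsup ▸ Subgroup.mem_top e :
      e ∈ (Q : Subgroup E) ⊔ R)
    exact ⟨q, hq, r, hr, h.symm⟩

/-- The shape of an elementary subgroup relative to `z`. -/
structure Slice (P : Sylow 3 G) (z : G) (E : Subgroup G) [Fintype E] where
  Q : Subgroup E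
  R : Subgroup E
  a : G
  isP : IsPGroup 3 Q
  ndvd : ¬ 3 ∣ Nat.card R
  comm : ∀ q ∈ Q, ∀ r ∈ R, Commute q r
  split : ∀ e : E, ∃ q ∈ Q, ∃ r ∈ R, e = q * r
  maps : ∀ q ∈ Q, a * (q : G) * a⁻¹ ∈ (P : Subgroup G)

theorem exists_slice (P : Sylow 3 G) (z : G) (E : Subgroup G) [Fintype E] {p : ℕ} (hp : p.Prime)
    (hE : IsElementary p E) : Nonempty (Slice P z E) := by
  haveI := CfsgLib.Involutions.isNilpotent_of_isElementary hp hE
  obtain ⟨Q, R, hQ, hR, hc, hs⟩ := exists_split (E := E)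
  obtain ⟨S, hS⟩ := (hQ.map E.subtype).exists_le_sylow
  obtain ⟨a, ha⟩ := MulAction.exists_smul_eq G S P
  refine ⟨⟨Q, R, a, hQ, hR, hc, hs, fun q hq => ?_⟩⟩
  rw [← ha, Sylow.coe_subgroup_smul]
  exact smul_mem_pointwise_smul _ (MulAut.conj a) _ (hS ⟨q, hq, rfl⟩)

namespace Slice

variable {E : Subgroup G} [Fintype E] (s : Slice P z E)

/-- The part of `Q` over the centre. -/
def Q0 : Subgroup E := s.Q ⊓ (zpowers z).comap ((MulAut.conj s.a).toMonoidHom.comp E.subtype)

theorem mem_Q0 {q : E} : q ∈ s.Q0 ↔ q ∈ s.Q ∧ s.a * (q : G) * s.a⁻¹ ∈ zpowers z := Iff.rfl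

/-- The part over the centre, as a product. -/
def κ : (↥s.Q0 × ↥s.R) →* E :=
  MonoidHom.noncommCoprod s.Q0.subtype s.R.subtype fun q r => s.comm q q.2.1 r r.2

theorem κ_apply (q : ↥s.Q0) (r : ↥s.R) : s.κ (q, r) = (q : E) * r := rfl

theorem ppart_eq_fst {q : E} (hq : q ∈ s.Q) {r : E} (hr : r ∈ s.R) :
    ppart ((q * r : E) : G) = (q : G) := by
  refine ppart_eq ?_
  rw [Subgroup.coe_mul]
  refine isPPart_mul (congrArg Subtype.val (s.comm q hq r hr).eq) ?_ ?_
  · obtain ⟨k, hk⟩ := IsPGroup.iff_orderOf.1 s.isP ⟨q, hq⟩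
    exact ⟨k, by rw [Subgroup.orderOf_coe, ← hk, Subgroup.orderOf_mk q hq]⟩
  · rw [Subgroup.orderOf_coe]
    exact fun h => s.ndvd (h.trans (Subgroup.orderOf_dvd_natCard _ hr))

theorem eq_of_mul_eq {q q' r r' : E} (hq : q ∈ s.Q) (hq' : q' ∈ s.Q) (hr : r ∈ s.R)
    (hr' : r' ∈ s.R) (h : q * r = q' * r') : q = q' ∧ r = r' := by
  have h1 : q = q' := by
    apply Subtype.ext
    rw [← s.ppart_eq_fst hq hr, h, s.ppart_eq_fst hq' hr']
  exact ⟨h1, mul_left_cancel (h1 ▸ h)⟩

theorem card_eq : Nat.card E = Nat.card s.Q * Nat.card s.R := by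
  rw [← Nat.card_prod]
  refine (Nat.card_eq_of_bijective (fun p : ↥s.Q × ↥s.R => (p.1 : E) * p.2) ⟨?_, ?_⟩).symm
  · rintro ⟨q, r⟩ ⟨q', r'⟩ h
    obtain ⟨h1, h2⟩ := s.eq_of_mul_eq q.2 q'.2 r.2 r'.2 h
    exact Prod.ext (Subtype.ext h1) (Subtype.ext h2)
  · intro e
    obtain ⟨q, hq, r, hr, h⟩ := s.split e
    exact ⟨(⟨q, hq⟩, ⟨r, hr⟩), h.symm⟩

theorem tw_zero (F : Core P z) {q r : E} (hq : q ∈ s.Q) (hq0 : q ∉ s.Q0) (hr : r ∈ s.R) :
    tw z ((q * r : E) : G) = 0 := by
  refine tw_eq_zero F (a := s.a) ?_ ?_ <;> rw [s.ppart_eq_fst hq hr]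
  · exact s.maps q hq
  · exact fun h => hq0 (s.mem_Q0.2 ⟨hq, h⟩)

theorem exists_pow (F : Core P z) (q : ↥s.Q0) :
    ∃ i : ℕ, s.a * ((q : E) : G) * s.a⁻¹ = z ^ i := by
  obtain ⟨i, hi⟩ := (mem_powers_iff_mem_zpowers (x := z)).2 (s.mem_Q0.1 q.2).2
  exact ⟨i, hi.symm⟩

theorem tw_kappa (F : Core P z) {q : ↥s.Q0} {i : ℕ}
    (h : s.a * ((q : E) : G) * s.a⁻¹ = z ^ i) (r : ↥s.R) :
    tw z ((s.κ (q, r) : E) : G) = omega3 ^ i :=
  tw_eq F (a := s.a) (by rw [s.κ_apply, s.ppart_eq_fst q.2.1 r.2, h])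

/-- The linear character of the part over the centre. -/
def μ (F : Core P z) : (↥s.Q0 × ↥s.R) →* ℂ where
  toFun l := tw z ((s.κ l : E) : G)
  map_one' := by
    rw [map_one]
    simpa using tw_eq F (g := ((1 : E) : G)) (a := 1) (i := 0) (by
      rw [pow_zero, show ppart ((1 : E) : G) = 1 from ppart_eq
        ⟨1, by simp, Commute.one_left _, ⟨0, by simp⟩, by simp⟩]
      group)
  map_mul' := by
    rintro ⟨q, r⟩ ⟨q', r'⟩
    obtain ⟨i, hi⟩ := s.exists_pow F q
    obtain ⟨j, hj⟩ := s.exists_pow F q'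
    rw [s.tw_kappa F hi, s.tw_kappa F hj, ← pow_add]
    refine s.tw_kappa F ?_ _
    rw [pow_add, ← hi, ← hj]
    simp only [Subgroup.coe_mul]
    group

theorem μ_apply (F : Core P z) (l : ↥s.Q0 × ↥s.R) : s.μ F l = tw z ((s.κ l : E) : G) := rfl

theorem μ_generalized (F : Core P z) : IsGeneralizedCharacter (↥s.Q0 × ↥s.R) (s.μ F) :=
  isGeneralizedCharacter_of_isCharacter (CfsgLib.Induction.isCharacter_monoidHom _)

/-- The index of the part over the centre. -/
def n : ℕ := s.Q0.relIndex s.Q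

theorem Q0_le : s.Q0 ≤ s.Q := inf_le_left

theorem card_mul : Nat.card E = s.n * Nat.card (↥s.Q0 × ↥s.R) := by
  rw [s.card_eq, Nat.card_prod, ← mul_assoc, n, relIndex, index,
    ← Nat.card_congr (subgroupOfEquivOfLe s.Q0_le).toEquiv, ← card_eq_card_quotient_mul_card_subgroup]

/-- The inner product with a twisted function lives on the part over the centre. -/
theorem inner_tw (F : Core P z) (f : G → ℂ) (ξ : E → ℂ) :
    classInner (fun e : E => tw z (e : G) * f e) ξ =
      (s.n : ℂ)⁻¹ * classInner (fun l => s.μ F l * f ((s.κ l : E) : G))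
        (fun l => ξ (s.κ l)) := by
  simp only [classInner, s.card_mul, Nat.cast_mul, mul_inv, mul_assoc]
  congr 2
  symm
  refine Finset.sum_bij_ne_zero (fun l _ _ => s.κ l) (fun _ _ _ => Finset.mem_univ _) ?_ ?_ ?_
  · rintro ⟨q, r⟩ - - ⟨q', r'⟩ - - h
    obtain ⟨h1, h2⟩ := s.eq_of_mul_eq q.2.1 q'.2.1 r.2 r'.2 h
    exact Prod.ext (Subtype.ext h1) (Subtype.ext h2)
  · intro e _ he
    obtain ⟨q, hq, r, hr, rfl⟩ := s.split e
    have hq0 : q ∈ s.Q0 := by
      by_contra h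
      rw [s.tw_zero F hq h hr, zero_mul] at he
      exact he rfl
    exact ⟨(⟨q, hq0⟩, ⟨r, hr⟩), Finset.mem_univ _, he, rfl⟩
  · intro l _ _
    rfl

theorem n_dvd (F : Core P z) : s.n ∣ 9 := by
  let φ : ↥s.Q →* ↥(P : Subgroup G) :=
    { toFun := fun q => ⟨s.a * ((q : E) : G) * s.a⁻¹, s.maps _ q.2⟩
      map_one' := Subtype.ext (by simp)
      map_mul' := fun x y => Subtype.ext (by simp [mul_assoc]) }
  have h1 : s.Q0.subgroupOf s.Q = ((zpowers z).subgroupOf (P : Subgroup G)).comap φ := by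
    ext q
    rw [mem_subgroupOf, mem_comap, mem_subgroupOf, s.mem_Q0]
    exact ⟨fun h => h.2, fun h => ⟨q.2, h⟩⟩
  rw [n, relIndex, h1, index_comap]
  haveI : ((zpowers z).subgroupOf (P : Subgroup G)).Normal := ⟨fun x hx g => by
    rw [mem_subgroupOf] at hx ⊢
    simp only [Subgroup.coe_mul, InvMemClass.coe_inv]
    rwa [← (F.commute_zpowers g.2 hx).eq, mul_inv_cancel_right]⟩
  refine (relIndex_dvd_index_of_normal _ _).trans (dvd_of_eq ?_)
  have h2 := ((zpowers z).subgroupOf (P : Subgroup G)).card_mul_index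
  have h3 : Nat.card ↥((zpowers z).subgroupOf (P : Subgroup G)) = 3 := by
    rw [Nat.card_congr (subgroupOfEquivOfLe F.zpowers_le).toEquiv, Nat.card_zpowers, F.order_z]
  rw [h3, show Nat.card ↥(P : Subgroup G) = 27 from F.card] at h2
  omega

theorem n_ne (F : Core P z) : (s.n : ℂ) ≠ 0 := Nat.cast_ne_zero.2 fun h => by
  have := s.n_dvd F
  rw [h] at this
  norm_num at this

theorem orderOf_of_not_mem (F : Core P z) {q : E} (hq : q ∈ s.Q) (hq0 : q ∉ s.Q0) :
    q ^ 3 = 1 ∧ Nat.card ↥(zpowers q) = 3 := by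
  have h3 : q ^ 3 = 1 := by
    have h := F.exp _ (s.maps q hq)
    rw [conj_pow, conj_eq_one_iff] at h
    exact Subtype.ext (by simpa using h)
  haveI : Fact (Nat.Prime 3) := ⟨Nat.prime_three⟩
  exact ⟨h3, (Nat.card_zpowers q).trans (orderOf_eq_prime h3 fun h => hq0 (h ▸ one_mem _))⟩

theorem commute_kappa (F : Core P z) {q : E} (hq : q ∈ s.Q) (l : ↥s.Q0 × ↥s.R) :
    Commute q (s.κ l) := by
  refine Commute.mul_right (Subtype.ext ?_) (s.comm q hq _ l.2.2)
  have h := F.commute_zpowers (s.maps q hq) (s.mem_Q0.1 l.1.2).2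
  have h' := (Commute.conj_iff s.a).1 h
  exact h'.eq.symm

theorem kappa_ext (F : Core P z) {q : E} (hq : q ∈ s.Q) :
    ∃ ι : ↥(zpowers q) × (↥s.Q0 × ↥s.R) →* E, ∀ t l, ι (t, l) = (t : E) * s.κ l := by
  refine ⟨MonoidHom.noncommCoprod (zpowers q).subtype s.κ fun t l => ?_, fun t l => rfl⟩
  obtain ⟨k, hk⟩ := mem_zpowers_iff.1 t.2
  show Commute (t : E) (s.κ l)
  rw [← hk]
  exact (s.commute_kappa F hq l).zpow_left k

theorem cases_of_ne_one {q : E} (h3 : Nat.card ↥(zpowers q) = 3) {t : ↥(zpowers q)} (ht : t ≠ 1) :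
    ∃ k : ℕ, (k = 1 ∨ k = 2) ∧ (t : E) = q ^ k := by
  obtain ⟨k, hk, hk'⟩ := Finset.mem_image.1
    ((isOfFinOrder_of_finite q).mem_zpowers_iff_mem_range_orderOf.1 t.2)
  rw [← Nat.card_zpowers, h3, Finset.mem_range] at hk
  refine ⟨k, ?_, hk'.symm⟩
  interval_cases k
  · exact absurd (Subtype.ext (by rw [← hk', pow_zero]; rfl)) ht
  · exact Or.inl rfl
  · exact Or.inr rfl

end Slice

/-- Three times the twist is a generalised character. -/
theorem three_tw_generalized (F : Core P z) :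
    IsGeneralizedCharacter G (fun g => 3 * tw z g) := by
  haveI : Fact (Nat.Prime 3) := ⟨Nat.prime_three⟩
  refine CfsgLib.Brauer.isGeneralizedCharacter_of_restrictions
    (fun g c => congrArg (3 * ·) (tw_classFunction g c)) fun E p hp hE => ?_
  haveI : Fintype E := Fintype.ofFinite E
  obtain ⟨s⟩ := exists_slice P z E hp hE
  refine isGeneralizedCharacter_iff.2 ⟨fun e c => congrArg (3 * ·) (tw_classFunction (e : G) c),
    fun ξ => ?_⟩
  have he : (fun e : E => 3 * tw z (e : G)) = fun e : E => tw z (e : G) * (3 : ℂ) :=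
    funext fun e => mul_comm _ _
  have hin := s.inner_tw F (fun _ : G => (3 : ℂ)) (ξ : E → ℂ)
  rw [he, hin]
  obtain ⟨m, hm⟩ := classInner_generalized_int (s.μ_generalized F)
    (isGeneralizedCharacter_comp (isGeneralizedCharacter_irr ξ) s.κ)
  have hval : classInner (fun l => s.μ F l * (3 : ℂ)) (fun l => (ξ : E → ℂ) (s.κ l)) = 3 * (m : ℂ) := by
    rw [← hm]
    simp only [classInner, mul_comm _ (3 : ℂ), mul_assoc, ← Finset.mul_sum]
    ring
  rw [hval]
  obtain ⟨j, -, hj⟩ := (Nat.dvd_prime_pow Nat.prime_three).1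
    (show s.n ∣ 3 ^ 2 from s.n_dvd F)
  have hj2 : j ≤ 2 := by
    by_contra h
    have h1 : (3 : ℕ) ^ 3 ≤ 3 ^ j := Nat.pow_le_pow_right (by norm_num) (by omega)
    have h2 := Nat.le_of_dvd (by norm_num) (hj ▸ s.n_dvd F)
    omega
  interval_cases j
  · exact ⟨3 * m, by rw [hj]; simp⟩
  · exact ⟨m, by rw [hj]; simp⟩
  -- the Sylow subgroup of `E` covers `P` modulo the centre
  let φ : ↥s.Q →* ↥(P : Subgroup G) :=
    { toFun := fun q => ⟨s.a * ((q : E) : G) * s.a⁻¹, s.maps _ q.2⟩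
      map_one' := Subtype.ext (by simp)
      map_mul' := fun x y => Subtype.ext (by simp [mul_assoc]) }
  set Z := (zpowers z).subgroupOf (P : Subgroup G) with hZ
  haveI : Z.Normal := ⟨fun x hx g => by
    rw [mem_subgroupOf] at hx ⊢
    simp only [Subgroup.coe_mul, InvMemClass.coe_inv]
    rwa [← (F.commute_zpowers g.2 hx).eq, mul_inv_cancel_right]⟩
  have hrel : Z.relIndex φ.range = 9 := by
    have h1 : s.Q0.subgroupOf s.Q = Z.comap φ := by
      ext q
      rw [mem_subgroupOf, mem_comap, hZ, mem_subgroupOf, s.mem_Q0]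
      exact ⟨fun h => h.2, fun h => ⟨q.2, h⟩⟩
    have h2 := hj
    rw [Slice.n, relIndex, h1, index_comap] at h2
    rw [h2]; norm_num
  have hZidx : Z.index = 9 := by
    have h2 := Z.card_mul_index
    have h3 : Nat.card Z = 3 := by
      rw [hZ, Nat.card_congr (subgroupOfEquivOfLe F.zpowers_le).toEquiv, Nat.card_zpowers, F.order_z]
    rw [h3, show Nat.card ↥(P : Subgroup G) = 27 from F.card] at h2
    omega
  have htop : φ.range ⊔ Z = ⊤ := by
    have h1 := relIndex_mul_index (le_sup_right : Z ≤ φ.range ⊔ Z)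
    rw [relIndex_sup_right, hrel, hZidx] at h1
    exact index_eq_one.1 (by omega)
  have hdec : ∀ x ∈ (P : Subgroup G), ∃ q ∈ s.Q, ∃ w ∈ zpowers z, x = s.a * (q : G) * s.a⁻¹ * w := by
    intro x hx
    obtain ⟨u, ⟨q, rfl⟩, w, hw, h⟩ := Subgroup.mem_sup_of_normal_right.1
      (htop ▸ mem_top _ : (⟨x, hx⟩ : ↥(P : Subgroup G)) ∈ φ.range ⊔ Z)
    exact ⟨q, q.2, w, hw, (congrArg Subtype.val h).symm⟩
  obtain ⟨x₀, hx₀, hx₀Z⟩ : ∃ x ∈ (P : Subgroup G), x ∉ zpowers z := by
    by_contra! h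
    have := Subgroup.card_le_of_le (fun x hx => h x hx : (P : Subgroup G) ≤ zpowers z)
    rw [Nat.card_zpowers, F.order_z, F.card] at this
    norm_num at this
  obtain ⟨q, hq, w, hw, he₀⟩ := hdec x₀ hx₀
  set r := s.a * (q : G) * s.a⁻¹ with hr
  have hrP : r ∈ (P : Subgroup G) := s.maps q hq
  have hrZ : r ∉ zpowers z := fun h => hx₀Z (he₀ ▸ mul_mem h hw)
  have hq0 : q ∉ s.Q0 := fun h => hrZ (s.mem_Q0.1 h).2
  obtain ⟨y, hy, hyr⟩ := F.push r hrP hrZ
  obtain ⟨q', hq', w', hw', he'⟩ := hdec y hy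
  set c : E := q⁻¹ * (q' * q * q'⁻¹) with hc
  have hcz : s.a * (c : G) * s.a⁻¹ = z := by
    have h1 : s.a * (q' : G) * s.a⁻¹ * r * (s.a * (q' : G) * s.a⁻¹)⁻¹ = r * z := by
      set r' := s.a * (q' : G) * s.a⁻¹
      have hwr : Commute w' r := F.commute_zpowers hrP hw'
      rw [← hyr, he']
      calc r' * r * r'⁻¹ = r' * (r * (w' * w'⁻¹)) * r'⁻¹ := by group
        _ = r' * (w' * r * w'⁻¹) * r'⁻¹ := by rw [← mul_assoc r, ← hwr.eq]
        _ = _ := by group
    calc s.a * (c : G) * s.a⁻¹ = r⁻¹ * (s.a * (q' : G) * s.a⁻¹ * r * (s.a * (q' : G) * s.a⁻¹)⁻¹) := by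
          rw [hc, hr]
          simp only [Subgroup.coe_mul, InvMemClass.coe_inv]
          group
      _ = z := by rw [h1]; group
  have hcQ0 : c ∈ s.Q0 := s.mem_Q0.2 ⟨mul_mem (inv_mem hq) (mul_mem (mul_mem hq' hq) (inv_mem hq')),
    (by rw [hcz]; exact mem_zpowers z)⟩
  obtain ⟨hq3, hqc⟩ := s.orderOf_of_not_mem F hq hq0
  obtain ⟨ι, hι⟩ := s.kappa_ext F hq
  obtain ⟨m', hm'⟩ := three_dvd_inner (A := ↥(zpowers q)) hqc ι (f := (ξ : E → ℂ))
    (isGeneralizedCharacter_irr ξ) (s.μ_generalized F) fun t ht => by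
      obtain ⟨k, hk, htk⟩ := Slice.cases_of_ne_one hqc ht
      set S := ∑ l : ↥s.Q0 × ↥s.R, (ξ : E → ℂ) (ι (t, l)) * conj (s.μ F l)
      set d : ↥s.Q0 × ↥s.R := (⟨c ^ k, pow_mem hcQ0 k⟩, 1)
      have hμd : s.μ F d = omega3 ^ k := by
        refine s.tw_kappa F ?_ _
        calc _ = s.a * (c : G) ^ k * s.a⁻¹ := rfl
          _ = (s.a * (c : G) * s.a⁻¹) ^ k := conj_pow.symm
          _ = z ^ k := congrArg (· ^ k) hcz
      have hshift : S = conj (omega3 ^ k) * S := by
        calc S = ∑ l, (ξ : E → ℂ) (ι (t, d * l)) * conj (s.μ F (d * l)) :=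
              (Equiv.sum_comp (Equiv.mulLeft d) _).symm
          _ = ∑ l, conj (omega3 ^ k) * ((ξ : E → ℂ) (ι (t, l)) * conj (s.μ F l)) := by
              refine Finset.sum_congr rfl fun l _ => ?_
              have e : ι (t, d * l) = q' * ι (t, l) * q'⁻¹ := by
                rw [hι, hι, htk, map_mul, show s.κ d = c ^ k from mul_one (c ^ k)]
                have h1 : q ^ k * c ^ k = q' * q ^ k * q'⁻¹ := by
                  have hcomm : Commute q c := by
                    have h' := s.commute_kappa F hq (⟨c, hcQ0⟩, 1)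
                    rwa [show s.κ (⟨c, hcQ0⟩, 1) = c from mul_one c] at h'
                  rw [← hcomm.mul_pow, ← conj_pow, hc, mul_inv_cancel_left]
                rw [← mul_assoc, h1]
                calc q' * q ^ k * q'⁻¹ * s.κ l = q' * q ^ k * (q'⁻¹ * s.κ l) := by group
                  _ = q' * q ^ k * (s.κ l * q'⁻¹) := by
                    rw [((s.commute_kappa F hq' l).inv_left).eq]
                  _ = _ := by group
              rw [e, irr_isClassFunction ξ, map_mul, hμd, map_mul]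
              ring
          _ = conj (omega3 ^ k) * S := by rw [← Finset.mul_sum]
      have hne : conj (omega3 ^ k) ≠ 1 := fun h => by
        have h' : omega3 ^ k = 1 := by
          have := congrArg conj h
          rwa [Complex.conj_conj, map_one] at this
        exact omega3_primitive.pow_ne_one_of_pos_of_lt (by omega) (by omega) h'
      by_contra hS
      exact hne (mul_right_cancel₀ hS (by rw [← hshift, one_mul]))
  refine ⟨m', ?_⟩
  have hμξ : classInner (fun l => (ξ : E → ℂ) (ι (1, l))) (s.μ F) = conj (m : ℂ) := by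
    rw [← hm, ← CfsgLib.Induction.classInner_swap]
    simp only [hι, OneMemClass.coe_one, one_mul]
  rw [hm', map_intCast] at hμξ
  rw [hj, ← hμξ]
  push_cast
  ring

/-- The twist of `f * conj f` for `f` vanishing off the central sections. -/
theorem tw_sq_generalized (F : Core P z) {f : G → ℂ} (hf : IsGeneralizedCharacter G f)
    (h0 : ∀ g, tw z g = 0 → f g = 0) :
    IsGeneralizedCharacter G (fun g => tw z g * (f g * conj (f g))) := by
  haveI : Fact (Nat.Prime 3) := ⟨Nat.prime_three⟩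
  have hfc := isClassFunction_of_isGeneralizedCharacter hf
  refine CfsgLib.Brauer.isGeneralizedCharacter_of_restrictions
    (fun g c => by simp only [tw_classFunction g c, hfc g c]) fun E p hp hE => ?_
  haveI : Fintype E := Fintype.ofFinite E
  obtain ⟨s⟩ := exists_slice P z E hp hE
  refine isGeneralizedCharacter_iff.2 ⟨fun e c => by
    simp only [Subgroup.coe_mul, InvMemClass.coe_inv, tw_classFunction (e : G) c, hfc (e : G) c],
    fun ξ => ?_⟩
  rw [s.inner_tw F (fun g => f g * conj (f g))]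
  have hfE : IsGeneralizedCharacter E (fun e : E => f e) :=
    isGeneralizedCharacter_comp hf E.subtype
  have hfL := isGeneralizedCharacter_comp hfE s.κ
  have hξL := isGeneralizedCharacter_comp (isGeneralizedCharacter_irr ξ) s.κ
  by_cases h1 : s.n = 1
  · obtain ⟨m, hm⟩ := classInner_generalized_int (isGeneralizedCharacter_mul (s.μ_generalized F)
      (isGeneralizedCharacter_mul hfL (isGeneralizedCharacter_conj hfL))) hξL
    exact ⟨m, by rw [h1, Nat.cast_one, inv_one, one_mul]; exact hm⟩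
  obtain ⟨q, hq, hq0⟩ : ∃ q ∈ s.Q, q ∉ s.Q0 := by
    by_contra! h
    exact h1 (relIndex_eq_one.2 h)
  obtain ⟨hq3, hqc⟩ := s.orderOf_of_not_mem F hq hq0
  obtain ⟨ι, hι⟩ := s.kappa_ext F hq
  set g : ↥s.Q0 × ↥s.R → ℂ := fun l => f ((s.κ l : E) : G) / 3 with hg
  have hgg : IsGeneralizedCharacter (↥s.Q0 × ↥s.R) g := by
    refine isGeneralizedCharacter_iff.2 ⟨fun l c => by
      rw [hg]
      simp only [map_mul, map_inv, Subgroup.coe_mul, InvMemClass.coe_inv, hfc _ _], fun ψ => ?_⟩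
    obtain ⟨m, hm⟩ := three_dvd_inner (A := ↥(zpowers q)) hqc ι (f := fun e : E => f e) hfE
      (isGeneralizedCharacter_irr ψ) fun t ht => by
        obtain ⟨k, hk, htk⟩ := Slice.cases_of_ne_one hqc ht
        refine Finset.sum_eq_zero fun l _ => mul_eq_zero_of_left (h0 _ ?_) _
        obtain ⟨q0, r⟩ := l
        rw [hι, htk, s.κ_apply, ← mul_assoc]
        refine s.tw_zero F (mul_mem (pow_mem hq k) q0.2.1) (fun h => hq0 ?_) r.2
        have h' : q ^ k ∈ s.Q0 := (Subgroup.mul_mem_cancel_right _ q0.2).1 h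
        rcases hk with rfl | rfl
        · rwa [pow_one] at h'
        · have h4 := pow_mem h' 2
          rwa [← pow_mul, show 2 * 2 = 3 + 1 from rfl, pow_succ, hq3, one_mul] at h4
    refine ⟨m, ?_⟩
    simp only [hι, OneMemClass.coe_one, one_mul] at hm
    rw [hg, show (fun l => f ((s.κ l : E) : G) / 3) = (3 : ℂ)⁻¹ • (fun l => f ((s.κ l : E) : G)) from
      funext fun l => by simp [div_eq_inv_mul], classInner_smul_left, hm]
    push_cast
    ring
  obtain ⟨m, hm⟩ := classInner_generalized_int (isGeneralizedCharacter_mul (s.μ_generalized F)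
    (isGeneralizedCharacter_mul hgg (isGeneralizedCharacter_conj hgg))) hξL
  obtain ⟨d, hd⟩ := s.n_dvd F
  refine ⟨d * m, ?_⟩
  have hn := s.n_ne F
  have h9 : ((9 : ℕ) : ℂ) = (s.n : ℂ) * d := by rw [hd, Nat.cast_mul]
  push_cast at h9 ⊢
  rw [← hm]
  simp only [classInner, hg, Pi.mul_apply, map_div₀, map_ofNat, Finset.mul_sum]
  refine Finset.sum_congr rfl fun l _ => ?_
  field_simp
  linear_combination (s.μ F l * f ↑(s.κ l) * conj (f ↑(s.κ l)) * conj ((ξ : E → ℂ) (s.κ l))) * h9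

end CfsgLib.ExtraTwentySeven
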